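import Mathlib

/-!
Transvections whose vectors add cyclically generate a symmetric group of odd degree on its
even-weight permutation module.
-/

set_option autoImplicit false
set_option linter.unusedSectionVars false

namespace Cfsg.Agent.FFPM

open Finset

/-- The action of a scalar modulo two on an element of order two. -/
def sm {V : Type*} [AddCommGroup V] (a : ZMod 2) (u : V) : V := if a = 0 then 0 else u

theorem sm_zero {V : Type*} [AddCommGroup V] (u : V) : sm (0 : ZMod 2) u = 0 := if_pos rfl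

theorem sm_one {V : Type*} [AddCommGroup V] (u : V) : sm (1 : ZMod 2) u = u :=
  if_neg (by decide)

theorem zmod_two_cases (a : ZMod 2) : a = 0 ∨ a = 1 := by
  revert a; decide

/-- The first `N` coordinates. -/
def res {N : ℕ} : (Fin (N + 1) → ZMod 2) →+ (Fin N → ZMod 2) where
  toFun w := fun i => w i.castSucc
  map_zero' := rfl
  map_add' _ _ := rfl

theorem last_eq {N : ℕ} {w : Fin (N + 1) → ZMod 2} (hw : ∑ i, w i = 0) :
    w (Fin.last N) = ∑ i, res w i := by
  rw [Fin.sum_univ_castSucc] at hw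
  exact (CharTwo.add_eq_zero.1 hw).symm

/-- Extension to an even vector. -/
def extp {N : ℕ} (c : Fin N → ZMod 2) : Fin (N + 1) → ZMod 2 := Fin.snoc c (∑ i, c i)

theorem res_extp {N : ℕ} (c : Fin N → ZMod 2) : res (extp c) = c :=
  funext fun i => by simp [res, extp]

theorem sum_extp {N : ℕ} (c : Fin N → ZMod 2) : ∑ i, extp c i = 0 := by
  rw [Fin.sum_univ_castSucc]
  simp [extp, CharTwo.add_self_eq_zero]

theorem extp_res {N : ℕ} {w : Fin (N + 1) → ZMod 2} (hw : ∑ i, w i = 0) : extp (res w) = w := by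
  funext i
  refine Fin.lastCases ?_ (fun j => ?_) i
  · simp [extp, last_eq hw]
  · simp [extp, res]

variable {H : Type*} [Group H] [Finite H] {V : Type*} [AddCommGroup V] [Finite V]
  [DistribMulAction H V]

/-- The hypotheses on the transvections. -/
structure Stars {N : ℕ} (x : Fin N → H) (e : Fin N → V) : Prop where
  even : Even N
  pos : 2 ≤ N
  two : ∀ v : V, v + v = 0
  move : ∀ k v, x k • v = v ∨ x k • v = v + e k
  ne_zero : ∀ k, e k ≠ 0
  self : ∀ k, x k • e k = e k
  off : ∀ k l, l ≠ k → x k • e l = e l + e k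

namespace Stars

variable {N : ℕ} {x : Fin N → H} {e : Fin N → V} (s : Stars x e)
include s

theorem sm_add (a b : ZMod 2) (u : V) : sm (a + b) u = sm a u + sm b u := by
  rcases zmod_two_cases a with rfl | rfl <;> rcases zmod_two_cases b with rfl | rfl
  · simp [sm_zero]
  · simp [sm_zero, sm_one]
  · simp [sm_zero, sm_one]
  · rw [show (1 : ZMod 2) + 1 = 0 by decide, sm_zero, sm_one, s.two]

/-- Coefficients to vectors. -/
def f : (Fin N → ZMod 2) →+ V where
  toFun c := ∑ l, sm (c l) (e l)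
  map_zero' := by simp [sm_zero]
  map_add' c d := by simp only [Pi.add_apply, s.sm_add, sum_add_distrib]

/-- The sum of the coefficients other than the `k`-th. -/
theorem smul_f (k : Fin N) (c : Fin N → ZMod 2) :
    x k • s.f c = s.f c + sm (∑ l, c l + c k) (e k) := by
  have h1 : ∀ l, x k • sm (c l) (e l) = sm (c l) (e l) + sm (if l = k then 0 else c l) (e k) := by
    intro l
    rcases zmod_two_cases (c l) with h | h
    · rw [h, sm_zero, smul_zero, ite_self, sm_zero, add_zero]
    · rw [h, sm_one]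
      by_cases hl : l = k
      · rw [if_pos hl, sm_zero, add_zero, hl, s.self]
      · rw [if_neg hl, sm_one, s.off k l hl]
  have h2 : ∀ g : Fin N → ZMod 2, ∑ l, sm (g l) (e k) = sm (∑ l, g l) (e k) := fun g =>
    (map_sum (AddMonoidHom.mk' (fun a : ZMod 2 => sm a (e k)) fun a b => s.sm_add a b _) g _).symm
  show x k • (∑ l, sm (c l) (e l)) = (∑ l, sm (c l) (e l)) + _
  rw [smul_sum, sum_congr rfl fun l _ => h1 l, sum_add_distrib, h2]
  congr 2
  have h3 : ∀ l, (if l = k then 0 else c l) = c l + (if l = k then c l else 0) := fun l => by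
    split
    · exact (CharTwo.add_self_eq_zero _).symm
    · rw [add_zero]
  rw [sum_congr rfl fun l _ => h3 l, sum_add_distrib, sum_ite_eq' univ k, if_pos (mem_univ k)]

theorem sm_eq_zero {a : ZMod 2} {k : Fin N} (h : sm a (e k) = 0) : a = 0 := by
  rcases zmod_two_cases a with ha | ha
  · exact ha
  · rw [ha, sm_one] at h
    exact absurd h (s.ne_zero k)

theorem natCast_N : (N : ZMod 2) = 0 :=
  (ZMod.natCast_eq_zero_iff_even).2 s.even

theorem eq_zero_of_fixed {c : Fin N → ZMod 2} (h : ∀ k, x k • s.f c = s.f c) : c = 0 := by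
  have h1 : ∀ k, c k = ∑ l, c l := fun k => by
    have h2 := h k
    rw [s.smul_f, add_eq_left] at h2
    exact (CharTwo.add_eq_zero.1 (s.sm_eq_zero h2)).symm
  have h3 : ∑ l, c l = 0 := by
    rw [sum_congr rfl fun k _ => h1 k, sum_const, card_univ, Fintype.card_fin, nsmul_eq_mul,
      s.natCast_N, zero_mul]
  exact funext fun k => (h1 k).trans h3

theorem f_injective : Function.Injective s.f :=
  (injective_iff_map_eq_zero _).2 fun c hc => s.eq_zero_of_fixed fun k => by
    rw [hc, smul_zero]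

theorem exists_sub_fixed (v : V) : ∃ c, ∀ k, x k • (v - s.f c) = v - s.f c := by
  classical
  let φ : Fin N → ZMod 2 := fun k => if x k • v = v then 0 else 1
  have hφ : ∀ k, x k • v = v + sm (φ k) (e k) := by
    intro k
    by_cases h : x k • v = v
    · simp only [φ, if_pos h, sm_zero, add_zero, h]
    · rw [show φ k = 1 from if_neg h, sm_one]
      exact (s.move k v).resolve_left h
  refine ⟨fun k => φ k + ∑ l, φ l, fun k => ?_⟩
  rw [smul_sub, hφ, s.smul_f]
  have : (∑ l, (φ l + ∑ j, φ j)) + (φ k + ∑ l, φ l) = φ k := by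
    rw [sum_add_distrib, sum_const, card_univ, Fintype.card_fin, nsmul_eq_mul, s.natCast_N,
      zero_mul, add_zero, add_left_comm, CharTwo.add_self_eq_zero, add_zero]
  rw [this]
  abel

theorem smul_res (k : Fin N) {w : Fin (N + 1) → ZMod 2} (hw : ∑ i, w i = 0) :
    x k • s.f (res w) =
      s.f (res fun i => w (Equiv.swap k.castSucc (Fin.last N) i)) := by
  classical
  rw [s.smul_f, ← last_eq hw]
  have h1 : sm (w (Fin.last N) + res w k) (e k) =
      s.f (Pi.single k (w (Fin.last N) + res w k)) := by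
    show _ = ∑ l, sm _ (e l)
    rw [Finset.sum_eq_single k (fun l _ hl => by rw [Pi.single_eq_of_ne hl, sm_zero])
      (fun h => absurd (mem_univ k) h), Pi.single_eq_same]
  rw [h1, ← map_add]
  congr 1
  funext l
  by_cases hl : l = k
  · subst hl
    rw [Pi.add_apply, Pi.single_eq_same,
      show res (fun i => w (Equiv.swap l.castSucc (Fin.last N) i)) l =
      w (Equiv.swap l.castSucc (Fin.last N) l.castSucc) from rfl, Equiv.swap_apply_left,
      add_comm (w (Fin.last N)), ← add_assoc]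
    show res w l + res w l + _ = _
    rw [CharTwo.add_self_eq_zero, zero_add]
  · rw [Pi.add_apply, Pi.single_eq_of_ne hl, add_zero]
    show _ = w (Equiv.swap k.castSucc (Fin.last N) l.castSucc)
    rw [Equiv.swap_apply_of_ne_of_ne (by simpa using hl) (Fin.castSucc_lt_last l).ne]
    rfl

/-- `z` acts as the permutation `σ`. -/
def ActsAs (z : H) (σ : Equiv.Perm (Fin (N + 1))) : Prop :=
  ∀ w : Fin (N + 1) → ZMod 2, ∑ i, w i = 0 →
    z • s.f (res w) = s.f (res fun i => w (σ⁻¹ i))

theorem actsAs_mul {z z' : H} {σ σ' : Equiv.Perm (Fin (N + 1))} (h : s.ActsAs z σ)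
    (h' : s.ActsAs z' σ') : s.ActsAs (z * z') (σ * σ') := fun w hw => by
  rw [mul_smul, h' w hw, h _ (by rw [Equiv.sum_comp σ'⁻¹ w]; exact hw)]
  rfl

theorem actsAs_inv {z : H} {σ : Equiv.Perm (Fin (N + 1))} (h : s.ActsAs z σ) :
    s.ActsAs z⁻¹ σ⁻¹ := fun w hw => by
  rw [inv_smul_eq_iff, h _ (by rw [Equiv.sum_comp (σ⁻¹)⁻¹ w]; exact hw)]
  congr 2
  funext i
  simp

theorem actsAs_unique {z : H} {σ τ : Equiv.Perm (Fin (N + 1))} (h : s.ActsAs z σ)
    (h' : s.ActsAs z τ) : σ = τ := by
  classical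
  have key : ∀ w : Fin (N + 1) → ZMod 2, ∑ i, w i = 0 → ∀ i, w (σ⁻¹ i) = w (τ⁻¹ i) := by
    intro w hw i
    have h1 := s.f_injective ((h w hw).symm.trans (h' w hw))
    have h2 := extp_res (w := fun i => w (σ⁻¹ i)) (by rw [Equiv.sum_comp σ⁻¹ w]; exact hw)
    rw [h1, extp_res (w := fun i => w (τ⁻¹ i)) (by rw [Equiv.sum_comp τ⁻¹ w]; exact hw)] at h2
    exact (congrFun h2 i).symm
  refine inv_injective (Equiv.ext fun i => ?_)
  by_contra hne
  obtain ⟨k, -, hk⟩ := exists_mem_notMem_of_card_lt_card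
    (s := ({σ⁻¹ i, τ⁻¹ i} : Finset (Fin (N + 1)))) (t := univ) (by
      rw [card_univ, Fintype.card_fin]
      have := Finset.card_le_two (a := σ⁻¹ i) (b := τ⁻¹ i)
      have := s.pos
      omega)
  simp only [mem_insert, mem_singleton, not_or] at hk
  have h1 := key (Pi.single (σ⁻¹ i) 1 + Pi.single k 1) (by
    simp [sum_add_distrib, CharTwo.add_self_eq_zero]) i
  generalize σ⁻¹ i = u, τ⁻¹ i = t at h1 hk hne
  simp [Pi.single_apply, Ne.symm hk.1, Ne.symm hk.2, Ne.symm hne] at h1

theorem exists_actsAs {z : H} (hz : z ∈ Subgroup.closure (Set.range x)) :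
    ∃ σ, s.ActsAs z σ := by
  induction hz using Subgroup.closure_induction with
  | mem z hz =>
    obtain ⟨k, rfl⟩ := hz
    exact ⟨Equiv.swap k.castSucc (Fin.last N), fun w hw => by
      rw [Equiv.swap_inv]; exact s.smul_res k hw⟩
  | one => exact ⟨1, fun w _ => by rw [one_smul]; rfl⟩
  | mul a b _ _ ha hb =>
    obtain ⟨σ, hσ⟩ := ha
    obtain ⟨τ, hτ⟩ := hb
    exact ⟨σ * τ, s.actsAs_mul hσ hτ⟩
  | inv a _ ha =>
    obtain ⟨σ, hσ⟩ := ha
    exact ⟨σ⁻¹, s.actsAs_inv hσ⟩

/-- The structure of the generated group. -/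
theorem exists_iso (hker : ∀ z ∈ Subgroup.closure (Set.range x),
    (∀ c, z • s.f c = s.f c) → z = 1) :
    ∃ ρ : ↥(Subgroup.closure (Set.range x)) ≃* Equiv.Perm (Fin (N + 1)),
      ∀ z : ↥(Subgroup.closure (Set.range x)), s.ActsAs (z : H) (ρ z) := by
  classical
  let ρ : ↥(Subgroup.closure (Set.range x)) →* Equiv.Perm (Fin (N + 1)) :=
    MonoidHom.mk' (fun z => (s.exists_actsAs z.2).choose) fun a b =>
      s.actsAs_unique (s.exists_actsAs (a * b).2).choose_spec
        (s.actsAs_mul (s.exists_actsAs a.2).choose_spec (s.exists_actsAs b.2).choose_spec)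
  have hρ : ∀ z : ↥(Subgroup.closure (Set.range x)), s.ActsAs (z : H) (ρ z) := fun z => (s.exists_actsAs z.2).choose_spec
  refine ⟨MulEquiv.ofBijective ρ ⟨?_, ?_⟩, hρ⟩
  · refine (injective_iff_map_eq_one ρ).2 fun z hz => Subtype.ext (hker z z.2 fun c => ?_)
    have := hρ z (extp c) (sum_extp c)
    rw [hz, res_extp] at this
    rw [this]
    exact congrArg _ (res_extp c)
  · rw [← MonoidHom.range_eq_top, eq_top_iff, ← Equiv.Perm.closure_isSwap,
      Subgroup.closure_le]
    rintro _ ⟨a, b, hab, rfl⟩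
    have hstar : ∀ c, c ≠ Fin.last N → Equiv.swap c (Fin.last N) ∈ ρ.range := by
      intro c hc
      obtain ⟨k, rfl⟩ := Fin.exists_castSucc_eq.2 hc
      refine ⟨⟨x k, Subgroup.subset_closure ⟨k, rfl⟩⟩, s.actsAs_unique (hρ _) fun w hw => ?_⟩
      rw [Equiv.swap_inv]
      exact s.smul_res k hw
    by_cases ha : a = Fin.last N
    · subst ha
      rw [Equiv.swap_comm]
      exact hstar b (Ne.symm hab)
    by_cases hb : b = Fin.last N
    · subst hb
      exact hstar a ha
    have := ρ.range.mul_mem (ρ.range.mul_mem (hstar a ha) (hstar b hb)) (hstar a ha)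
    have e := Equiv.swap_mul_swap_mul_swap (x := b) (y := Fin.last N) (z := a) hb hab.symm
    rw [Equiv.swap_comm b (Fin.last N), Equiv.swap_comm (Fin.last N) a] at e
    rw [SetLike.mem_coe, ← e]
    rwa [Equiv.swap_comm b (Fin.last N)] at this

end Stars

end Cfsg.Agent.FFPM
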