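import Cfsg.Agent.Lib.Thompson.FFPM.Pencil

/-!
Offenders of order two: the transvection vectors, and linkage is an equivalence.
-/

set_option autoImplicit false
set_option linter.unusedSectionVars false

namespace Cfsg.Agent.FFPM

open FFSL2

variable {H : Type*} [Group H] [Finite H] {V : Type*} [AddCommGroup V] [Finite V]
  [DistribMulAction H V] {p : ℕ} [hpp : Fact p.Prime]

open scoped Classical in
/-- The nontrivial element of a group of order two. -/
noncomputable def el (X : Subgroup H) : H := if e : ∃ x ∈ X, x ≠ 1 then e.choose else 1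

open scoped Classical in
/-- The vector a transvection adds. -/
noncomputable def rv (V : Type*) [AddCommGroup V] [DistribMulAction H V] (X : Subgroup H) : V :=
  if e : ∃ v : V, el X • v - v ≠ 0 then el X • e.choose - e.choose else 0

namespace Mem

variable {X Y : Subgroup H}

theorem el_spec (hX : Mem V 2 X) : el X ∈ X ∧ el X ≠ 1 := by
  rw [el, dif_pos hX.exists_ne_one]
  exact hX.exists_ne_one.choose_spec

theorem eq_el (hX : Mem V 2 X) {x : H} (hx : x ∈ X) : x = 1 ∨ x = el X := by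
  obtain ⟨h1, h2⟩ := hX.el_spec
  by_contra! hne
  have h3 : ({1, el X, x} : Set H).ncard ≤ (X : Set H).ncard :=
    Set.ncard_le_ncard (by rintro y (rfl | rfl | rfl) <;> first | exact X.one_mem | assumption)
      (Set.toFinite _)
  rw [← Nat.card_coe_set_eq (X : Set H), show Nat.card ↥(X : Set H) = 2 from hX.card,
    Set.ncard_insert_of_notMem (by simp [Ne.symm hne.1, Ne.symm h2]) (Set.toFinite _),
    Set.ncard_pair (Ne.symm hne.2)] at h3
  omega

theorem mem_fix_iff (hX : Mem V 2 X) {v : V} :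
    v ∈ (fix X : AddSubgroup V) ↔ el X • v = v := by
  refine ⟨fun h => h _ hX.el_spec.1, fun h x hx => ?_⟩
  rcases hX.eq_el hx with rfl | rfl
  · exact one_smul H v
  · exact h

theorem sub_add_mem (hX : Mem V 2 X) {u v : V} (hu : u ∉ (fix X : AddSubgroup V))
    (hv : v ∉ (fix X : AddSubgroup V)) : v - u ∈ (fix X : AddSubgroup V) := by
  have h2 : AddSubgroup.index (fix X : AddSubgroup V) = 2 := by
    have h1 := AddSubgroup.index_mul_card (fix X : AddSubgroup V)
    rw [← hX.eq] at h1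
    exact Nat.eq_of_mul_eq_mul_right Nat.card_pos h1
  rw [sub_eq_add_neg, AddSubgroup.add_mem_iff_of_index_two h2, neg_mem_iff]
  exact ⟨fun h => absurd h hv, fun h => absurd h hu⟩

theorem exists_not_fix (hX : Mem V 2 X) : ∃ v, v ∉ (fix X : AddSubgroup V) := by
  obtain ⟨v, -, hv⟩ := SetLike.exists_of_lt (lt_top_iff_ne_top.2 hX.fix_ne_top)
  exact ⟨v, hv⟩

theorem rv_spec (hX : Mem V 2 X) : rv V X ≠ 0 ∧
    ∀ v, v ∉ (fix X : AddSubgroup V) → el X • v = v + rv V X := by
  have e : ∃ v : V, el X • v - v ≠ 0 := by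
    obtain ⟨v, hv⟩ := hX.exists_not_fix
    exact ⟨v, fun h => hv (hX.mem_fix_iff.2 (sub_eq_zero.1 h))⟩
  have h0 := e.choose_spec
  rw [rv, dif_pos e]
  generalize e.choose = u₀ at h0 ⊢
  refine ⟨h0, fun v hv => ?_⟩
  have hu : u₀ ∉ (fix X : AddSubgroup V) := fun h => h0 (sub_eq_zero.2 (hX.mem_fix_iff.1 h))
  have h1 := hX.mem_fix_iff.1 (hX.sub_add_mem hu hv)
  rw [smul_sub, sub_eq_sub_iff_add_eq_add] at h1
  rw [← sub_eq_zero, ← sub_eq_zero.2 h1]
  abel

theorem rv_mem (hX : Mem V 2 X) : rv V X ∈ (fix X : AddSubgroup V) := by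
  obtain ⟨v, hv⟩ := hX.exists_not_fix
  have := hX.quad _ hX.el_spec.1 v
  rwa [hX.rv_spec.2 v hv, add_sub_cancel_left] at this

theorem el_cj (hX : Mem V 2 X) (z : H) : el (cj z X) = z * el X * z⁻¹ := by
  have h1 : z * el X * z⁻¹ ∈ cj z X := mem_cj.2 (by simpa [mul_assoc] using hX.el_spec.1)
  rcases (hX.conj z).eq_el h1 with e | e
  · exact absurd (by simpa using e) hX.el_spec.2
  · exact e.symm

theorem rv_cj (hX : Mem V 2 X) (z : H) : rv V (cj z X) = z • rv V X := by
  obtain ⟨v, hv⟩ := hX.exists_not_fix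
  have hv' : z • v ∉ (fix (cj z X) : AddSubgroup V) := fun h => hv (by
    have := mem_fix_cj.1 h
    rwa [inv_smul_smul] at this)
  have h1 := (hX.conj z).rv_spec.2 _ hv'
  rw [hX.el_cj, mul_smul, mul_smul, inv_smul_smul, hX.rv_spec.2 v hv, smul_add] at h1
  exact (add_left_cancel h1).symm

theorem el_smul_el (hX : Mem V 2 X) : el X * el X = 1 := by
  rcases hX.eq_el (X.mul_mem hX.el_spec.1 hX.el_spec.1) with e | e
  · exact e
  · exact absurd (mul_eq_left.1 e) hX.el_spec.2

variable (hfaith : ∀ z : H, (∀ v : V, z • v = v) → z = 1) (hno : NoOver H V)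
include hfaith hno

theorem smul_rv_com (hX : Mem V 2 X) (hY : Mem V 2 Y) (h : Com X Y) :
    el X • rv V Y = rv V Y := by
  obtain ⟨v, hv⟩ := hY.exists_not_fix
  have := orth_of_com hfaith hno hY hX h.symm _ hY.el_spec.1 v
  rw [hY.rv_spec.2 v hv, add_sub_cancel_left] at this
  exact hX.mem_fix_iff.1 this

theorem com_of_smul_rv (hX : Mem V 2 X) (hY : Mem V 2 Y) (h : el X • rv V Y = rv V Y) :
    Com X Y := by
  refine (com_of_orth_left hfaith hno hY hX fun y hy v => ?_).symm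
  rcases hY.eq_el hy with rfl | rfl
  · rw [one_smul, sub_self]; exact zero_mem _
  by_cases hv : v ∈ (fix Y : AddSubgroup V)
  · rw [hY.mem_fix_iff.1 hv, sub_self]; exact zero_mem _
  · rw [hY.rv_spec.2 v hv, add_sub_cancel_left]
    exact hX.mem_fix_iff.2 h

theorem smul_rv_noncom (hX : Mem V 2 X) (hY : Mem V 2 Y) (h : ¬ Com X Y) :
    el X • rv V Y = rv V Y + rv V X :=
  hX.rv_spec.2 _ fun e => h (com_of_smul_rv hfaith hno hX hY (hX.mem_fix_iff.1 e))

end Mem

/-- A star: a member of a pencil other than its centre. -/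
def Star (V : Type*) [AddCommGroup V] [DistribMulAction H V] (T : Sylow p H) (g : H)
    (A X : Subgroup H) : Prop :=
  A ∈ mems V 2 T g ∧ X ∈ line V 2 T g A ∧ X ≠ A

namespace Conf

variable {T : Sylow p H} {M : Subgroup H} (h : Conf V 2 T M) {g : H}
include h

theorem star_mem {A X : Subgroup H} (hX : Star V T g A X) : Mem V 2 X := hX.2.1.1

theorem exists_star {A : Subgroup H} (hA : A ∈ mems V 2 T g) : ∃ X, Star V T g A X := by
  obtain ⟨X, hX, hne, -⟩ := h.exists_third hA (Y := A) (h.self_mem_line hA)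
  exact ⟨X, hA, hX, hne⟩

/-- The two stars of a centre. -/
theorem star_swap {A X : Subgroup H} (hX : Star V T g A X) :
    Star V T g A (cj (el A) X) ∧ cj (el A) X ≠ X ∧
      (∀ Y, Star V T g A Y → Y = X ∨ Y = cj (el A) X) ∧
      rv V (cj (el A) X) = rv V X + rv V A ∧ cj (el A) (cj (el A) X) = X := by
  obtain ⟨hA, hXl, hne⟩ := hX
  have hf := h.pm.faith
  have hs := hA.1.el_spec
  have hAl := h.self_mem_line hA
  refine ⟨⟨hA, h.line_conj hA hAl hXl hs.1, fun e => hne ?_⟩, fun e => hs.2 ?_, fun Y hY => ?_,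
    ?_, ?_⟩
  · rw [← cj_inv_cancel (el A) X, e, cj_self (A.inv_mem hs.1)]
  · exact h.free_line hA hAl hXl hne.symm hs.1 e
  · obtain ⟨a, ha, rfl⟩ := h.orbit_line hA hAl hXl hY.2.1 hne.symm hY.2.2
    rcases hA.1.eq_el ha with rfl | rfl
    · exact Or.inl (cj_one X)
    · exact Or.inr rfl
  · rw [hXl.1.rv_cj]
    exact hA.1.smul_rv_noncom hf h.no_over hXl.1 (h.not_com_line hA hAl hXl hne.symm)
  · rw [← cj_mul, hA.1.el_smul_el, cj_one]

theorem not_com_star {A X Y : Subgroup H} (hX : Star V T g A X) (hY : Star V T g A Y)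
    (hne : X ≠ Y) : ¬ Com X Y := h.not_com_line hX.1 hX.2.1 hY.2.1 hne

theorem com_star {A B X : Subgroup H} (hX : Star V T g A X) (hB : B ∈ mems V 2 T g)
    (hne : B ≠ A) : Com X B := hX.2.1.2.1 B hB hne

/-- Stars of linked centres do not commute. -/
theorem not_com_of_lk {A B X Y : Subgroup H} (hne : A ≠ B) (hl : Lk V 2 T g A B)
    (hX : Star V T g A X) (hY : Star V T g B Y) : ¬ Com X Y := by
  rcases hl with e | ⟨X₀, hX₀, Y₀, hY₀, hc⟩
  · exact absurd e hne
  have hA := hX.1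
  have hB := hY.1
  have hX₀' : Star V T g A X₀ := by
    refine ⟨hA, hX₀, fun e => hc ?_⟩
    subst e
    by_cases e' : Y₀ = B
    · exact e' ▸ h.com_mems hA hB
    · exact (h.com_star ⟨hB, hY₀, e'⟩ hA hne).symm
  have hY₀' : Star V T g B Y₀ := by
    refine ⟨hB, hY₀, fun e => hc ?_⟩
    subst e
    exact h.com_star hX₀' hB hne.symm
  have key : ∀ {A B X Y : Subgroup H}, A ≠ B → Star V T g A X → Star V T g B Y → ¬ Com X Y →
      ∀ X', Star V T g A X' → ¬ Com X' Y := by
    intro A B X Y hne hX hY hc X' hX'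
    obtain ⟨-, -, hall, -, hback⟩ := h.star_swap hX
    rcases hall X' hX' with rfl | rfl
    · exact hc
    · intro hcom
      refine hc ?_
      have := com_cj (g := el A) hcom
      rwa [hback, cj_eq_of_com (h.com_star hY hX.1 hne).symm hX.1.1.el_spec.1] at this
  exact fun e => key hne.symm hY₀' hX (fun e' => key hne hX₀' hY₀' hc X hX e'.symm) Y hY e.symm

theorem lk_trans {A B C : Subgroup H} (hA : A ∈ mems V 2 T g) (hB : B ∈ mems V 2 T g)
    (hC : C ∈ mems V 2 T g) (h1 : Lk V 2 T g A B) (h2 : Lk V 2 T g B C) : Lk V 2 T g A C := by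
  by_cases hAB : A = B
  · exact hAB ▸ h2
  by_cases hBC : B = C
  · exact hBC ▸ h1
  by_contra h3
  have hAC : A ≠ C := fun e => h3 (Or.inl e)
  have hf := h.pm.faith
  have hno := h.no_over
  obtain ⟨A₁, hA₁⟩ := h.exists_star hA
  obtain ⟨B₁, hB₁⟩ := h.exists_star hB
  obtain ⟨C₁, hC₁⟩ := h.exists_star hC
  obtain ⟨hA₂, hA12, -, rA, hAback⟩ := h.star_swap hA₁
  obtain ⟨hB₂, hB12, -, rB, hBback⟩ := h.star_swap hB₁
  obtain ⟨hC₂, hC12, -, rC, hCback⟩ := h.star_swap hC₁
  set A₂ := cj (el A) A₁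
  set B₂ := cj (el B) B₁
  set C₂ := cj (el C) C₁
  have ma1 := h.star_mem hA₁; have ma2 := h.star_mem hA₂
  have mb1 := h.star_mem hB₁; have mb2 := h.star_mem hB₂
  have mc1 := h.star_mem hC₁; have mc2 := h.star_mem hC₂
  have com13 : ∀ {X Y : Subgroup H}, Star V T g A X → Star V T g C Y → Com X Y := fun hX hY =>
    (h.com_of_not_lk hA h3).mono (le_sSup hX.2.1) (le_sSup hY.2.1)
  -- action of the stars on the star vectors
  have hnc : ∀ {X Y : Subgroup H}, Mem V 2 X → Mem V 2 Y → ¬ Com X Y →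
      el X • rv V Y = rv V Y + rv V X := fun hX hY e => hX.smul_rv_noncom hf hno hY e
  have hc : ∀ {X Y : Subgroup H}, Mem V 2 X → Mem V 2 Y → Com X Y → el X • rv V Y = rv V Y :=
    fun hX hY e => hX.smul_rv_com hf hno hY e
  have two : ∀ v : V, v + v = 0 := fun v => by
    have h2 : p = 2 := by
      obtain ⟨n, hn⟩ := IsPGroup.iff_card.1 (isPGroup_of_quad hf h.pm.exp hA.1.quad)
      rw [hA.1.card] at hn
      exact ((Nat.Prime.dvd_iff_eq Nat.prime_two hpp.out.ne_one).1
        (by rw [hn]; refine dvd_pow_self p fun e => ?_; rw [e, pow_zero] at hn; omega)).symm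
    have := h.pm.exp v
    rwa [h2, two_nsmul] at this
  have s1 : el A₁ • rv V B₁ = rv V B₁ + rv V A₁ :=
    hnc ma1 mb1 (h.not_com_of_lk hAB h1 hA₁ hB₁)
  set z := el C₂ * el A₂ * el B₂ * el C₁ * el A₁ with hz
  set w := rv V A₁ + rv V A₂ + rv V B₁ + rv V B₂ + rv V C₁ + rv V C₂ with hw
  have hzw : z • rv V B₁ = w := by
    have nCA : ∀ {X Y : Subgroup H}, Star V T g C X → Star V T g A Y → el X • rv V Y = rv V Y :=
      fun hX hY => hc (h.star_mem hX) (h.star_mem hY) (com13 hY hX).symm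
    have nAC : ∀ {X Y : Subgroup H}, Star V T g A X → Star V T g C Y → el X • rv V Y = rv V Y :=
      fun hX hY => hc (h.star_mem hX) (h.star_mem hY) (com13 hX hY)
    have nCB : ∀ {X Y : Subgroup H}, Star V T g C X → Star V T g B Y →
        el X • rv V Y = rv V Y + rv V X := fun hX hY =>
      hnc (h.star_mem hX) (h.star_mem hY) (h.not_com_of_lk (Ne.symm hBC) h2.symm hX hY)
    have nBA : ∀ {X Y : Subgroup H}, Star V T g B X → Star V T g A Y →
        el X • rv V Y = rv V Y + rv V X := fun hX hY =>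
      hnc (h.star_mem hX) (h.star_mem hY) (h.not_com_of_lk (Ne.symm hAB) h1.symm hX hY)
    have nBC : ∀ {X Y : Subgroup H}, Star V T g B X → Star V T g C Y →
        el X • rv V Y = rv V Y + rv V X := fun hX hY =>
      hnc (h.star_mem hX) (h.star_mem hY) (h.not_com_of_lk hBC h2 hX hY)
    have nAB : ∀ {X Y : Subgroup H}, Star V T g A X → Star V T g B Y →
        el X • rv V Y = rv V Y + rv V X := fun hX hY =>
      hnc (h.star_mem hX) (h.star_mem hY) (h.not_com_of_lk hAB h1 hX hY)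
    have sA : el A₂ • rv V A₁ = rv V A₁ + rv V A₂ :=
      hnc ma2 ma1 (h.not_com_star hA₂ hA₁ hA12)
    have sB : el B₂ • rv V B₁ = rv V B₁ + rv V B₂ :=
      hnc mb2 mb1 (h.not_com_star hB₂ hB₁ hB12)
    have sC : el C₂ • rv V C₁ = rv V C₁ + rv V C₂ :=
      hnc mc2 mc1 (h.not_com_star hC₂ hC₁ hC12)
    simp only [hz, mul_smul, s1, smul_add, nCB hC₁ hB₁, nCA hC₁ hA₁, sB, nBC hB₂ hC₁,
      nBA hB₂ hA₁, nAB hA₂ hB₁, nAB hA₂ hB₂, nAC hA₂ hC₁, sA, nCB hC₂ hB₁, nCB hC₂ hB₂, sC,
      nCA hC₂ hA₂, nCA hC₂ hA₁]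
    rw [hw]
    linear_combination (norm := (abel_nf; simp [two_nsmul, two_zsmul, two]))
      two (rv V B₂) + two (rv V A₂) + two (rv V C₂)
  set X := cj z B₁ with hX
  have mX : Mem V 2 X := mb1.conj z
  have rX : rv V X = w := by rw [hX, mb1.rv_cj, hzw]
  -- the centres fix `w`
  have fixed : ∀ {D : Subgroup H}, D ∈ mems V 2 T g → el D • w = w := by
    intro D hD
    have pair : ∀ {A A₁ : Subgroup H}, A ∈ mems V 2 T g → Star V T g A A₁ →
        el D • (rv V A₁ + rv V (cj (el A) A₁)) = rv V A₁ + rv V (cj (el A) A₁) := by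
      intro A A₁ hA hA₁
      by_cases e : D = A
      · subst e
        obtain ⟨-, -, -, -, hback⟩ := h.star_swap hA₁
        rw [smul_add, ← (h.star_mem hA₁).rv_cj, ← ((h.star_mem hA₁).conj _).rv_cj, hback,
          add_comm]
      · obtain ⟨hA₂', -, -, -, -⟩ := h.star_swap hA₁
        rw [smul_add, hc hD.1 (h.star_mem hA₁) (h.com_star hA₁ hD e).symm,
          hc hD.1 (h.star_mem hA₂') (h.com_star hA₂' hD e).symm]
    rw [show w = (rv V A₁ + rv V A₂) + (rv V B₁ + rv V B₂) + (rv V C₁ + rv V C₂) by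
      rw [hw]; abel, smul_add, smul_add, pair hA hA₁, pair hB hB₁, pair hC hC₁]
  have hXD : ∀ D ∈ mems V 2 T g, Com D X := fun D hD =>
    hD.1.com_of_smul_rv hf hno mX (by rw [rX]; exact fixed hD)
  -- `X` lies in the Sylow subgroup
  have hXm : X ∈ mems V 2 T g := by
    have hp' : IsPGroup p ↥(sSup (insert X (mems V 2 T g))) := by
      have hcom : ∀ P ∈ insert X (mems V 2 T g), ∀ Q ∈ insert X (mems V 2 T g), Com P Q := by
        rintro P (rfl | hP) Q (rfl | hQ)
        · exact com_self hf mX.quad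
        · exact (hXD Q hQ).symm
        · exact hXD P hP
        · exact h.com_mems hP hQ
      refine isPGroup_sSup _ ?_ fun P hP Q hQ x hx => cj_eq_of_com (hcom P hP Q hQ) hx
      rintro P (rfl | hP)
      · exact isPGroup_of_quad hf h.pm.exp mX.quad
      · exact isPGroup_of_quad hf h.pm.exp hP.1.quad
    obtain ⟨i, hi⟩ := h.pm.exists_syl hp'
    have hsub : insert X (mems V 2 T g) ⊆ mems V 2 T i := by
      rintro P (rfl | hP)
      · exact ⟨mX, (le_sSup (Set.mem_insert _ _)).trans hi⟩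
      · exact ⟨hP.1, (le_sSup (Set.mem_insert_of_mem _ hP)).trans hi⟩
    by_contra hXg
    have h4 := Set.ncard_le_ncard hsub (Set.toFinite _)
    rw [Set.ncard_insert_of_notMem hXg (Set.toFinite _), ncard_mems_mul g (i * g⁻¹),
      inv_mul_cancel_right] at h4
    omega
  -- but it commutes with no star of `A` or `C`
  have key : ∀ {A A₁ : Subgroup H}, Star V T g A A₁ → el A₁ • w ≠ w → X = A := by
    intro A A₁ hA₁ hne
    by_contra e
    refine hne ?_
    rw [← rX]
    exact hc (h.star_mem hA₁) mX (h.com_star hA₁ hXm e)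
  have hXA : X = A := by
    refine key hA₁ fun e => ma1.rv_spec.1 ?_
    have t1 : el A₁ • rv V A₁ = rv V A₁ := ma1.mem_fix_iff.1 ma1.rv_mem
    have t2 := hnc ma1 ma2 (h.not_com_star hA₁ hA₂ hA12.symm)
    have t4 := hnc ma1 mb2 (h.not_com_of_lk hAB h1 hA₁ hB₂)
    have t5 := hc ma1 mc1 (com13 hA₁ hC₁)
    have t6 := hc ma1 mc2 (com13 hA₁ hC₂)
    rw [hw] at e
    simp only [smul_add, t1, t2, s1, t4, t5, t6] at e
    linear_combination (norm := abel) e - two (rv V A₁)
  have hXC : X = C := by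
    refine key hC₁ fun e => mc1.rv_spec.1 ?_
    have t1 := hc mc1 ma1 (com13 hA₁ hC₁).symm
    have t2 := hc mc1 ma2 (com13 hA₂ hC₁).symm
    have t3 := hnc mc1 mb1 (h.not_com_of_lk (Ne.symm hBC) h2.symm hC₁ hB₁)
    have t4 := hnc mc1 mb2 (h.not_com_of_lk (Ne.symm hBC) h2.symm hC₁ hB₂)
    have t5 : el C₁ • rv V C₁ = rv V C₁ := mc1.mem_fix_iff.1 mc1.rv_mem
    have t6 := hnc mc1 mc2 (h.not_com_star hC₁ hC₂ hC12.symm)
    rw [hw] at e
    simp only [smul_add, t1, t2, t3, t4, t5, t6] at e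
    linear_combination (norm := abel) e - two (rv V C₁)
  exact hAC (hXA.symm.trans hXC)

end Conf

end Cfsg.Agent.FFPM
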