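import Cfsg.Agent.Lib.Thompson.FFPM.Big
import Cfsg.Agent.Lib.Thompson.FFPM.Two
import Cfsg.Agent.Lib.Thompson.FFPM.Stars

/-!
The components of a `p`-minimal group with an offender.
-/

set_option autoImplicit false
set_option linter.unusedSectionVars false

namespace Cfsg.Agent.FFPM

open FFSL2
open scoped MatrixGroups

variable {H : Type*} [Group H] [Finite H] {V : Type*} [AddCommGroup V] [Finite V]
  [DistribMulAction H V] {p : ℕ} [hpp : Fact p.Prime] {q : ℕ}

/-- The elements moving every vector inside `U`. -/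
def moveIn (U : AddSubgroup V) : Subgroup H where
  carrier := {z | ∀ v : V, z • v - v ∈ U}
  one_mem' := fun v => by rw [one_smul, sub_self]; exact zero_mem _
  mul_mem' := fun {a b} ha hb v => by
    have := add_mem (ha (b • v)) (hb v)
    rwa [sub_add_sub_cancel, ← mul_smul] at this
  inv_mem' := fun {a} ha v => by
    have := neg_mem (ha (a⁻¹ • v))
    rwa [smul_inv_smul, neg_sub] at this

/-- The span of the vectors `z v - v`. -/
def movV (V : Type*) [AddCommGroup V] [DistribMulAction H V] (X : Subgroup H) : AddSubgroup V :=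
  AddSubgroup.closure {u | ∃ z ∈ X, ∃ v : V, u = z • v - v}

theorem sub_mem_movV {X : Subgroup H} {z : H} (hz : z ∈ X) (v : V) : z • v - v ∈ movV V X :=
  AddSubgroup.subset_closure ⟨z, hz, v, rfl⟩

theorem movV_le_iff {X : Subgroup H} {U : AddSubgroup V} :
    movV V X ≤ U ↔ X ≤ moveIn U := by
  refine ⟨fun h z hz v => h (sub_mem_movV hz v), fun h => (AddSubgroup.closure_le _).2 ?_⟩
  rintro _ ⟨z, hz, v, rfl⟩
  exact h hz v

theorem smul_mem_movV {X : Subgroup H} {z : H} (hz : z ∈ X) {u : V} (hu : u ∈ movV V X) :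
    z • u ∈ movV V X := by
  have := add_mem (sub_mem_movV (X := X) hz u) hu
  rwa [sub_add_cancel] at this

theorem smul_fix_mem {X : Subgroup H} {z : H} (hz : z ∈ Subgroup.normalizer (X : Set H)) {u : V}
    (hu : u ∈ (fix X : AddSubgroup V)) : z • u ∈ (fix X : AddSubgroup V) := by
  rw [← cj_eq_of_mem_normalizer hz, mem_fix_cj, inv_smul_smul]
  exact hu

/-- The shapes of a component. -/
def Shape (V : Type*) [AddCommGroup V] [Finite V] [DistribMulAction H V] (p : ℕ) (E : Subgroup H) : Prop :=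
  ∃ n : ℕ, 1 ≤ n ∧
    ((∃ (F : Type) (_ : Field F) (_ : Fintype F) (ρ : ↥E ≃* SL(2, F)) (ψ : V →+ (Fin 2 → F)),
      Fintype.card F = p ^ n ∧ Function.Surjective ψ ∧
      (∀ v, ψ v = 0 ↔ v ∈ (fix E : AddSubgroup V)) ∧
      ∀ (z : ↥E) (v : V), ψ ((z : H) • v) = (ρ z : Matrix (Fin 2) (Fin 2) F).mulVec (ψ v)) ∨
    (p = 2 ∧ ∃ (ρ : ↥E ≃* Equiv.Perm (Fin (2 ^ n + 1)))
      (ψ : ↥(movV V E) →+ (Fin (2 ^ n + 1) → ZMod 2)),
      (∀ u, ∑ i, ψ u i = 0) ∧ (∀ w, ∑ i, w i = 0 → ∃ u, ψ u = w) ∧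
      (∀ u : ↥(movV V E), ψ u = 0 ↔ (u : V) ∈ (fix E : AddSubgroup V)) ∧
      ∀ (z : ↥E) (u : ↥(movV V E)) (i : Fin (2 ^ n + 1)),
        ψ ⟨(z : H) • (u : V), smul_mem_movV z.2 u.2⟩ i = ψ u ((ρ z)⁻¹ i)))

/-- The structure of a `p`-minimal group with an offender. -/
structure Components (V : Type*) [AddCommGroup V] [Finite V] [DistribMulAction H V] (p : ℕ) (S : Subgroup H)
    {r : ℕ} (E : Fin r → Subgroup H) : Prop where
  pos : 1 ≤ r
  com : ∀ i j, i ≠ j → Com (E i) (E j)
  indep : ∀ i, E i ⊓ (⨆ j ∈ {j | j ≠ i}, E j) = ⊥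
  sup : (⨆ i, E i) ⊔ S = ⊤
  trans : ∀ i j, ∃ t ∈ S, cj t (E i) = E j
  split : ∀ v : V, ∃ c ∈ (fix (⨆ i, E i) : AddSubgroup V), v - c ∈ (⨆ i, movV V (E i))
  orth : ∀ i j, i ≠ j → movV V (E i) ≤ fix (E j)
  shape : ∀ i, Shape V p (E i)

namespace Conf

variable {T : Sylow p H} {M : Subgroup H} (h : Conf V q T M) {g : H}
include h

theorem lk_trans' {A B C : Subgroup H} (hA : A ∈ mems V q T g) (hB : B ∈ mems V q T g)
    (hC : C ∈ mems V q T g) (h1 : Lk V q T g A B) (h2 : Lk V q T g B C) : Lk V q T g A C := by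
  rcases Nat.lt_or_ge q 3 with hq | hq
  · obtain rfl : q = 2 := le_antisymm (by omega) hA.1.two_le
    exact h.lk_trans hA hB hC h1 h2
  · rw [h.eq_of_lk hq hA hB h1]
    exact h2

theorem clsSup_eq {A B : Subgroup H} (hA : A ∈ mems V q T g) (hB : B ∈ mems V q T g)
    (hl : Lk V q T g A B) : clsSup V q T g A = clsSup V q T g B := by
  refine congrArg sSup (Set.ext fun X => ⟨?_, ?_⟩)
  · rintro ⟨C, hC, hlC, hX⟩
    exact ⟨C, hC, h.lk_trans' hB hA hC hl.symm hlC, hX⟩
  · rintro ⟨C, hC, hlC, hX⟩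
    exact ⟨C, hC, h.lk_trans' hA hB hC hl hlC, hX⟩

theorem le_clsSup {A X : Subgroup H} (hA : A ∈ mems V q T g) (hX : X ∈ line V q T g A) :
    X ≤ clsSup V q T g A :=
  le_sSup (s := {X | ∃ B ∈ mems V q T g, Lk V q T g A B ∧ X ∈ line V q T g B})
    ⟨A, hA, Or.inl rfl, hX⟩

theorem com_clsSup {A B : Subgroup H} (hA : A ∈ mems V q T g) (hB : B ∈ mems V q T g)
    (hl : ¬ Lk V q T g A B) : Com (clsSup V q T g A) (clsSup V q T g B) := by
  refine com_sSup ?_
  rintro X ⟨C, hC, hlC, hX⟩
  refine (Com.symm (com_sSup ?_))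
  rintro Y ⟨D, hD, hlD, hY⟩
  by_cases e : Lk V q T g C D
  · exact absurd (h.lk_trans' hA hC hB hlC (h.lk_trans' hC hD hB e hlD.symm)) hl
  · exact ((h.com_of_not_lk hC e).mono (le_sSup hX) (le_sSup hY)).symm

theorem lk_of_clsSup_eq {A B : Subgroup H} (hA : A ∈ mems V q T g) (hB : B ∈ mems V q T g)
    (e : clsSup V q T g A = clsSup V q T g B) : Lk V q T g A B := by
  by_contra hl
  have hc := h.com_clsSup hA hB hl
  rw [← e] at hc
  obtain ⟨X, hX, hne, -⟩ := h.exists_third hA (Y := A) (h.self_mem_line hA)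
  exact h.not_com_line hA hX (h.self_mem_line hA) hne
    (hc.mono (h.le_clsSup hA hX) (h.le_clsSup hA (h.self_mem_line hA)))

theorem lineSup_eq : lineSup V q T g = sSup (clsSup V q T g '' mems V q T g) := by
  refine le_antisymm (sSup_le ?_) (sSup_le ?_)
  · rintro X ⟨A, hA, hX⟩
    exact (h.le_clsSup hA hX).trans (le_sSup ⟨A, hA, rfl⟩)
  · rintro _ ⟨A, -, rfl⟩
    exact sSup_le fun X ⟨B, hB, _, hX⟩ => le_sSup ⟨B, hB, hX⟩

theorem cj_clsSup {A : Subgroup H} {t : H} (ht : t ∈ cj g (T : Subgroup H)) :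
    cj t (clsSup V q T g A) = clsSup V q T g (cj t A) := by
  have key : ∀ {t : H}, t ∈ cj g (T : Subgroup H) → ∀ A, cj t (clsSup V q T g A) ≤
      clsSup V q T g (cj t A) := by
    intro t ht A
    rw [le_cj_iff]
    refine sSup_le fun X ⟨B, hB, hl, hX⟩ => le_cj_iff.1 (le_sSup ?_)
    exact ⟨_, mems_cj_of_mem ht hB, hl.cj ht, cj_line ht hX⟩
  refine le_antisymm (key ht A) ?_
  have := key ((cj g (T : Subgroup H)).inv_mem ht) (cj t A)
  rwa [cj_inv_cancel, le_cj_iff, inv_inv] at this

/-- A `p`-subgroup normalised by the pencils is trivial. -/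
theorem eq_bot_of_normalized {K : Subgroup H} (hK : IsPGroup p ↥K)
    (hle : K ≤ lineSup V q T g)
    (hn : ∀ n ∈ lineSup V q T g, cj n K = K) : K = ⊥ := by
  have hN := (h.lineSup_spec g).1
  set s : Set (Subgroup H) := Set.range fun z => cj z K
  have hnorm : ∀ z, ∀ n ∈ lineSup V q T g, cj n (cj z K) = cj z K := fun z n hn' => by
    rw [← cj_mul, show n * z = z * (z⁻¹ * n * z) by group, cj_mul, hn]
    simpa using hN.conj_mem n hn' z⁻¹
  have hsle : ∀ z, cj z K ≤ lineSup V q T g := fun z x hx => by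
    have := hN.conj_mem _ (hle (mem_cj.1 hx)) z
    simpa [mul_assoc] using this
  have hp : IsPGroup p ↥(sSup s) := isPGroup_sSup s
    (by rintro _ ⟨z, rfl⟩; exact hK.map _)
    (by rintro _ ⟨z, rfl⟩ _ ⟨w, rfl⟩ x hx; exact hnorm w x (hsle z hx))
  have hsn : (sSup s).Normal := by
    refine Subgroup.normalizer_eq_top_iff.1 (top_le_iff.1 (le_normalizer_of_cj fun z _ =>
      Subgroup.eq_of_le_of_card_ge ?_ (card_cj z _).ge))
    rw [le_cj_iff]
    refine sSup_le ?_
    rintro _ ⟨w, rfl⟩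
    exact le_cj_iff.1 (le_sSup ⟨z * w, cj_mul z w K⟩)
  have h1 := h.pm.core _ hsn hp
  exact le_bot_iff.1 ((le_sSup (show K ∈ s from ⟨1, cj_one K⟩)).trans h1.le)

theorem movV_clsSup_le {A B : Subgroup H} (hA : A ∈ mems V q T g) (hB : B ∈ mems V q T g)
    (hl : ¬ Lk V q T g A B) :
    movV V (clsSup V q T g A) ≤ fix (clsSup V q T g B) := by
  rw [movV_le_iff]
  refine sSup_le fun X hX x hx v => fix_sSup _ fun Y hY => ?_
  exact Mem.orth_of_com h.pm.faith h.no_over hX.choose_spec.2.2.1 hY.choose_spec.2.2.1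
    ((h.com_clsSup hA hB hl).mono (le_sSup hX) (le_sSup hY)) x hx v

end Conf

/-- The coordinates of a component over two elements. -/
structure ClsTwo (V : Type*) [AddCommGroup V] [Finite V] [DistribMulAction H V] (T : Sylow p H) (g : H)
    (A : Subgroup H) {N : ℕ} (x : Fin N → H) (e : Fin N → V) : Prop where
  p_eq : p = 2
  stars : Stars x e
  gen : clsSup V 2 T g A = Subgroup.closure (Set.range x)
  range : movV V (clsSup V 2 T g A) = stars.f.range
  iso : ∃ ρ : ↥(Subgroup.closure (Set.range x)) ≃* Equiv.Perm (Fin (N + 1)),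
    ∀ z : ↥(Subgroup.closure (Set.range x)), stars.ActsAs (z : H) (ρ z)
  pow : ∃ m, N = 2 ^ (m + 1)
  own : ∀ k, ∃ X B, B ∈ mems V 2 T g ∧ Lk V 2 T g A B ∧ Star V T g B X ∧ el X = x k
  pair : ∀ B ∈ mems V 2 T g, Lk V 2 T g A B → ∃ k l, k ≠ l ∧ el B = x k * x l * x k ∧
    ∀ i, i ≠ k → i ≠ l → ∃ C ∈ mems V 2 T g, Lk V 2 T g A C ∧ C ≠ B ∧ x i ∈ sSup (line V 2 T g C)

theorem exists_clsTwo {T : Sylow p H} {M : Subgroup H} (h : Conf V 2 T M) {g : H} {A : Subgroup H}
    (hA : A ∈ mems V 2 T g) : ∃ (N : ℕ) (x : Fin N → H) (e : Fin N → V), ClsTwo V T g A x e := by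
  classical
  have hf := h.pm.faith
  obtain ⟨n₀, hn₀⟩ := card_eq_pow hf h.pm.exp hA.1
  have hp2 : p = 2 := by
    refine ((Nat.Prime.dvd_iff_eq Nat.prime_two hpp.out.ne_one).1 ?_).symm
    rw [hn₀]
    refine dvd_pow_self p fun e => ?_
    rw [e, pow_zero] at hn₀
    omega
  have htwo : ∀ v : V, v + v = 0 := fun v => by
    have := h.pm.exp v
    rwa [hp2, two_nsmul] at this
  set E := clsSup V 2 T g A with hE
  -- the centres and their stars
  set C : Set (Subgroup H) := {B | B ∈ mems V 2 T g ∧ Lk V 2 T g A B} with hC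
  have hst : ∀ B : ↥C, ∃ X, Star V T g B X := fun B => h.exists_star B.2.1
  choose X₀ hX₀ using hst
  let star : ↥C × Bool → Subgroup H := fun k => if k.2 then cj (el (k.1 : Subgroup H)) (X₀ k.1) else X₀ k.1
  have hstar : ∀ k, Star V T g (k.1 : Subgroup H) (star k) := by
    rintro ⟨B, b⟩
    cases b
    · exact hX₀ B
    · exact (h.star_swap (hX₀ B)).1
  have hnc : ∀ k l, k ≠ l → ¬ Com (star k) (star l) := by
    rintro ⟨B, b⟩ ⟨B', b'⟩ hne
    by_cases e : B = B'
    · subst e
      refine h.not_com_star (hstar (B, b)) (hstar (B, b')) fun e' => ?_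
      obtain ⟨-, hne2, -, -, -⟩ := h.star_swap (hX₀ B)
      cases b <;> cases b' <;> simp [star] at e' hne ⊢
      · exact hne2 e'.symm
      · exact hne2 e'
    · exact h.not_com_of_lk (fun e' => e (Subtype.ext e'))
        (h.lk_trans B.2.1 hA B'.2.1 B.2.2.symm B'.2.2) (hstar (B, b)) (hstar (B', b'))
  have hmem : ∀ k, Mem V 2 (star k) := fun k => h.star_mem (hstar k)
  -- the number of centres is a power of two
  obtain ⟨m, hm⟩ : ∃ m, C.ncard = 2 ^ m := by
    obtain ⟨k, hk⟩ := h.ncard_mems_pow g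
    letI : Fintype (Subgroup H) := Fintype.ofFinite _
    set f : Subgroup H → Subgroup H := clsSup V 2 T g with hfdef
    have hfib : ∀ D ∈ mems V 2 T g, {B | B ∈ mems V 2 T g ∧ f B = f D}.ncard = C.ncard := by
      intro D hD
      obtain ⟨t, ht, rfl⟩ := h.exists_cj_mems hA hD
      have e : {B | B ∈ mems V 2 T g ∧ f B = f (cj t A)} = cj t '' C := by
        ext B
        constructor
        · rintro ⟨hB, hfB⟩
          refine ⟨cj t⁻¹ B, ⟨mems_cj_of_mem ((cj g (T : Subgroup H)).inv_mem ht) hB, ?_⟩,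
            cj_cancel_inv t B⟩
          have := (h.lk_of_clsSup_eq hB hD hfB).symm.cj ((cj g (T : Subgroup H)).inv_mem ht)
          rwa [cj_inv_cancel] at this
        · rintro ⟨B, ⟨hB, hl⟩, rfl⟩
          exact ⟨mems_cj_of_mem ht hB, (h.clsSup_eq hD (mems_cj_of_mem ht hB) (hl.cj ht)).symm⟩
      rw [e, Set.ncard_image_of_injective _ (cj_injective t)]
    have hdvd : C.ncard ∣ (mems V 2 T g).ncard := by
      rw [Set.ncard_eq_toFinset_card' (mems V 2 T g),
        Finset.card_eq_sum_card_image f (mems V 2 T g).toFinset]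
      refine Finset.dvd_sum fun y hy => dvd_of_eq ?_
      obtain ⟨D, hD, rfl⟩ := Finset.mem_image.1 hy
      rw [Set.mem_toFinset] at hD
      rw [← hfib D hD, Set.ncard_eq_toFinset_card']
      congr 1
      ext B
      simp
    rw [hk, hp2] at hdvd
    obtain ⟨m, -, hm⟩ := (Nat.dvd_prime_pow Nat.prime_two).1 hdvd
    exact ⟨m, hm⟩
  let en : ↥C × Bool ≃ Fin (2 ^ (m + 1)) := Finite.equivFinOfCardEq (by
    rw [Nat.card_prod, Nat.card_coe_set_eq, hm, Nat.card_eq_fintype_card, Fintype.card_bool,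
      pow_succ])
  let x : Fin (2 ^ (m + 1)) → H := fun k => el (star (en.symm k))
  let e : Fin (2 ^ (m + 1)) → V := fun k => rv V (star (en.symm k))
  have hs : Stars x e :=
    { even := ⟨2 ^ m, by rw [pow_succ]; ring⟩
      pos := by
        rw [pow_succ]
        have := Nat.one_le_two_pow (n := m)
        omega
      two := htwo
      move := fun k v => by
        by_cases hv : v ∈ (fix (star (en.symm k)) : AddSubgroup V)
        · exact Or.inl ((hmem _).mem_fix_iff.1 hv)
        · exact Or.inr ((hmem _).rv_spec.2 v hv)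
      ne_zero := fun k => (hmem _).rv_spec.1
      self := fun k => (hmem _).mem_fix_iff.1 (hmem _).rv_mem
      off := fun k l hlk => (hmem _).smul_rv_noncom hf h.no_over (hmem _)
        (hnc _ _ (fun e' => hlk (en.symm.injective e').symm)) }
  have hgen : E = Subgroup.closure (Set.range x) := by
    refine le_antisymm (sSup_le ?_) ((Subgroup.closure_le _).2 ?_)
    · rintro Y ⟨B, hB, hl, hY⟩
      refine (le_sSup hY).trans ?_
      set B' : ↥C := ⟨B, hB, hl⟩
      have h0 := hstar (B', false)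
      have h1 := hstar (B', true)
      have hne01 : star (B', false) ≠ star (B', true) := fun e' =>
        hnc (B', false) (B', true) (by simp) (e' ▸ com_self hf (hmem _).quad)
      rw [h.sSup_line hB h0.2.1 h1.2.1 hne01]
      have key : ∀ k, star k ≤ Subgroup.closure (Set.range x) := fun k a ha => by
        rcases (hmem k).eq_el ha with rfl | rfl
        · exact Subgroup.one_mem _
        · exact Subgroup.subset_closure ⟨en k, by simp [x]⟩
      exact sup_le (key _) (key _)
    · rintro _ ⟨k, rfl⟩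
      exact (show star (en.symm k) ≤ E from le_sSup ⟨_, (hstar _).1, (en.symm k).1.2.2, (hstar _).2.1⟩)
        (hmem _).el_spec.1
  have hrange : movV V E = hs.f.range := by
    refine le_antisymm ?_ ?_
    · rw [movV_le_iff, hgen, Subgroup.closure_le]
      rintro _ ⟨k, rfl⟩ v
      rcases hs.move k v with e' | e'
      · rw [e', sub_self]; exact zero_mem _
      · rw [e', add_sub_cancel_left]
        refine ⟨Pi.single k 1, ?_⟩
        show ∑ l, sm _ (e l) = _
        rw [Finset.sum_eq_single k (fun l _ hl => by rw [Pi.single_eq_of_ne hl, sm_zero])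
          (fun hh => absurd (Finset.mem_univ k) hh), Pi.single_eq_same, sm_one]
    · rintro _ ⟨c, rfl⟩
      show ∑ l, sm (c l) (e l) ∈ _
      refine sum_mem fun k _ => ?_
      rcases zmod_two_cases (c k) with e' | e' <;> rw [e']
      · rw [sm_zero]; exact zero_mem _
      · rw [sm_one]
        obtain ⟨v, hv⟩ := (hmem (en.symm k)).exists_not_fix
        have := sub_mem_movV (V := V) (hgen ▸ Subgroup.subset_closure ⟨k, rfl⟩ : x k ∈ E) v
        rwa [(hmem _).rv_spec.2 v hv, add_sub_cancel_left] at this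
  have hker : ∀ z ∈ Subgroup.closure (Set.range x), (∀ c, z • hs.f c = hs.f c) → z = 1 := by
    intro z hz hzf
    set K : Subgroup H := E ⊓ disp (movV V E) with hK
    have hKq : Quad V K := fun a ha v b hb => hb.2.2 _ (ha.2.1 v)
    have hKp : IsPGroup p ↥K := isPGroup_of_quad hf h.pm.exp hKq
    have hKE : ∀ a ∈ E, cj a K = K := fun a ha => by
      refine Subgroup.eq_of_le_of_card_ge (fun y hy => ?_) (card_cj a K).ge
      obtain ⟨hy1, hy2, hy3⟩ := mem_cj.1 hy
      refine ⟨?_, fun v => ?_, fun u hu => ?_⟩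
      · simpa [mul_assoc] using E.mul_mem (E.mul_mem ha hy1) (E.inv_mem ha)
      · have := smul_mem_movV (V := V) ha (hy2 (a⁻¹ • v))
        rwa [mul_smul, mul_smul, smul_inv_smul, smul_sub, smul_inv_smul, smul_inv_smul] at this
      · have := hy3 _ (smul_mem_movV (V := V) (E.inv_mem ha) hu)
        rwa [mul_smul, mul_smul, smul_inv_smul, smul_left_cancel_iff] at this
    have hbot : K = ⊥ := by
      refine h.eq_bot_of_normalized (g := g) hKp (inf_le_left.trans ?_) fun n hn => ?_
      · rw [h.lineSup_eq]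
        exact le_sSup ⟨A, hA, rfl⟩
      · have hle : lineSup V 2 T g ≤ Subgroup.normalizer (K : Set H) := by
          rw [h.lineSup_eq]
          refine sSup_le ?_
          rintro _ ⟨B, hB, rfl⟩
          refine le_normalizer_of_cj fun a ha => ?_
          by_cases hl : Lk V 2 T g A B
          · exact hKE a (by rw [hE, h.clsSup_eq hA hB hl]; exact ha)
          · exact cj_eq_of_com ((h.com_clsSup hA hB hl).symm.mono le_rfl inf_le_left) ha
        exact cj_eq_of_mem_normalizer (hle hn)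
    have hz' : z ∈ K := by
      refine ⟨hgen ▸ hz, fun v => sub_mem_movV (hgen ▸ hz) v, fun u hu => ?_⟩
      rw [hrange] at hu
      obtain ⟨c, rfl⟩ := hu
      exact hzf c
    rw [hbot] at hz'
    exact Subgroup.mem_bot.1 hz'
  refine ⟨_, x, e, ⟨hp2, hs, hgen, hrange, hs.exists_iso hker, ⟨m, rfl⟩,
    fun k => ⟨_, _, (en.symm k).1.2.1, (en.symm k).1.2.2, hstar _, rfl⟩, fun B hB hl => ?_⟩⟩
  set B' : ↥C := ⟨B, hB, hl⟩ with hB'
  refine ⟨en (B', false), en (B', true), fun e' => by simpa using en.injective e', ?_,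
    fun i hi0 hi1 => ⟨((en.symm i).1 : Subgroup H), (en.symm i).1.2.1, (en.symm i).1.2.2, fun e' => ?_,
      le_sSup (s := line V 2 T g _) (hstar (en.symm i)).2.1 (hmem _).el_spec.1⟩⟩
  · obtain ⟨-, hne01, hall, -, -⟩ := h.star_swap (hX₀ B')
    set X := X₀ B'
    have hBl := h.self_mem_line hB
    have hXl : X ∈ line V 2 T g B := (hX₀ B').2.1
    have hXne : X ≠ B := (hX₀ B').2.2
    have hX := (h.star_mem (hX₀ B')).el_spec
    have hfree : cj (el X) B ≠ B := fun e' => hX.2 (h.free_line hB hXl hBl hXne hX.1 e')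
    rcases hall (cj (el X) B) ⟨hB, h.line_conj hB hXl hBl hX.1, hfree⟩ with e' | e'
    · exact absurd (show B = X by rw [← cj_inv_cancel (el X) B, e', cj_self (X.inv_mem hX.1)]) hXne.symm
    · show _ = el (star (en.symm (en (B', false)))) * el (star (en.symm (en (B', true)))) *
        el (star (en.symm (en (B', false))))
      rw [Equiv.symm_apply_apply, Equiv.symm_apply_apply]
      show el B = el X * el (cj (el B) X) * el X
      have h2 := (h.star_mem (hX₀ B')).el_smul_el
      have hi := inv_eq_of_mul_eq_one_left h2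
      rw [← e', hB.1.el_cj, hi]
      simp only [← mul_assoc]
      rw [h2, one_mul, mul_assoc, h2, mul_one]
  · have e2 : (en.symm i).1 = B' := Subtype.ext e'
    rcases Bool.eq_false_or_eq_true (en.symm i).2 with eb | eb
    · exact hi1 (by rw [← e2, ← eb, Prod.mk.eta, Equiv.apply_symm_apply])
    · exact hi0 (by rw [← e2, ← eb, Prod.mk.eta, Equiv.apply_symm_apply])

namespace Conf

variable {T : Sylow p H} {M : Subgroup H} (h : Conf V q T M) {g : H}
include h

/-- A component is linear, or symmetric; either way it splits off. -/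
theorem cls_spec {A : Subgroup H} (hA : A ∈ mems V q T g) :
    Shape V p (clsSup V q T g A) ∧
      ∀ v : V, ∃ u ∈ movV V (clsSup V q T g A), v - u ∈ (fix (clsSup V q T g A) : AddSubgroup V) := by
  classical
  have hf := h.pm.faith
  obtain ⟨n₀, hn₀⟩ := card_eq_pow hf h.pm.exp hA.1
  rcases Nat.lt_or_ge q 3 with hq | hq
  swap
  · have e : clsSup V q T g A = sSup (line V q T g A) :=
      congrArg sSup (Set.ext fun X => ⟨fun ⟨B, hB, hl, hX⟩ => by
        rwa [h.eq_of_lk hq hA hB hl], fun hX => ⟨A, hA, Or.inl rfl, hX⟩⟩)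
    rw [e]
    refine ⟨?_, fun v => ?_⟩
    · obtain ⟨F, i1, i2, ρ, ψ, hc, hs, hk, hψ⟩ := h.exists_natural hA
      refine ⟨n₀, ?_, Or.inl ⟨F, i1, i2, ρ, ψ, hc.trans hn₀, hs, hk, hψ⟩⟩
      rcases n₀ with - | n₀
      · rw [pow_zero] at hn₀; omega
      · omega
    · obtain ⟨z, hz, hdec, -, -⟩ := h.exists_split hA hq
      obtain ⟨i, hi, w, rfl⟩ := hdec v
      exact ⟨_, sub_mem_movV hz w, by rwa [add_sub_cancel_right]⟩
  obtain rfl : q = 2 := le_antisymm (by omega) hA.1.two_le
  have hp2 : p = 2 := by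
    refine ((Nat.Prime.dvd_iff_eq Nat.prime_two hpp.out.ne_one).1 ?_).symm
    rw [hn₀]
    refine dvd_pow_self p fun e => ?_
    rw [e, pow_zero] at hn₀
    omega
  have htwo : ∀ v : V, v + v = 0 := fun v => by
    have := h.pm.exp v
    rwa [hp2, two_nsmul] at this
  set E := clsSup V 2 T g A with hE
  -- the centres and their stars
  set C : Set (Subgroup H) := {B | B ∈ mems V 2 T g ∧ Lk V 2 T g A B} with hC
  have hst : ∀ B : ↥C, ∃ X, Star V T g B X := fun B => h.exists_star B.2.1
  choose X₀ hX₀ using hst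
  let star : ↥C × Bool → Subgroup H := fun k => if k.2 then cj (el (k.1 : Subgroup H)) (X₀ k.1) else X₀ k.1
  have hstar : ∀ k, Star V T g (k.1 : Subgroup H) (star k) := by
    rintro ⟨B, b⟩
    cases b
    · exact hX₀ B
    · exact (h.star_swap (hX₀ B)).1
  have hnc : ∀ k l, k ≠ l → ¬ Com (star k) (star l) := by
    rintro ⟨B, b⟩ ⟨B', b'⟩ hne
    by_cases e : B = B'
    · subst e
      refine h.not_com_star (hstar (B, b)) (hstar (B, b')) fun e' => ?_
      obtain ⟨-, hne2, -, -, -⟩ := h.star_swap (hX₀ B)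
      cases b <;> cases b' <;> simp [star] at e' hne ⊢
      · exact hne2 e'.symm
      · exact hne2 e'
    · exact h.not_com_of_lk (fun e' => e (Subtype.ext e'))
        (h.lk_trans B.2.1 hA B'.2.1 B.2.2.symm B'.2.2) (hstar (B, b)) (hstar (B', b'))
  have hmem : ∀ k, Mem V 2 (star k) := fun k => h.star_mem (hstar k)
  -- the number of centres is a power of two
  obtain ⟨m, hm⟩ : ∃ m, C.ncard = 2 ^ m := by
    obtain ⟨k, hk⟩ := h.ncard_mems_pow g
    letI : Fintype (Subgroup H) := Fintype.ofFinite _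
    set f : Subgroup H → Subgroup H := clsSup V 2 T g with hfdef
    have hfib : ∀ D ∈ mems V 2 T g, {B | B ∈ mems V 2 T g ∧ f B = f D}.ncard = C.ncard := by
      intro D hD
      obtain ⟨t, ht, rfl⟩ := h.exists_cj_mems hA hD
      have e : {B | B ∈ mems V 2 T g ∧ f B = f (cj t A)} = cj t '' C := by
        ext B
        constructor
        · rintro ⟨hB, hfB⟩
          refine ⟨cj t⁻¹ B, ⟨mems_cj_of_mem ((cj g (T : Subgroup H)).inv_mem ht) hB, ?_⟩,
            cj_cancel_inv t B⟩
          have := (h.lk_of_clsSup_eq hB hD hfB).symm.cj ((cj g (T : Subgroup H)).inv_mem ht)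
          rwa [cj_inv_cancel] at this
        · rintro ⟨B, ⟨hB, hl⟩, rfl⟩
          exact ⟨mems_cj_of_mem ht hB, (h.clsSup_eq hD (mems_cj_of_mem ht hB) (hl.cj ht)).symm⟩
      rw [e, Set.ncard_image_of_injective _ (cj_injective t)]
    have hdvd : C.ncard ∣ (mems V 2 T g).ncard := by
      rw [Set.ncard_eq_toFinset_card' (mems V 2 T g),
        Finset.card_eq_sum_card_image f (mems V 2 T g).toFinset]
      refine Finset.dvd_sum fun y hy => dvd_of_eq ?_
      obtain ⟨D, hD, rfl⟩ := Finset.mem_image.1 hy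
      rw [Set.mem_toFinset] at hD
      rw [← hfib D hD, Set.ncard_eq_toFinset_card']
      congr 1
      ext B
      simp
    rw [hk, hp2] at hdvd
    obtain ⟨m, -, hm⟩ := (Nat.dvd_prime_pow Nat.prime_two).1 hdvd
    exact ⟨m, hm⟩
  let en : ↥C × Bool ≃ Fin (2 ^ (m + 1)) := Finite.equivFinOfCardEq (by
    rw [Nat.card_prod, Nat.card_coe_set_eq, hm, Nat.card_eq_fintype_card, Fintype.card_bool,
      pow_succ])
  let x : Fin (2 ^ (m + 1)) → H := fun k => el (star (en.symm k))
  let e : Fin (2 ^ (m + 1)) → V := fun k => rv V (star (en.symm k))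
  have hs : Stars x e :=
    { even := ⟨2 ^ m, by rw [pow_succ]; ring⟩
      pos := by
        rw [pow_succ]
        have := Nat.one_le_two_pow (n := m)
        omega
      two := htwo
      move := fun k v => by
        by_cases hv : v ∈ (fix (star (en.symm k)) : AddSubgroup V)
        · exact Or.inl ((hmem _).mem_fix_iff.1 hv)
        · exact Or.inr ((hmem _).rv_spec.2 v hv)
      ne_zero := fun k => (hmem _).rv_spec.1
      self := fun k => (hmem _).mem_fix_iff.1 (hmem _).rv_mem
      off := fun k l hlk => (hmem _).smul_rv_noncom hf h.no_over (hmem _)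
        (hnc _ _ (fun e' => hlk (en.symm.injective e').symm)) }
  have hgen : E = Subgroup.closure (Set.range x) := by
    refine le_antisymm (sSup_le ?_) ((Subgroup.closure_le _).2 ?_)
    · rintro Y ⟨B, hB, hl, hY⟩
      refine (le_sSup hY).trans ?_
      set B' : ↥C := ⟨B, hB, hl⟩
      have h0 := hstar (B', false)
      have h1 := hstar (B', true)
      have hne01 : star (B', false) ≠ star (B', true) := fun e' =>
        hnc (B', false) (B', true) (by simp) (e' ▸ com_self hf (hmem _).quad)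
      rw [h.sSup_line hB h0.2.1 h1.2.1 hne01]
      have key : ∀ k, star k ≤ Subgroup.closure (Set.range x) := fun k a ha => by
        rcases (hmem k).eq_el ha with rfl | rfl
        · exact Subgroup.one_mem _
        · exact Subgroup.subset_closure ⟨en k, by simp [x]⟩
      exact sup_le (key _) (key _)
    · rintro _ ⟨k, rfl⟩
      exact (show star (en.symm k) ≤ E from le_sSup ⟨_, (hstar _).1, (en.symm k).1.2.2, (hstar _).2.1⟩)
        (hmem _).el_spec.1
  have hrange : movV V E = hs.f.range := by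
    refine le_antisymm ?_ ?_
    · rw [movV_le_iff, hgen, Subgroup.closure_le]
      rintro _ ⟨k, rfl⟩ v
      rcases hs.move k v with e' | e'
      · rw [e', sub_self]; exact zero_mem _
      · rw [e', add_sub_cancel_left]
        refine ⟨Pi.single k 1, ?_⟩
        show ∑ l, sm _ (e l) = _
        rw [Finset.sum_eq_single k (fun l _ hl => by rw [Pi.single_eq_of_ne hl, sm_zero])
          (fun hh => absurd (Finset.mem_univ k) hh), Pi.single_eq_same, sm_one]
    · rintro _ ⟨c, rfl⟩
      show ∑ l, sm (c l) (e l) ∈ _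
      refine sum_mem fun k _ => ?_
      rcases zmod_two_cases (c k) with e' | e' <;> rw [e']
      · rw [sm_zero]; exact zero_mem _
      · rw [sm_one]
        obtain ⟨v, hv⟩ := (hmem (en.symm k)).exists_not_fix
        have := sub_mem_movV (V := V) (hgen ▸ Subgroup.subset_closure ⟨k, rfl⟩ : x k ∈ E) v
        rwa [(hmem _).rv_spec.2 v hv, add_sub_cancel_left] at this
  have hfixx : ∀ v : V, (∀ k, x k • v = v) → v ∈ (fix E : AddSubgroup V) := fun v hv z hz => by
    have hle : Subgroup.closure (Set.range x) ≤ MulAction.stabilizer H v :=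
      (Subgroup.closure_le _).2 (by rintro _ ⟨k, rfl⟩; exact hv k)
    exact hle (hgen ▸ hz)
  have hsplit : ∀ v : V, ∃ u ∈ movV V E, v - u ∈ (fix E : AddSubgroup V) := fun v => by
    obtain ⟨c, hc⟩ := hs.exists_sub_fixed v
    exact ⟨hs.f c, hrange ▸ ⟨c, rfl⟩, hfixx _ hc⟩
  refine ⟨?_, hsplit⟩
  have hker : ∀ z ∈ Subgroup.closure (Set.range x), (∀ c, z • hs.f c = hs.f c) → z = 1 := by
    intro z hz hzf
    set K : Subgroup H := E ⊓ disp (movV V E) with hK
    have hKq : Quad V K := fun a ha v b hb => hb.2.2 _ (ha.2.1 v)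
    have hKp : IsPGroup p ↥K := isPGroup_of_quad hf h.pm.exp hKq
    have hKE : ∀ a ∈ E, cj a K = K := fun a ha => by
      refine Subgroup.eq_of_le_of_card_ge (fun y hy => ?_) (card_cj a K).ge
      obtain ⟨hy1, hy2, hy3⟩ := mem_cj.1 hy
      refine ⟨?_, fun v => ?_, fun u hu => ?_⟩
      · simpa [mul_assoc] using E.mul_mem (E.mul_mem ha hy1) (E.inv_mem ha)
      · have := smul_mem_movV (V := V) ha (hy2 (a⁻¹ • v))
        rwa [mul_smul, mul_smul, smul_inv_smul, smul_sub, smul_inv_smul, smul_inv_smul] at this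
      · have := hy3 _ (smul_mem_movV (V := V) (E.inv_mem ha) hu)
        rwa [mul_smul, mul_smul, smul_inv_smul, smul_left_cancel_iff] at this
    have hbot : K = ⊥ := by
      refine h.eq_bot_of_normalized (g := g) hKp (inf_le_left.trans ?_) fun n hn => ?_
      · rw [h.lineSup_eq]
        exact le_sSup ⟨A, hA, rfl⟩
      · have hle : lineSup V 2 T g ≤ Subgroup.normalizer (K : Set H) := by
          rw [h.lineSup_eq]
          refine sSup_le ?_
          rintro _ ⟨B, hB, rfl⟩
          refine le_normalizer_of_cj fun a ha => ?_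
          by_cases hl : Lk V 2 T g A B
          · exact hKE a (by rw [hE, h.clsSup_eq hA hB hl]; exact ha)
          · exact cj_eq_of_com ((h.com_clsSup hA hB hl).symm.mono le_rfl inf_le_left) ha
        exact cj_eq_of_mem_normalizer (hle hn)
    have hz' : z ∈ K := by
      refine ⟨hgen ▸ hz, fun v => sub_mem_movV (hgen ▸ hz) v, fun u hu => ?_⟩
      rw [hrange] at hu
      obtain ⟨c, rfl⟩ := hu
      exact hzf c
    rw [hbot] at hz'
    exact Subgroup.mem_bot.1 hz'
  obtain ⟨ρ₀, hρ⟩ := hs.exists_iso hker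
  -- the coordinates
  let φ : ↥(movV V E) ≃+ (Fin (2 ^ (m + 1)) → ZMod 2) :=
    (AddEquiv.addSubgroupCongr hrange).trans (AddMonoidHom.ofInjective hs.f_injective).symm
  have hφ : ∀ u : ↥(movV V E), hs.f (φ u) = (u : V) := fun u => by
    show hs.f ((AddMonoidHom.ofInjective hs.f_injective).symm (AddEquiv.addSubgroupCongr hrange u)) = _
    exact (AddMonoidHom.apply_ofInjective_symm hs.f_injective _).trans rfl
  let ex : (Fin (2 ^ (m + 1)) → ZMod 2) →+ (Fin (2 ^ (m + 1) + 1) → ZMod 2) :=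
    AddMonoidHom.mk' extp fun c d => by
      funext i
      refine Fin.lastCases ?_ (fun j => ?_) i <;> simp [extp, Finset.sum_add_distrib]
  refine ⟨m + 1, by omega, Or.inr ⟨hp2, (MulEquiv.subgroupCongr hgen).trans ρ₀,
    ex.comp φ.toAddMonoidHom, fun u => sum_extp _, fun w hw => ⟨φ.symm (res w), ?_⟩,
    fun u => ⟨fun hu => ?_, fun hu => ?_⟩, fun z u i => ?_⟩⟩
  · show extp (φ (φ.symm (res w))) = w
    rw [φ.apply_symm_apply, extp_res hw]
  · have h1 : φ u = 0 := by
      have h2 : extp (φ u) = 0 := hu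
      rw [← res_extp (φ u), h2, map_zero]
    rw [← hφ u, h1, map_zero]
    exact zero_mem _
  · have h1 : φ u = 0 := hs.eq_zero_of_fixed fun k => by
      rw [hφ]
      exact hu _ (hgen ▸ Subgroup.subset_closure ⟨k, rfl⟩)
    show ex (φ u) = 0
    rw [h1, map_zero]
  · set zc : ↥(Subgroup.closure (Set.range x)) := MulEquiv.subgroupCongr hgen z with hzc
    show extp (φ _) i = extp (φ u) ((ρ₀ zc)⁻¹ i)
    have h1 := hρ zc (extp (φ u)) (sum_extp _)
    rw [res_extp, hφ] at h1
    have h2 : φ ⟨(z : H) • (u : V), smul_mem_movV z.2 u.2⟩ =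
        res fun i => extp (φ u) ((ρ₀ zc)⁻¹ i) := hs.f_injective (by rw [hφ]; exact h1)
    rw [h2, extp_res (by rw [Equiv.sum_comp (ρ₀ zc)⁻¹ (extp (φ u))]; exact sum_extp _)]

/-- The main structure theorem, with the members inside the components. -/
theorem exists_components' :
    ∃ (r : ℕ) (E : Fin r → Subgroup H), Components V p (T : Subgroup H) E ∧
      (⨆ i, E i) = lineSup V q T 1 ∧ (∀ i, ∃ B, Mem V q B ∧ B ≤ E i) ∧
      ∀ t ∈ (T : Subgroup H), ∀ i, ∃ j, cj t (E i) = E j := by
  classical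
  set Cl := clsSup V q T 1 '' mems V q T 1 with hCl
  let en : Fin (Nat.card ↥Cl) ≃ ↥Cl := (Finite.equivFin ↥Cl).symm
  let E : Fin (Nat.card ↥Cl) → Subgroup H := fun i => (en i : Subgroup H)
  have hrep : ∀ i, ∃ A ∈ mems V q T 1, clsSup V q T 1 A = E i := fun i => (en i).2
  choose A hA hAE using hrep
  have hnl : ∀ i j, i ≠ j → ¬ Lk V q T 1 (A i) (A j) := fun i j hne hl => hne (en.injective
    (Subtype.ext (show E i = E j by rw [← hAE, ← hAE, h.clsSup_eq (hA i) (hA j) hl])))
  have hsup : (⨆ i, E i) = lineSup V q T 1 := by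
    rw [h.lineSup_eq]
    refine le_antisymm (iSup_le fun i => le_sSup (en i).2) (sSup_le fun X hX => ?_)
    exact le_iSup_of_le (en.symm ⟨X, hX⟩) (show X ≤ (en (en.symm ⟨X, hX⟩) : Subgroup H) by
      rw [Equiv.apply_symm_apply])
  have horth : ∀ i j, i ≠ j → movV V (E i) ≤ fix (E j) := fun i j hne => by
    rw [← hAE, ← hAE]; exact h.movV_clsSup_le (hA i) (hA j) (hnl i j hne)
  have hcom : ∀ i j, i ≠ j → Com (E i) (E j) := fun i j hne => by
    rw [← hAE, ← hAE]; exact h.com_clsSup (hA i) (hA j) (hnl i j hne)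
  have hfixsup : ∀ v : V, (∀ i, v ∈ (fix (E i) : AddSubgroup V)) →
      v ∈ (fix (⨆ i, E i) : AddSubgroup V) := fun v hv => by
    rw [← sSup_range]
    exact fix_sSup _ (by rintro _ ⟨i, rfl⟩; exact hv i)
  refine ⟨_, E, ⟨?_, hcom, fun i => ?_, ?_, fun i j => ?_, fun v => ?_, horth, fun i => ?_⟩, hsup,
    fun i => ⟨A i, (hA i).1, hAE i ▸ h.le_clsSup (hA i) (h.self_mem_line (hA i))⟩,
    fun t ht i => ?_⟩
  rotate_right
  · have ht' : t ∈ cj 1 (T : Subgroup H) := by rwa [cj_one]
    refine ⟨en.symm ⟨clsSup V q T 1 (cj t (A i)), _, mems_cj_of_mem ht' (hA i), rfl⟩, ?_⟩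
    rw [← hAE i, h.cj_clsSup ht']
    show _ = ((en (en.symm _) : ↥Cl) : Subgroup H)
    rw [Equiv.apply_symm_apply]
  · obtain ⟨X, hX⟩ := h.mems_nonempty 1
    haveI : Nonempty ↥Cl := ⟨⟨_, X, hX, rfl⟩⟩
    exact Nat.card_pos
  · set O := ⨆ j ∈ {j | j ≠ i}, E j with hO
    have hOi : Com O (E i) := by
      intro z hz y hy
      have hle : O ≤ Subgroup.centralizer {y} := iSup₂_le fun j hj w hw =>
        Subgroup.mem_centralizer_singleton_iff.2 (hcom j i hj w hw y hy)
      exact Subgroup.mem_centralizer_singleton_iff.1 (hle hz)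
    have hOfix : ∀ u ∈ movV V (E i), ∀ z ∈ O, z • u = u := fun u hu z hz => by
      have hle : O ≤ MulAction.stabilizer H u := iSup₂_le fun j hj w hw =>
        horth i j (Ne.symm hj) hu w hw
      exact hle hz
    refine (Subgroup.eq_bot_iff_forall _).2 fun z hz => ?_
    refine h.eq_one_of_centralizer (g := 1) ⟨1, ?_⟩ ?_
    · rw [pow_one]
      refine pow_p h.pm.faith h.pm.exp (X := E i ⊓ O) (fun a ha v b hb => ?_) hz
      exact hOfix _ (sub_mem_movV ha.1 v) b hb.2
    · have hle : lineSup V q T 1 ≤ Subgroup.centralizer {z} := by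
        rw [← hsup]
        refine iSup_le fun j w hw => Subgroup.mem_centralizer_singleton_iff.2 ?_
        by_cases e : j = i
        · subst e
          exact (hOi z hz.2 w hw).symm
        · exact hcom j i e w hw z hz.1
      exact Subgroup.mem_centralizer_iff.2 fun n hn =>
        Subgroup.mem_centralizer_singleton_iff.1 (hle hn)
  · have := (h.lineSup_spec 1).2
    rwa [cj_one, ← hsup] at this
  · obtain ⟨t, ht, e⟩ := h.exists_cj_mems (hA i) (hA j)
    refine ⟨t, by rwa [cj_one] at ht, ?_⟩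
    rw [← hAE, ← hAE, h.cj_clsSup ht, e]
  · choose u hu hu' using fun i => (h.cls_spec (hA i)).2 v
    refine ⟨v - ∑ i, u i, hfixsup _ fun i => ?_, ?_⟩
    · rw [← Finset.add_sum_erase _ _ (Finset.mem_univ i), ← sub_sub]
      refine sub_mem (by rw [← hAE]; exact hu' i) (sum_mem fun j hj => ?_)
      exact horth j i (Finset.ne_of_mem_erase hj) (by rw [← hAE]; exact hu j)
    · rw [sub_sub_cancel]
      exact sum_mem fun i _ => AddSubgroup.mem_iSup_of_mem i (by rw [← hAE]; exact hu i)
  · rw [← hAE]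
    exact (h.cls_spec (hA i)).1

/-- The main structure theorem. -/
theorem exists_components :
    ∃ (r : ℕ) (E : Fin r → Subgroup H), Components V p (T : Subgroup H) E :=
  let ⟨r, E, hE, _⟩ := h.exists_components'
  ⟨r, E, hE⟩

end Conf

end Cfsg.Agent.FFPM
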