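import Cfsg.Agent.Lib.Thompson.Replacement
import Cfsg.Agent.Lib.Thompson.FFPM.Comp
import Cfsg.Prelude

/-!
A best offender in a group acting faithfully contains a quadratic one.
-/

set_option autoImplicit false
set_option linter.unusedSectionVars false

namespace Cfsg.Agent.FFPM

open Cfsg

theorem exists_quad_offender {G : Type*} [Group G] [Finite G] {p : ℕ} [Fact p.Prime]
    {V A : Subgroup G} (hV : Cfsg.IsElementaryAbelian p V)
    (hAV : A ≤ Subgroup.normalizer (V : Set G)) (hA : Cfsg.IsBestOffenderOn p V A)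
    (hne : ¬ A ≤ Subgroup.centralizer (V : Set G)) :
    ∃ B, B ≤ A ∧ ¬ B ≤ Subgroup.centralizer (V : Set G) ∧
      (∀ b ∈ B, ∀ v ∈ V, b * v * b⁻¹ * v⁻¹ ∈ Subgroup.centralizer (B : Set G)) ∧
      Nat.card ↥V ≤ Nat.card ↥B * Nat.card ↥(V ⊓ Subgroup.centralizer (B : Set G)) := by
  obtain ⟨hB, -, hBne⟩ := Agent.Thompson.bestOffender_replacement
    (Agent.Thompson.isPGroup_of_isElementaryAbelian hV) hV.1 hAV hA (U := V) le_rfl
  set B := A ⊓ Subgroup.centralizer ((⁅V, A⁆ : Subgroup G) : Set G) with hBdef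
  refine ⟨B, inf_le_left, fun hle => hBne (fun e => hne ?_) ?_, fun b hb v hv => ?_, ?_⟩
  · exact Subgroup.commutator_eq_bot_iff_le_centralizer.1 (Subgroup.commutator_comm V A ▸ e)
  · rw [Subgroup.commutator_comm, Subgroup.commutator_eq_bot_iff_le_centralizer]
    exact hle
  · have h1 : b * v * b⁻¹ * v⁻¹ ∈ (⁅V, A⁆ : Subgroup G) := by
      rw [Subgroup.commutator_comm]
      exact Subgroup.commutator_mem_commutator hb.1 hv
    exact Subgroup.mem_centralizer_iff.2 fun c hc =>
      (Subgroup.mem_centralizer_iff.1 (show c ∈ Subgroup.centralizer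
        ((⁅V, A⁆ : Subgroup G) : Set G) from hc.2) _ h1).symm
  · have h1 := hB.1 ⊥ bot_le
    rw [Subgroup.card_bot, one_mul] at h1
    refine le_trans (Subgroup.card_le_of_le (le_inf le_rfl fun v _ => ?_)) h1
    exact Subgroup.mem_centralizer_iff.2 fun x hx => by
      rw [Subgroup.mem_bot.1 hx, one_mul, mul_one]

end Cfsg.Agent.FFPM
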