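import Cfsg.Agent.Lib.Thompson.FFPM.Big

/-!
Coordinates on a pencil.
-/

set_option autoImplicit false
set_option linter.unusedSectionVars false

namespace Cfsg.Agent.FFPM

open FFSL2
open scoped MatrixGroups

variable {H : Type*} [Group H] [Finite H] {V : Type*} [AddCommGroup V] [Finite V]
  [DistribMulAction H V] {p : ℕ} [hpp : Fact p.Prime] {q : ℕ}

/-- Coordinates on a pencil. -/
structure Coord (V : Type*) [AddCommGroup V] [Finite V] [DistribMulAction H V] (L : Subgroup H)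
    (F : Type) [Field F] (ρ : ↥L ≃* SL(2, F)) (ψ : V →+ (Fin 2 → F)) : Prop where
  surj : Function.Surjective ψ
  ker : ∀ v, ψ v = 0 ↔ v ∈ (fix L : AddSubgroup V)
  map : ∀ (z : ↥L) (v : V), ψ ((z : H) • v) = (ρ z : Matrix (Fin 2) (Fin 2) F).mulVec (ψ v)

namespace Conf

variable {T : Sylow p H} {M : Subgroup H} (h : Conf V q T M) {g : H} {A : Subgroup H}
  (hA : A ∈ mems V q T g)
include h hA

theorem exists_coord : ∃ (F : Type) (_ : Field F) (_ : Fintype F)
    (ρ : ↥(sSup (line V q T g A)) ≃* SL(2, F)) (ψ : V →+ (Fin 2 → F)),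
    Fintype.card F = q ∧ Coord V (sSup (line V q T g A)) F ρ ψ := by
  obtain ⟨F, i1, i2, ρ, ψ, hc, h1, h2, h3⟩ := h.exists_natural hA
  exact ⟨F, i1, i2, ρ, ψ, hc, h1, h2, h3⟩

variable {F : Type} [Field F] {ρ : ↥(sSup (line V q T g A)) ≃* SL(2, F)} {ψ : V →+ (Fin 2 → F)}
  (hc : Coord V (sSup (line V q T g A)) F ρ ψ)
include hc

theorem coord_fix_iff {X : Subgroup H} (hX : X ∈ line V q T g A) {x : H} (hx : x ∈ X) (hx1 : x ≠ 1)
    (v : V) : v ∈ (fix X : AddSubgroup V) ↔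
      (ρ ⟨x, le_sSup hX hx⟩ : Matrix (Fin 2) (Fin 2) F).mulVec (ψ v) = ψ v := by
  rw [← hc.map, ← sub_eq_zero, ← map_sub, hc.ker]
  refine ⟨fun hv => by rw [hv x hx, sub_self]; exact zero_mem _, fun hv => ?_⟩
  obtain ⟨Y, hY, hYX, -⟩ := h.exists_third hA (Y := X) hX
  obtain ⟨S, hS, hinj⟩ := h.exists_sys hA
  obtain ⟨w, hw, u, hu, rfl⟩ := AddSubgroup.mem_sup.1
    ((h.sup_line hA hX hY hYX.symm).symm ▸ AddSubgroup.mem_top v :
      v ∈ (fix X : AddSubgroup V) ⊔ fix Y)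
  refine add_mem hw ?_
  by_contra huA
  have hY0 := hY
  rw [← hS] at hX hY
  refine S.comm_not_mem h.pm.faith hX hY (fun e => hYX (hinj hY hX e.symm)) hu huA hx hx1 ?_
  have : (x • (w + u) - (w + u)) ∈ (fix Y : AddSubgroup V) := fun b hb =>
    hv b (le_sSup (s := line V q T g A) hY0 hb)
  rwa [smul_add, hw x hx, add_sub_add_left_eq_sub] at this

/-- The coordinates of each fixed space form a line. -/
theorem coord_line {X : Subgroup H} (hX : X ∈ line V q T g A) {x : H} (hx : x ∈ X) (hx1 : x ≠ 1) :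
    ∃ u₀ : V, x • u₀ - u₀ ∈ (fix X : AddSubgroup V) ∧ ψ (x • u₀ - u₀) ≠ 0 ∧
      ∀ v ∈ (fix X : AddSubgroup V), ∃ c : F, ψ v = c • ψ (x • u₀ - u₀) := by
  obtain ⟨u₀, hu₀⟩ : ∃ u, u ∉ (fix X : AddSubgroup V) := by
    obtain ⟨u, -, hu⟩ := SetLike.exists_of_lt (lt_top_iff_ne_top.2 hX.1.fix_ne_top)
    exact ⟨u, hu⟩
  have he : ψ (x • u₀ - u₀) ≠ 0 := fun e => by
    rw [map_sub, hc.map ⟨x, le_sSup hX hx⟩, sub_eq_zero] at e
    exact hu₀ ((h.coord_fix_iff hA hc hX hx hx1 u₀).2 e)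
  refine ⟨u₀, hX.1.quad x hx u₀, he, fun v hv => ?_⟩
  set N : Matrix (Fin 2) (Fin 2) F := (ρ ⟨x, le_sSup hX hx⟩ : Matrix (Fin 2) (Fin 2) F) - 1 with hN
  by_contra! hne
  have hli : LinearIndependent F ![ψ (x • u₀ - u₀), ψ v] := by
    rw [LinearIndependent.pair_iff' he]
    exact fun c e => hne c e.symm
  have hspan := hli.span_eq_top_of_card_eq_finrank (by simp)
  have hk : ∀ w ∈ (fix X : AddSubgroup V), N.mulVec (ψ w) = 0 := fun w hw => by
    rw [hN, Matrix.sub_mulVec, Matrix.one_mulVec, (h.coord_fix_iff hA hc hX hx hx1 w).1 hw, sub_self]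
  have hz : ∀ y, N.mulVec y = 0 := by
    intro y
    have hy : y ∈ Submodule.span F (Set.range ![ψ (x • u₀ - u₀), ψ v]) := hspan ▸ Submodule.mem_top
    induction hy using Submodule.span_induction with
    | mem y hy =>
      obtain ⟨i, rfl⟩ := hy
      fin_cases i
      · exact hk _ (hX.1.quad x hx u₀)
      · exact hk v hv
    | zero => exact Matrix.mulVec_zero _
    | add y z _ _ hy hz => rw [Matrix.mulVec_add, hy, hz, add_zero]
    | smul c y _ hy => rw [Matrix.mulVec_smul, hy, smul_zero]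
  refine hu₀ ((h.coord_fix_iff hA hc hX hx hx1 u₀).2 ?_)
  have := hz (ψ u₀)
  rwa [hN, Matrix.sub_mulVec, Matrix.one_mulVec, sub_eq_zero] at this

/-- Every fixed vector is a commutator with a given element, modulo the pencil's fixed space. -/
theorem exists_eq_sub {X : Subgroup H} (hX : X ∈ line V q T g A) {x : H} (hx : x ∈ X) (hx1 : x ≠ 1)
    {v : V} (hv : v ∈ (fix X : AddSubgroup V)) :
    ∃ w : V, v - (x • w - w) ∈ (fix (sSup (line V q T g A)) : AddSubgroup V) := by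
  obtain ⟨u₀, -, -, hline⟩ := h.coord_line hA hc hX hx hx1
  obtain ⟨c, hcv⟩ := hline v hv
  obtain ⟨w, hw⟩ := hc.surj (c • ψ u₀)
  refine ⟨w, ?_⟩
  rw [← hc.ker, map_sub, map_sub, hc.map ⟨x, le_sSup hX hx⟩, hw, Matrix.mulVec_smul, hcv, map_sub,
    hc.map ⟨x, le_sSup hX hx⟩, smul_sub, sub_self]

/-- The stabiliser of two members of a pencil has order prime to `p`. -/
theorem eq_one_of_stab {X Y : Subgroup H} (hX : X ∈ line V q T g A) (hY : Y ∈ line V q T g A)
    (hne : X ≠ Y) {d : H} (hd : d ∈ sSup (line V q T g A)) (hdp : d ^ p = 1) (hdX : cj d X = X)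
    (hdY : cj d Y = Y) : d = 1 := by
  have : CharP F p := by
    have h0 : (p : F) = 0 := by
      obtain ⟨v, hv⟩ := hc.surj ![1, 0]
      have h1 := congrArg ψ (h.pm.exp v)
      rw [map_nsmul, hv, map_zero] at h1
      simpa using congrFun h1 0
    obtain ⟨c, hcc⟩ := CharP.exists F
    have hd : c ∣ p := (CharP.cast_eq_zero_iff F c p).1 h0
    rcases (Nat.dvd_prime hpp.out).1 hd with rfl | rfl
    · exact absurd hcc (by intro h'; exact CharP.char_ne_one F 1 rfl)
    · exact hcc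
  have key : ∀ {Z : Subgroup H}, Z ∈ line V q T g A → cj d Z = Z →
      ∃ v ∈ (fix Z : AddSubgroup V), ψ v ≠ 0 ∧
        (ρ ⟨d, hd⟩ : Matrix (Fin 2) (Fin 2) F).mulVec (ψ v) = ψ v := by
    intro Z hZ hdZ
    obtain ⟨z, hz, hz1⟩ := hZ.1.exists_ne_one
    obtain ⟨u₀, hu, hu0, hline⟩ := h.coord_line hA hc hZ hz hz1
    refine ⟨_, hu, hu0, ?_⟩
    set v := z • u₀ - u₀
    have hdv : d • v ∈ (fix Z : AddSubgroup V) := by
      rw [← hdZ, mem_fix_cj, inv_smul_smul]
      exact hu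
    obtain ⟨c, hcd⟩ := hline _ hdv
    rw [hc.map ⟨d, hd⟩] at hcd
    have hpow : ∀ k : ℕ, ((ρ ⟨d, hd⟩ ^ k : SL(2, F)) : Matrix (Fin 2) (Fin 2) F).mulVec (ψ v) =
        c ^ k • ψ v := by
      intro k
      induction k with
      | zero => simp
      | succ k ih =>
        rw [pow_succ, Matrix.SpecialLinearGroup.coe_mul, ← Matrix.mulVec_mulVec, hcd,
          Matrix.mulVec_smul, ih, smul_smul, pow_succ']
    have h1 := hpow p
    rw [← map_pow, show (⟨d, hd⟩ : ↥(sSup (line V q T g A))) ^ p = 1 from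
      Subtype.ext (by simpa using hdp), map_one, Matrix.SpecialLinearGroup.coe_one,
      Matrix.one_mulVec] at h1
    have h2 : c ^ p = 1 := smul_left_injective F hu0 (show c ^ p • ψ v = (1 : F) • ψ v by
      rw [one_smul]; exact h1.symm)
    have h3 : c = 1 := frobenius_inj F p (by rw [frobenius_def, frobenius_def, h2, one_pow])
    rw [hcd, h3, one_smul]
  obtain ⟨v, hv, hv0, hvf⟩ := key hX hdX
  obtain ⟨w, hw, hw0, hwf⟩ := key hY hdY
  have hli : LinearIndependent F ![ψ v, ψ w] := by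
    rw [LinearIndependent.pair_iff' hv0]
    intro c e
    obtain ⟨x, hx, hx1⟩ := hX.1.exists_ne_one
    have hwX : w ∈ (fix X : AddSubgroup V) := by
      rw [h.coord_fix_iff hA hc hX hx hx1, ← e, Matrix.mulVec_smul,
        (h.coord_fix_iff hA hc hX hx hx1 v).1 hv]
    refine hw0 ((hc.ker w).2 ?_)
    rw [h.sSup_line hA hX hY hne, fix_sup]
    exact ⟨hwX, hw⟩
  have hspan := hli.span_eq_top_of_card_eq_finrank (by simp)
  have hM : ∀ y, (ρ ⟨d, hd⟩ : Matrix (Fin 2) (Fin 2) F).mulVec y = y := by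
    intro y
    have hy : y ∈ Submodule.span F (Set.range ![ψ v, ψ w]) := hspan ▸ Submodule.mem_top
    induction hy using Submodule.span_induction with
    | mem y hy =>
      obtain ⟨i, rfl⟩ := hy
      fin_cases i
      · exact hvf
      · exact hwf
    | zero => exact Matrix.mulVec_zero _
    | add y z _ _ hy hz => rw [Matrix.mulVec_add, hy, hz]
    | smul c y _ hy => rw [Matrix.mulVec_smul, hy]
  have h1 : ρ ⟨d, hd⟩ = 1 := Subtype.ext (Matrix.ext_iff_mulVec.2 fun y => by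
    rw [hM, Matrix.SpecialLinearGroup.coe_one, Matrix.one_mulVec])
  exact congrArg Subtype.val ((MulEquiv.map_eq_one_iff ρ).1 h1)

end Conf

end Cfsg.Agent.FFPM
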