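import Cfsg.Agent.Lib.Thompson.FFPM.Full
import Cfsg.Agent.Lib.Thompson.FFPM.Natural
import Cfsg.Agent.LAE65.BlockIrred

/-!
The subgroup generated by the members in one Sylow subgroup: it is self-centralising there and it
contains the abelian offenders.
-/

set_option autoImplicit false
set_option linter.unusedSectionVars false

namespace Cfsg.Agent.FFPM

open FFSL2
open scoped MatrixGroups

variable {H : Type*} [Group H] [Finite H] {V : Type*} [AddCommGroup V] [Finite V]
  [DistribMulAction H V] {p : ℕ} [hpp : Fact p.Prime] {q : ℕ}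

/-- The subgroup generated by the members in the Sylow subgroup. -/
def roots (V : Type*) [AddCommGroup V] [DistribMulAction H V] (q : ℕ) (T : Sylow p H) : Subgroup H :=
  sSup (mems V q T 1)

/-- A `p`-element fixes a nonzero point of an invariant section. -/
theorem exists_fixed_mod (hp : ∀ v : V, p • v = 0) {z : H} (hz : ∃ k, z ^ p ^ k = 1)
    {U W : AddSubgroup V} (hU : ∀ u ∈ U, z • u ∈ U) {u₀ : V} (hu₀ : u₀ ∈ U) (hu₀W : u₀ ∉ W) :
    ∃ u ∈ U, u ∉ W ∧ z • u - u ∈ W := by
  obtain ⟨k, hk⟩ := hz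
  set d : AddMonoid.End V := DistribMulAction.toAddMonoidEnd H V z - 1 with hd
  have hdv : ∀ v, d v = z • v - v := fun v => rfl
  have hnil : ∀ v, (d ^ p ^ k) v = 0 := by
    intro v
    obtain ⟨r, hr⟩ := (Commute.one_left d).exists_add_pow_prime_pow_eq hpp.out k
    have e : (1 : AddMonoid.End V) + d = DistribMulAction.toAddMonoidEnd H V z := by
      rw [hd, add_sub_cancel]
    rw [e, ← map_pow, hk, map_one, one_pow, mul_one] at hr
    have h0 : ((p : AddMonoid.End V) * d * r) v = 0 := by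
      show ((p : AddMonoid.End V)) ((d * r) v) = 0
      rw [AddMonoid.End.natCast_apply]
      exact hp _
    have h1 : (1 : AddMonoid.End V) v =
        (1 : AddMonoid.End V) v + (d ^ p ^ k) v + ((p : AddMonoid.End V) * d * r) v :=
      congrArg (fun f : AddMonoid.End V => f v) hr
    rw [h0, add_zero, left_eq_add] at h1
    exact h1
  have hin : ∀ i, (d ^ i) u₀ ∈ U := by
    intro i
    induction i with
    | zero => simpa using hu₀
    | succ i ih =>
      rw [pow_succ', AddMonoid.End.coe_mul, Function.comp_apply, hdv]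
      exact sub_mem (hU _ ih) ih
  classical
  have hex : ∃ i, (d ^ i) u₀ ∈ W := ⟨p ^ k, by rw [hnil]; exact zero_mem _⟩
  obtain ⟨i, hi⟩ : ∃ i, Nat.find hex = i + 1 := by
    refine ⟨Nat.find hex - 1, ?_⟩
    have : Nat.find hex ≠ 0 := fun e => by
      have := Nat.find_spec hex
      rw [e] at this
      exact hu₀W (by simpa using this)
    omega
  refine ⟨(d ^ i) u₀, hin i, Nat.find_min hex (by omega), ?_⟩
  have := Nat.find_spec hex
  rwa [hi, pow_succ', AddMonoid.End.coe_mul, Function.comp_apply, hdv] at this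

theorem com_mem_cj_eq {z : H} {A : Subgroup H} (h : ∀ a ∈ A, z * a = a * z) : cj z A = A := by
  ext x
  rw [mem_cj]
  refine ⟨fun hx => ?_, fun hx => ?_⟩
  · have := h _ hx
    simp only [← mul_assoc, mul_inv_cancel, one_mul] at this
    rw [mul_right_cancel this]
    exact hx
  · rw [show z⁻¹ * x * z = x by rw [mul_assoc, ← h x hx, inv_mul_cancel_left]]
    exact hx

namespace Conf

variable {T : Sylow p H} {M : Subgroup H} (h : Conf V q T M)
include h

theorem roots_le : roots V q T ≤ (T : Subgroup H) :=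
  sSup_le fun A hA => by simpa [cj_one] using hA.2

theorem mem_le_roots {A : Subgroup H} (hA : A ∈ mems V q T 1) : A ≤ roots V q T := le_sSup hA

theorem com_roots : Com (roots V q T) (roots V q T) :=
  com_sSup fun _ hA => (com_sSup fun _ hB => h.com_mems hB hA).symm

theorem cj_roots {t : H} (ht : t ∈ (T : Subgroup H)) : cj t (roots V q T) = roots V q T := by
  refine Subgroup.eq_of_le_of_card_ge ?_ (card_cj t _).ge
  rw [le_cj_iff]
  refine sSup_le fun A hA => le_cj_iff.1 (le_sSup ?_)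
  exact mems_cj_of_mem (by rwa [cj_one]) hA

variable {A : Subgroup H} (hA : A ∈ mems V q T 1)
include hA

theorem fix_sSup_le_fix : (fix (sSup (line V q T 1 A)) : AddSubgroup V) ≤ fix A :=
  fun _ hv a ha => hv a (le_sSup (s := line V q T 1 A) (h.self_mem_line hA) ha)

/-- Commutators of a member are not fixed by its pencil. -/
theorem sub_not_mem {a : H} (ha : a ∈ A) (ha1 : a ≠ 1) {v : V} (hv : v ∉ (fix A : AddSubgroup V)) :
    a • v - v ∉ (fix (sSup (line V q T 1 A)) : AddSubgroup V) := by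
  obtain ⟨F, _, _, ρ, ψ, -, hc⟩ := h.exists_coord hA
  intro hfix
  refine hv ((h.coord_fix_iff hA hc (h.self_mem_line hA) ha ha1 v).2 ?_)
  rw [← hc.map, ← sub_eq_zero, ← map_sub, hc.ker]
  exact hfix

/-- Commutators of a member are fixed by all members. -/
theorem sub_mem_fix_roots {a : H} (ha : a ∈ A) (v : V) :
    a • v - v ∈ (fix (roots V q T) : AddSubgroup V) := fix_sSup _ fun B hB => by
  by_cases e : B = A
  · subst e; exact hA.1.quad a ha v
  · exact Mem.orth_of_com h.pm.faith h.no_over hA.1 hB.1 (h.com_mems hA hB) a ha v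

/-- An element commuting with a member can be adjusted to fix a given point of its pencil. -/
theorem exists_adjust {z : H} (hzl : ∀ X ∈ line V q T 1 A, cj z X ∈ line V q T 1 A)
    (hzA : cj z A = A) {Y : Subgroup H} (hY : Y ∈ line V q T 1 A) (hne : A ≠ Y) :
    ∃ a ∈ A, cj (a⁻¹ * z) Y = Y ∧ cj (a⁻¹ * z) A = A := by
  obtain ⟨a, ha, e⟩ := h.orbit_line hA (h.self_mem_line hA) hY (hzl Y hY) hne
    (fun e => hne (cj_injective z (hzA.trans e.symm)))
  refine ⟨a, ha, ?_, ?_⟩
  · rw [cj_mul, e, cj_inv_cancel]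
  · rw [cj_mul, hzA, cj_self (A.inv_mem ha)]

/-- An element centralising a member and fixing another point centralises the pencil. -/
theorem mem_centralizer_line {z : H} (hz : ∀ a ∈ A, z * a = a * z) {Y : Subgroup H}
    (hY : Y ∈ line V q T 1 A) (hne : A ≠ Y) (hzY : cj z Y = Y) :
    z ∈ Subgroup.centralizer ((sSup (line V q T 1 A) : Subgroup H) : Set H) := by
  have hall : ∀ X ∈ line V q T 1 A, cj z X = X := by
    intro X hX
    by_cases e : X = A
    · subst e; exact com_mem_cj_eq hz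
    obtain ⟨a, ha, rfl⟩ := h.orbit_line hA (h.self_mem_line hA) hY hX hne e
    rw [← cj_mul, hz a ha, cj_mul, hzY]
  have hzy : ∀ y ∈ Y, z * y = y * z := by
    intro y hy
    have hy' : z * y * z⁻¹ ∈ Y := by
      rw [← hzY, mem_cj]; simpa [mul_assoc] using hy
    have hmem := h.line_conj hA hY (h.self_mem_line hA) hy
    have e1 : cj (z * y * z⁻¹) A = cj y A := by
      rw [cj_mul, cj_mul]
      have : cj z⁻¹ A = A := com_mem_cj_eq fun a ha => by
        rw [inv_mul_eq_iff_eq_mul, ← mul_assoc, hz a ha, mul_inv_cancel_right]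
      rw [this, hall _ hmem]
    have := h.free_line hA hY (h.self_mem_line hA) hne.symm (Y.mul_mem (Y.inv_mem hy) hy')
      (by rw [cj_mul, e1, cj_inv_cancel])
    rw [inv_mul_eq_one] at this
    exact (mul_inv_eq_iff_eq_mul.1 this.symm)
  rw [h.sSup_line hA (h.self_mem_line hA) hY hne, Subgroup.mem_centralizer_iff]
  intro x hx
  have hle : A ⊔ Y ≤ Subgroup.centralizer {z} := sup_le
    (fun a ha => Subgroup.mem_centralizer_singleton_iff.2 (hz a ha).symm)
    (fun y hy => Subgroup.mem_centralizer_singleton_iff.2 (hzy y hy).symm)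
  exact Subgroup.mem_centralizer_singleton_iff.1 (hle hx)

theorem exists_other : ∃ Y ∈ line V q T 1 A, A ≠ Y := by
  obtain ⟨Y, hY, hne, -⟩ := h.exists_third hA (Y := A) (h.self_mem_line hA)
  exact ⟨Y, hY, hne.symm⟩

omit hA
/-- A `p`-element of the Sylow subgroup fixing a member moves it onto the pencil. -/
theorem line_cj_of_fix {z : H} (hz : z ∈ (T : Subgroup H)) {A : Subgroup H} (hzA : cj z A = A) :
    ∀ X ∈ line V q T 1 A, cj z X ∈ line V q T 1 A := fun X hX => by
  have := cj_line (by rwa [cj_one]) hX (t := z)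
  rwa [hzA] at this

/-- An element of the Sylow subgroup centralising all members is a product of members. -/
theorem mem_roots_of_com {z : H} (hz : z ∈ (T : Subgroup H))
    (hc : ∀ d ∈ roots V q T, z * d = d * z) : z ∈ roots V q T := by
  classical
  have key : ∀ s : Finset (Subgroup H), (∀ A ∈ s, A ∈ mems V q T 1) →
      ∃ d ∈ roots V q T,
        (∀ A ∈ s, d⁻¹ * z ∈ Subgroup.centralizer ((sSup (line V q T 1 A) : Subgroup H) : Set H)) ∧
        ∀ B ∈ mems V q T 1, B ∉ s →
          d ∈ Subgroup.centralizer ((sSup (line V q T 1 B) : Subgroup H) : Set H) := by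
    intro s
    induction s using Finset.induction_on with
    | empty => exact fun _ => ⟨1, one_mem _, by simp, fun _ _ _ => one_mem _⟩
    | @insert A s hAs ih =>
      intro hs
      have hA : A ∈ mems V q T 1 := hs A (Finset.mem_insert_self _ _)
      obtain ⟨d, hd, hds, hdn⟩ := ih fun B hB => hs B (Finset.mem_insert_of_mem hB)
      obtain ⟨Y, hY, hne⟩ := h.exists_other hA
      have hd' : d⁻¹ * z ∈ (T : Subgroup H) := mul_mem (inv_mem (h.roots_le hd)) hz
      have hdc : ∀ a ∈ A, d⁻¹ * z * a = a * (d⁻¹ * z) := fun a ha => by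
        have ha' := h.mem_le_roots hA ha
        rw [mul_assoc, hc a ha', ← mul_assoc, h.com_roots _ (inv_mem hd) a ha', mul_assoc]
      have hdA : cj (d⁻¹ * z) A = A := com_mem_cj_eq hdc
      obtain ⟨a, ha, haY, -⟩ := h.exists_adjust hA (h.line_cj_of_fix hd' hdA) hdA hY hne
      have haC : a⁻¹ * (d⁻¹ * z) ∈
          Subgroup.centralizer ((sSup (line V q T 1 A) : Subgroup H) : Set H) := by
        refine h.mem_centralizer_line hA (fun b hb => ?_) hY hne haY
        rw [mul_assoc, hdc b hb, ← mul_assoc, h.com_roots _ (inv_mem (h.mem_le_roots hA ha)) b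
          (h.mem_le_roots hA hb), mul_assoc]
      have haB : ∀ B ∈ mems V q T 1, B ≠ A →
          a ∈ Subgroup.centralizer ((sSup (line V q T 1 B) : Subgroup H) : Set H) := fun B hB hBA => by
        rw [Subgroup.mem_centralizer_iff]
        exact fun x hx => (com_sSup fun X hX => h.com_line_mem hB hA (Ne.symm hBA) hX) x hx a ha
      refine ⟨d * a, mul_mem hd (h.mem_le_roots hA ha), fun B hB => ?_, fun B hB hBs => ?_⟩
      · rw [mul_inv_rev, mul_assoc]
        rcases Finset.mem_insert.1 hB with rfl | hB'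
        · exact haC
        · exact mul_mem (inv_mem (haB B (hs B hB) (fun e => hAs (e ▸ hB')))) (hds B hB')
      · rw [Finset.mem_insert, not_or] at hBs
        exact mul_mem (hdn B hB hBs.2) (haB B hB hBs.1)
  obtain ⟨d, hd, hds, -⟩ := key (Set.toFinite (mems V q T 1)).toFinset fun A hA => by simpa using hA
  have hk : ∃ k, (d⁻¹ * z) ^ p ^ k = 1 := by
    obtain ⟨k, hk⟩ := T.isPGroup' ⟨_, mul_mem (inv_mem (h.roots_le hd)) hz⟩
    exact ⟨k, by simpa using congrArg Subtype.val hk⟩
  have h1 : d⁻¹ * z = 1 := by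
    refine h.eq_one_of_centralizer (g := 1) hk (Subgroup.mem_centralizer_iff.2 fun n hn => ?_)
    have hle : lineSup V q T 1 ≤ Subgroup.centralizer {d⁻¹ * z} := sSup_le (by
      rintro X ⟨A, hA, hX⟩ x hx
      exact Subgroup.mem_centralizer_singleton_iff.2 (Subgroup.mem_centralizer_iff.1
        (hds A (by simpa using hA)) x (le_sSup (s := line V q T 1 A) hX hx)))
    exact Subgroup.mem_centralizer_singleton_iff.1 (hle hn)
  rwa [← inv_mul_eq_one.1 h1]

/-- An element of the Sylow subgroup fixing the fixed space of all members is such a product. -/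
theorem mem_roots_of_fix {z : H} (hz : z ∈ (T : Subgroup H))
    (hf : ∀ v ∈ (fix (roots V q T) : AddSubgroup V), z • v = v) : z ∈ roots V q T := by
  refine h.mem_roots_of_com hz fun d hd => ?_
  suffices hgoal : ∀ A ∈ mems V q T 1, ∀ a ∈ A, z * a = a * z by
    have hle : roots V q T ≤ Subgroup.centralizer {z} := sSup_le fun A hA a ha =>
      Subgroup.mem_centralizer_singleton_iff.2 (hgoal A hA a ha).symm
    exact (Subgroup.mem_centralizer_singleton_iff.1 (hle hd)).symm
  intro A hA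
  obtain ⟨a₁, ha₁, ha₁1⟩ := hA.1.exists_ne_one
  obtain ⟨v₁, hv₁⟩ : ∃ u, u ∉ (fix A : AddSubgroup V) := by
    obtain ⟨u, -, hu⟩ := SetLike.exists_of_lt (lt_top_iff_ne_top.2 hA.1.fix_ne_top)
    exact ⟨u, hu⟩
  have hzA : cj z A = A := by
    by_contra hne
    have hA' : cj z A ∈ mems V q T 1 := mems_cj_of_mem (by rwa [cj_one]) hA
    have h1 : (z * a₁ * z⁻¹) • (z • v₁) - z • v₁ = a₁ • v₁ - v₁ := by
      rw [← hf _ (h.sub_mem_fix_roots hA ha₁ v₁), smul_sub, mul_smul, mul_smul, inv_smul_smul]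
    refine h.sub_not_mem hA ha₁ ha₁1 hv₁ (h1 ▸ fix_sSup _ fun X hX => ?_)
    exact Mem.orth_of_com h.pm.faith h.no_over hA'.1 hX.1 (h.com_line_mem hA hA' hne hX).symm _
      (mem_cj.2 (by simpa [mul_assoc] using ha₁)) _
  intro a ha
  obtain ⟨Y, hY, hne⟩ := h.exists_other hA
  obtain ⟨a₀, ha₀, hz'Y, hz'A⟩ := h.exists_adjust hA (h.line_cj_of_fix hz hzA) hzA hY hne
  have hz'T : a₀⁻¹ * z ∈ (T : Subgroup H) :=
    mul_mem (inv_mem (h.roots_le (h.mem_le_roots hA ha₀))) hz
  set z' := a₀⁻¹ * z with hz'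
  have hz'f : ∀ v ∈ (fix (roots V q T) : AddSubgroup V), z' • v = v := fun v hv => by
    rw [mul_smul, hf v hv, hv _ (inv_mem (h.mem_le_roots hA ha₀))]
  obtain ⟨u₀, hu₀, hu₀A⟩ : ∃ u ∈ (fix Y : AddSubgroup V), u ∉ (fix A : AddSubgroup V) := by
    by_contra! hall
    exact hv₁ ((sup_le le_rfl hall : fix A ⊔ fix Y ≤ fix A)
      ((h.sup_line hA (h.self_mem_line hA) hY hne).ge (AddSubgroup.mem_top v₁)))
  obtain ⟨w, hwY, hwS, hwf⟩ : ∃ w ∈ (fix Y : AddSubgroup V),
      w ∉ (fix (sSup (line V q T 1 A)) : AddSubgroup V) ∧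
        z' • w - w ∈ (fix (sSup (line V q T 1 A)) : AddSubgroup V) := by
    refine exists_fixed_mod h.pm.exp ?_ (fun u hu => ?_) hu₀
      (fun e => hu₀A (h.fix_sSup_le_fix hA e))
    · obtain ⟨k, hk⟩ := T.isPGroup' ⟨_, hz'T⟩
      exact ⟨k, by simpa using congrArg Subtype.val hk⟩
    · rw [← hz'Y, mem_fix_cj, inv_smul_smul]
      exact hu
  have hwA : w ∉ (fix A : AddSubgroup V) := fun e => hwS (by
    rw [h.sSup_line hA (h.self_mem_line hA) hY hne, fix_sup]
    exact ⟨e, hwY⟩)
  have ha' : z' * a * z'⁻¹ ∈ A := by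
    rw [← hz'A, mem_cj]; simpa [mul_assoc] using ha
  have h1 : (z' * a * z'⁻¹) • (z' • w) - z' • w = a • w - w := by
    rw [← hz'f _ (h.sub_mem_fix_roots hA ha w), smul_sub, mul_smul, mul_smul, inv_smul_smul]
  have h2 : (z' * a * z'⁻¹) • w = a • w := by
    have h3 := h.fix_sSup_le_fix hA hwf _ ha'
    rw [smul_sub] at h3
    linear_combination (norm := abel) h1 - h3
  have h3 : a⁻¹ * (z' * a * z'⁻¹) = 1 := by
    by_contra h4
    refine hwA (hA.1.elt _ (A.mul_mem (A.inv_mem ha) ha') h4 w ?_)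
    rw [mul_smul, h2, inv_smul_smul]
  rw [inv_mul_eq_one] at h3
  have h5 : z' * a = a * z' := by rw [← mul_inv_eq_iff_eq_mul]; exact h3.symm
  have hz2 : z = a₀ * z' := by rw [hz', mul_inv_cancel_left]
  rw [hz2, mul_assoc, h5, ← mul_assoc, h.com_mems hA hA a₀ ha₀ a ha, mul_assoc]

/-- Elements commuting with a pencil act as scalars, hence trivially, on its coordinates. -/
theorem sub_mem_of_centralizer (hA : A ∈ mems V q T 1) {x : H} (hx : ∃ k, x ^ p ^ k = 1)
    (hc : x ∈ Subgroup.centralizer ((sSup (line V q T 1 A) : Subgroup H) : Set H)) (v : V) :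
    x • v - v ∈ (fix (sSup (line V q T 1 A)) : AddSubgroup V) := by
  set S := sSup (line V q T 1 A) with hS
  obtain ⟨F, _, _, ρ, ψ, -, hco⟩ := h.exists_coord hA
  have hxs : ∀ s ∈ S, ∀ u : V, x • s • u = s • x • u := fun s hs u => by
    rw [← mul_smul, ← mul_smul, (Subgroup.mem_centralizer_iff.1 hc s hs).symm]
  have hxS : ∀ u ∈ (fix S : AddSubgroup V), x • u ∈ (fix S : AddSubgroup V) := fun u hu s hs => by
    rw [← hxs s hs, hu s hs]
  obtain ⟨a₁, ha₁, ha₁1⟩ := hA.1.exists_ne_one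
  obtain ⟨v₁, hv₁⟩ : ∃ u, u ∉ (fix A : AddSubgroup V) := by
    obtain ⟨u, -, hu⟩ := SetLike.exists_of_lt (lt_top_iff_ne_top.2 hA.1.fix_ne_top)
    exact ⟨u, hu⟩
  obtain ⟨w, -, hw, hwf⟩ := exists_fixed_mod (U := ⊤) (W := (fix S : AddSubgroup V)) h.pm.exp hx
    (fun u _ => AddSubgroup.mem_top _) (AddSubgroup.mem_top v₁) fun e => hv₁ (h.fix_sSup_le_fix hA e)
  let U : AddSubgroup V :=
    { carrier := {u | x • u - u ∈ (fix S : AddSubgroup V)}
      zero_mem' := by simp [zero_mem]
      add_mem' := fun {a b} (ha : x • a - a ∈ _) (hb : x • b - b ∈ _) => by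
        show x • (a + b) - (a + b) ∈ (fix S : AddSubgroup V)
        rw [show x • (a + b) - (a + b) = (x • a - a) + (x • b - b) by rw [smul_add]; abel]
        exact add_mem ha hb
      neg_mem' := fun {a} (ha : x • a - a ∈ _) => by
        show x • (-a) - -a ∈ (fix S : AddSubgroup V)
        rw [smul_neg, neg_sub_neg, ← neg_sub]; exact neg_mem ha }
  have htop : U.map ψ = ⊤ := by
    refine LAE65.Block.sl2_derived_span _ ⟨w, hwf, rfl⟩ (fun e => hw ((hco.ker w).1 e)) ?_
    rintro g - _ ⟨u, hu, rfl⟩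
    refine ⟨(ρ.symm g : H) • u, fun s hs => ?_, (hco.map _ u).trans (by rw [MulEquiv.apply_symm_apply])⟩
    show s • (x • (ρ.symm g : H) • u - (ρ.symm g : H) • u) = _
    rw [hxs _ (ρ.symm g).2, ← smul_sub, ← mul_smul]
    have h1 : (s * (ρ.symm g : H)) ∈ S := mul_mem hs (ρ.symm g).2
    rw [(hu : x • u - u ∈ (fix S : AddSubgroup V)) _ h1, hu _ (ρ.symm g).2]
  obtain ⟨u, hu, hu'⟩ := htop.ge (AddSubgroup.mem_top (ψ v))
  have h1 : v - u ∈ (fix S : AddSubgroup V) := by rw [← hco.ker, map_sub, hu', sub_self]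
  have := add_mem (sub_mem (hxS _ h1) h1) hu
  rwa [show x • (v - u) - (v - u) + (x • u - u) = x • v - v by rw [smul_sub]; abel] at this

/-- An abelian offender in the Sylow subgroup lies in the product of the members. -/
theorem offender_le_roots : ∀ (n : ℕ) (X : Subgroup H), Nat.card ↥X ≤ n → X ≤ (T : Subgroup H) →
    Com X X → Nat.card V ≤ mu V X → X ≤ roots V q T := by
  intro n
  induction n with
  | zero => intro X hX; exact absurd hX (by have : 0 < Nat.card ↥X := Nat.card_pos; omega)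
  | succ n ih =>
    intro X hXn hXT hX hmu
    by_cases hne : X = ⊥
    · rw [hne]; exact bot_le
    obtain ⟨B, hB, hBX⟩ := h.offender_exists (T.isPGroup'.to_le hXT) hX hne hmu
    have hBm : B ∈ mems V q T 1 := ⟨hB, by rw [cj_one]; exact hBX.trans hXT⟩
    set S := sSup (line V q T 1 B) with hS
    set X₁ := X ⊓ Subgroup.centralizer ((S : Subgroup H) : Set H) with hX₁
    obtain ⟨Y, hY, hne'⟩ := h.exists_other hBm
    have hdec : ∀ x ∈ X, ∃ b ∈ B, b⁻¹ * x ∈ X₁ := by
      intro x hx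
      have hxB : cj x B = B := com_mem_cj_eq fun b hb => hX x hx b (hBX hb)
      obtain ⟨b, hb, hbY, -⟩ := h.exists_adjust hBm (h.line_cj_of_fix (hXT hx) hxB) hxB hY hne'
      have hbx : b⁻¹ * x ∈ X := mul_mem (inv_mem (hBX hb)) hx
      exact ⟨b, hb, hbx, h.mem_centralizer_line hBm (fun c hc => hX _ hbx c (hBX hc)) hY hne' hbY⟩
    have hcard : Nat.card ↥X ≤ q * Nat.card ↥X₁ := by
      choose b hb hbx using hdec
      rw [← hB.card, ← Nat.card_prod]
      refine Nat.card_le_card_of_injective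
        (fun x : ↥X => ((⟨b x x.2, hb x x.2⟩ : ↥B), (⟨_, hbx x x.2⟩ : ↥X₁))) fun x y e => ?_
      have e1 : b x x.2 = b y y.2 := congrArg (fun r : ↥B × ↥X₁ => (r.1 : H)) e
      have e2 : (b x x.2)⁻¹ * (x : H) = (b y y.2)⁻¹ * y :=
        congrArg (fun r : ↥B × ↥X₁ => (r.2 : H)) e
      rw [e1, mul_right_inj] at e2
      exact Subtype.ext e2
    have hlt : X₁ ≠ X := fun e => by
      obtain ⟨b, hb, hb1⟩ := hB.exists_ne_one
      obtain ⟨u₁, hu₁⟩ : ∃ u, u ∉ (fix B : AddSubgroup V) := by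
        obtain ⟨u, -, hu⟩ := SetLike.exists_of_lt (lt_top_iff_ne_top.2 hB.fix_ne_top)
        exact ⟨u, hu⟩
      refine h.sub_not_mem hBm hb hb1 hu₁ (h.sub_mem_of_centralizer hBm ?_
        (e.ge (hBX hb)).2 u₁)
      obtain ⟨k, hk⟩ := T.isPGroup' ⟨b, hXT (hBX hb)⟩
      exact ⟨k, by simpa using congrArg Subtype.val hk⟩
    have hX₁n : Nat.card ↥X₁ ≤ n := by
      have : Nat.card ↥X₁ < Nat.card ↥X :=
        lt_of_le_of_ne (Subgroup.card_le_of_le inf_le_left) fun e =>
          hlt (Subgroup.eq_of_le_of_card_ge inf_le_left e.ge)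
      omega
    have hsum : (fix B : AddSubgroup V) ⊔ fix X₁ = ⊤ := by
      rw [eq_top_iff]
      intro v _
      obtain ⟨F, _, _, ρ, ψ, -, hco⟩ := h.exists_coord hBm
      have htop : (movV V S).map ψ = ⊤ := by
        obtain ⟨b, hb, hb1⟩ := hB.exists_ne_one
        obtain ⟨u₁, hu₁⟩ : ∃ u, u ∉ (fix B : AddSubgroup V) := by
          obtain ⟨u, -, hu⟩ := SetLike.exists_of_lt (lt_top_iff_ne_top.2 hB.fix_ne_top)
          exact ⟨u, hu⟩
        refine LAE65.Block.sl2_derived_span _
          ⟨_, sub_mem_movV (le_sSup (s := line V q T 1 B) (h.self_mem_line hBm) hb) u₁, rfl⟩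
          (fun e => h.sub_not_mem hBm hb hb1 hu₁ ((hco.ker _).1 e)) ?_
        rintro g - _ ⟨u, hu, rfl⟩
        exact ⟨_, smul_mem_movV (ρ.symm g).2 hu, (hco.map _ u).trans (by rw [MulEquiv.apply_symm_apply])⟩
      obtain ⟨u, hu, hu'⟩ := htop.ge (AddSubgroup.mem_top (ψ v))
      have hu1 : u ∈ (fix X₁ : AddSubgroup V) := by
        intro x hx
        clear hu'
        induction hu using AddSubgroup.closure_induction with
        | mem u hu =>
          obtain ⟨s, hs, v', rfl⟩ := hu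
          have hxs : x * s = s * x := (Subgroup.mem_centralizer_iff.1 hx.2 s hs).symm
          obtain ⟨k, hk⟩ := T.isPGroup' ⟨x, hXT hx.1⟩
          have h2 := h.sub_mem_of_centralizer hBm ⟨k, by simpa using congrArg Subtype.val hk⟩ hx.2 v' s hs
          rw [smul_sub, ← mul_smul, ← hxs, mul_smul, sub_eq_sub_iff_sub_eq_sub] at h2
          rw [smul_sub]
          exact h2
        | zero => exact smul_zero x
        | add a c _ _ ha hc => rw [smul_add, ha, hc]
        | neg a _ ha => rw [smul_neg, ha]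
        
      refine AddSubgroup.mem_sup.2 ⟨v - u, h.fix_sSup_le_fix hBm ?_, u, hu1, sub_add_cancel v u⟩
      rw [← hco.ker, map_sub, hu', sub_self]
    have hfix : q * Nat.card ↥(fix X : AddSubgroup V) ≤ Nat.card ↥(fix X₁ : AddSubgroup V) := by
      have h1 := card_sup_mul_card_inf (fix B : AddSubgroup V) (fix X₁)
      rw [hsum, AddSubgroup.card_top, ← hB.eq] at h1
      have h2 : Nat.card ↥(fix X : AddSubgroup V) ≤ Nat.card ↥((fix B : AddSubgroup V) ⊓ fix X₁) :=
        AddSubgroup.card_le_of_le fun w hw =>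
          ⟨fun b hb => hw b (hBX hb), fun x hx => hw x hx.1⟩
      refine (Nat.mul_le_mul_left q h2).trans (le_of_eq ?_)
      refine Nat.eq_of_mul_eq_mul_left (n := Nat.card ↥(fix B : AddSubgroup V)) Nat.card_pos ?_
      rw [← h1]
      ring
    have hmu₁ : Nat.card V ≤ mu V X₁ := hmu.trans <| by
      rw [mu, mu]
      calc Nat.card ↥X * Nat.card ↥(fix X : AddSubgroup V)
          ≤ q * Nat.card ↥X₁ * Nat.card ↥(fix X : AddSubgroup V) := Nat.mul_le_mul_right _ hcard
        _ = Nat.card ↥X₁ * (q * Nat.card ↥(fix X : AddSubgroup V)) := by ring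
        _ ≤ _ := Nat.mul_le_mul_left _ hfix
    have h1 := ih X₁ hX₁n (inf_le_left.trans hXT) (hX.mono inf_le_left inf_le_left) hmu₁
    intro x hx
    obtain ⟨b, hb, hbx⟩ := hdec x hx
    rw [← mul_inv_cancel_left b x]
    exact mul_mem (h.mem_le_roots hBm hb) (h1 hbx)

/-- The members other than `A`. -/
theorem com_others {A : Subgroup H} (hA : A ∈ mems V q T 1) :
    Com (sSup (line V q T 1 A)) (sSup (mems V q T 1 \ {A})) :=
  com_sSup fun _ hX => (com_sSup fun _ hB => (h.com_line_mem hA hB.1 hB.2 hX).symm).symm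

theorem roots_eq {A : Subgroup H} (hA : A ∈ mems V q T 1) :
    roots V q T = A ⊔ sSup (mems V q T 1 \ {A}) := by
  refine le_antisymm (sSup_le fun B hB => ?_) (sup_le (h.mem_le_roots hA) (sSup_le fun B hB => ?_))
  · by_cases e : B = A
    · exact e ▸ le_sup_left
    · exact (le_sSup (show B ∈ mems V q T 1 \ {A} from ⟨hB, e⟩)).trans le_sup_right
  · exact h.mem_le_roots hB.1

theorem cj_line_of_mem {A : Subgroup H} (hA : A ∈ mems V q T 1) {s : H}
    (hs : s ∈ sSup (line V q T 1 A)) : ∀ X ∈ line V q T 1 A, cj s X ∈ line V q T 1 A := by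
  let K : Subgroup H :=
    { carrier := {z | (∀ X ∈ line V q T 1 A, cj z X ∈ line V q T 1 A) ∧
        ∀ X ∈ line V q T 1 A, cj z⁻¹ X ∈ line V q T 1 A}
      one_mem' := ⟨fun X hX => by rwa [cj_one], fun X hX => by rwa [inv_one, cj_one]⟩
      mul_mem' := fun {a b} ha hb => ⟨fun X hX => by rw [cj_mul]; exact ha.1 _ (hb.1 X hX),
        fun X hX => by rw [mul_inv_rev, cj_mul]; exact hb.2 _ (ha.2 X hX)⟩
      inv_mem' := fun {a} ha => ⟨ha.2, by rw [inv_inv]; exact ha.1⟩ }
  have hle : sSup (line V q T 1 A) ≤ K := sSup_le fun Y hY y hy =>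
    ⟨fun X hX => h.line_conj hA hY hX hy, fun X hX => h.line_conj hA hY hX (Y.inv_mem hy)⟩
  exact (hle hs).1

/-- A subgroup of a pencil containing a member fixes it or is everything. -/
theorem line_dichotomy {A K : Subgroup H} (hA : A ∈ mems V q T 1)
    (hK : K ≤ sSup (line V q T 1 A)) (hAK : A ≤ K) :
    (∀ k ∈ K, cj k A = A) ∨ K = sSup (line V q T 1 A) := by
  refine or_iff_not_imp_left.2 fun hne => le_antisymm hK ?_
  simp only [not_forall] at hne
  obtain ⟨k, hk, hkA⟩ := hne
  rw [h.sSup_line hA (h.self_mem_line hA) (h.cj_line_of_mem hA (hK hk) A (h.self_mem_line hA))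
    (Ne.symm hkA)]
  refine sup_le hAK fun x hx => ?_
  have := mul_mem (mul_mem hk (hAK (mem_cj.1 hx))) (inv_mem hk)
  simpa [mul_assoc] using this

theorem eq_one_of_stab_pow {A : Subgroup H} (hA : A ∈ mems V q T 1) {X Y : Subgroup H}
    (hX : X ∈ line V q T 1 A) (hY : Y ∈ line V q T 1 A) (hne : X ≠ Y) :
    ∀ (k : ℕ) {d : H}, d ∈ sSup (line V q T 1 A) → d ^ p ^ k = 1 → cj d X = X → cj d Y = Y →
      d = 1 := by
  obtain ⟨F, _, _, ρ, ψ, -, hc⟩ := h.exists_coord hA
  intro k
  induction k with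
  | zero => intro d _ hd _ _; simpa using hd
  | succ k ih =>
    intro d hd hdp hdX hdY
    have hpow : ∀ (Z : Subgroup H), cj d Z = Z → ∀ i : ℕ, cj (d ^ i) Z = Z := by
      intro Z hZ i
      induction i with
      | zero => rw [pow_zero, cj_one]
      | succ i ihi => rw [pow_succ, cj_mul, hZ, ihi]
    have h1 : d ^ p = 1 := ih (pow_mem hd p) (by rw [← pow_mul, ← pow_succ', hdp]) (hpow X hdX p)
      (hpow Y hdY p)
    exact h.eq_one_of_stab hA hc hX hY hne hd h1 hdX hdY

/-- A member is a Sylow subgroup of its pencil. -/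
theorem mem_of_pgroup {A R : Subgroup H} (hA : A ∈ mems V q T 1) (hR : IsPGroup p ↥R) (hAR : A ≤ R)
    {s : H} (hs : s ∈ sSup (line V q T 1 A)) (hsR : s ∈ R) : s ∈ A := by
  have hAs := h.cj_line_of_mem hA hs A (h.self_mem_line hA)
  have hsA : cj s A = A := by
    by_contra hne
    refine h.not_com_line hA hAs (h.self_mem_line hA) hne ?_
    refine Mem.com_of_isPGroup h.pm.faith h.no_over hR hAs.1 hA.1 (fun x hx => ?_) hAR
    have := mul_mem (mul_mem hsR (hAR (mem_cj.1 hx))) (inv_mem hsR)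
    simpa [mul_assoc] using this
  obtain ⟨Y, hY, hne⟩ := h.exists_other hA
  obtain ⟨a, ha, haY, haA⟩ := h.exists_adjust hA (h.cj_line_of_mem hA hs) hsA hY hne
  obtain ⟨k, hk⟩ := hR ⟨_, mul_mem (inv_mem (hAR ha)) hsR⟩
  have := h.eq_one_of_stab_pow hA (h.self_mem_line hA) hY hne k
    (mul_mem (inv_mem (le_sSup (s := line V q T 1 A) (h.self_mem_line hA) ha)) hs)
    (by simpa using congrArg Subtype.val hk) haA haY
  rwa [← inv_mul_eq_one.1 this]

/-- The common fixed space of the members and a second point of a pencil span the module. -/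
theorem exists_sub_mem_point {A Y : Subgroup H} (hA : A ∈ mems V q T 1) (hY : Y ∈ line V q T 1 A)
    (hne : A ≠ Y) (v : V) : ∃ u ∈ (fix (roots V q T) : AddSubgroup V),
      v - u ∈ (fix Y : AddSubgroup V) := by
  obtain ⟨c, hc, c', hc', rfl⟩ := AddSubgroup.mem_sup.1
    ((h.sup_line hA (h.self_mem_line hA) hY hne).ge (AddSubgroup.mem_top v))
  obtain ⟨a, ha, ha1⟩ := hA.1.exists_ne_one
  obtain ⟨F, _, _, ρ, ψ, -, hco⟩ := h.exists_coord hA
  obtain ⟨w, hw⟩ := h.exists_eq_sub hA hco (h.self_mem_line hA) ha ha1 hc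
  refine ⟨a • w - w, h.sub_mem_fix_roots hA ha w, ?_⟩
  rw [show c + c' - (a • w - w) = (c - (a • w - w)) + c' by abel]
  exact add_mem (fun y hy => hw y (le_sSup (s := line V q T 1 A) hY hy)) hc'

end Conf

end Cfsg.Agent.FFPM
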