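import Cfsg.Agent.Lib.Thompson.FFSL2.System

/-!
Quadratic offenders in a faithful module without over-offenders: two members of least order in a
common `p`-subgroup commute.
-/

set_option autoImplicit false
set_option linter.unusedSectionVars false

namespace Cfsg.Agent.FFPM

open FFSL2

variable {H : Type*} [Group H] [Finite H] {V : Type*} [AddCommGroup V] [Finite V]
  [DistribMulAction H V]

/-- The elements moving every vector only inside `U` and fixing `U` pointwise. -/
def disp (U : AddSubgroup V) : Subgroup H where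
  carrier := {z | (∀ v : V, z • v - v ∈ U) ∧ ∀ u ∈ U, z • u = u}
  one_mem' := ⟨fun v => by rw [one_smul, sub_self]; exact zero_mem _, fun u _ => one_smul H u⟩
  mul_mem' := fun {a b} ha hb => ⟨fun v => by
      have := add_mem (ha.1 (b • v)) (hb.1 v)
      rwa [sub_add_sub_cancel, ← mul_smul] at this,
    fun u hu => by rw [mul_smul, hb.2 u hu, ha.2 u hu]⟩
  inv_mem' := fun {a} ha => ⟨fun v => by
      have := neg_mem (ha.1 (a⁻¹ • v))
      rwa [smul_inv_smul, neg_sub] at this,
    fun u hu => by rw [inv_smul_eq_iff, ha.2 u hu]⟩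

theorem mem_disp {U : AddSubgroup V} {z : H} :
    z ∈ (disp U : Subgroup H) ↔ (∀ v : V, z • v - v ∈ U) ∧ ∀ u ∈ U, z • u = u := Iff.rfl

/-- Quadratic action. -/
def Quad (V : Type*) [AddCommGroup V] [DistribMulAction H V] (X : Subgroup H) : Prop :=
  ∀ x ∈ X, ∀ v : V, x • v - v ∈ (fix X : AddSubgroup V)

/-- `|X| |C_V(X)|`. -/
noncomputable def mu (V : Type*) [AddCommGroup V] [DistribMulAction H V] (X : Subgroup H) : ℕ :=
  Nat.card ↥X * Nat.card ↥(fix X : AddSubgroup V)

/-- `X` moves `Y`'s commutators trivially. -/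
def Orth (V : Type*) [AddCommGroup V] [DistribMulAction H V] (X Y : Subgroup H) : Prop :=
  ∀ x ∈ X, ∀ v : V, x • v - v ∈ (fix Y : AddSubgroup V)

/-- Elementwise commuting subgroups. -/
def Com (X Y : Subgroup H) : Prop := ∀ x ∈ X, ∀ y ∈ Y, x * y = y * x

theorem Com.symm {X Y : Subgroup H} (h : Com X Y) : Com Y X := fun y hy x hx => (h x hx y hy).symm

theorem Com.sup_left {X Y Z : Subgroup H} (h1 : Com X Z) (h2 : Com Y Z) : Com (X ⊔ Y) Z := by
  intro w hw z hz
  have hle : X ⊔ Y ≤ Subgroup.centralizer {z} := sup_le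
    (fun x hx => Subgroup.mem_centralizer_singleton_iff.2 (h1 x hx z hz))
    (fun y hy => Subgroup.mem_centralizer_singleton_iff.2 (h2 y hy z hz))
  exact Subgroup.mem_centralizer_singleton_iff.1 (hle hw)

theorem Com.mono {X Y X' Y' : Subgroup H} (h : Com X Y) (hX : X' ≤ X) (hY : Y' ≤ Y) : Com X' Y' :=
  fun x hx y hy => h x (hX hx) y (hY hy)

theorem com_cj {g : H} {X Y : Subgroup H} (h : Com X Y) : Com (cj g X) (cj g Y) := by
  intro x hx y hy
  have := congrArg (fun z => g * z * g⁻¹) (h _ (mem_cj.1 hx) _ (mem_cj.1 hy))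
  simpa [mul_assoc] using this

theorem le_cj_iff {g : H} {X Y : Subgroup H} : cj g X ≤ Y ↔ X ≤ cj g⁻¹ Y := by
  constructor
  · intro h x hx
    rw [mem_cj, inv_inv]
    exact h (mem_cj.2 (by simpa [mul_assoc] using hx))
  · intro h x hx
    have := mem_cj.1 (h (mem_cj.1 hx))
    simpa [mul_assoc] using this

theorem cj_inv_cancel (g : H) (X : Subgroup H) : cj g⁻¹ (cj g X) = X := by
  rw [← cj_mul, inv_mul_cancel, cj_one]

theorem cj_cancel_inv (g : H) (X : Subgroup H) : cj g (cj g⁻¹ X) = X := by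
  rw [← cj_mul, mul_inv_cancel, cj_one]

theorem cj_injective (g : H) : Function.Injective (cj g) := fun X Y e => by
  rw [← cj_inv_cancel g X, e, cj_inv_cancel]

theorem fix_sup (X Y : Subgroup H) : (fix (X ⊔ Y) : AddSubgroup V) = fix X ⊓ fix Y := by
  refine le_antisymm
    (le_inf (fun v hv a ha => hv a ((le_sup_left : X ≤ _) ha))
      (fun v hv a ha => hv a ((le_sup_right : Y ≤ _) ha))) fun v hv z hz => ?_
  have h : X ⊔ Y ≤ MulAction.stabilizer H v :=
    sup_le (fun a ha => hv.1 a ha) fun a ha => hv.2 a ha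
  exact h hz

theorem card_fix_cj (g : H) (X : Subgroup H) :
    Nat.card ↥(fix (cj g X) : AddSubgroup V) = Nat.card ↥(fix X : AddSubgroup V) :=
  (Nat.card_congr
    { toFun := fun v => ⟨g • (v : V), mem_fix_cj.2 (by rw [inv_smul_smul]; exact v.2)⟩
      invFun := fun w => ⟨g⁻¹ • (w : V), mem_fix_cj.1 w.2⟩
      left_inv := fun v => Subtype.ext (inv_smul_smul g (v : V))
      right_inv := fun w => Subtype.ext (smul_inv_smul g (w : V)) }).symm

theorem mu_cj (g : H) (X : Subgroup H) : mu V (cj g X) = mu V X := by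
  rw [mu, mu, card_cj, card_fix_cj]

theorem mu_bot : mu V (⊥ : Subgroup H) = Nat.card V := by
  rw [mu, Subgroup.card_bot, one_mul]
  have e : (fix (⊥ : Subgroup H) : AddSubgroup V) = ⊤ :=
    eq_top_iff.2 fun v _ a ha => by rw [Subgroup.mem_bot.1 ha, one_smul]
  rw [e, AddSubgroup.card_top]

theorem quad_cj {X : Subgroup H} (h : Quad V X) (g : H) : Quad V (cj g X) := by
  intro x hx v
  rw [mem_fix_cj]
  have := h _ (mem_cj.1 hx) (g⁻¹ • v)
  rwa [mul_smul, mul_smul, smul_inv_smul, ← smul_sub] at this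

theorem quad_mono {X Y : Subgroup H} (h : Quad V X) (hle : Y ≤ X) : Quad V Y :=
  fun y hy v a ha => h y (hle hy) v a (hle ha)

theorem quad_iff {X : Subgroup H} : Quad V X ↔ X ≤ disp (fix X : AddSubgroup V) :=
  ⟨fun h x hx => ⟨h x hx, fun _ hu => hu x hx⟩, fun h x hx => (h hx).1⟩

theorem quad_sup {X Y : Subgroup H} (hX : Quad V X) (hY : Quad V Y) (h1 : Orth V X Y)
    (h2 : Orth V Y X) : Quad V (X ⊔ Y) := by
  rw [quad_iff, fix_sup]
  exact sup_le
    (fun x hx => ⟨fun v => ⟨hX x hx v, h1 x hx v⟩, fun _ hu => hu.1 x hx⟩)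
    (fun y hy => ⟨fun v => ⟨h2 y hy v, hY y hy v⟩, fun _ hu => hu.2 y hy⟩)

section Faith

variable (hfaith : ∀ z : H, (∀ v : V, z • v = v) → z = 1)
include hfaith

theorem comm_of_zero {a b : H} (h1 : ∀ v : V, a • (b • v - v) = b • v - v)
    (h2 : ∀ v : V, b • (a • v - v) = a • v - v) : a * b = b * a := by
  have key : ∀ v : V, (a * b) • v = (b * a) • v := by
    intro v
    have e1 := h1 v
    have e2 := h2 v
    rw [smul_sub, sub_eq_iff_eq_add] at e1 e2
    rw [mul_smul, mul_smul, e1, e2]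
    abel
  have h := hfaith ((b * a)⁻¹ * (a * b)) fun v => by rw [mul_smul, key, inv_smul_smul]
  exact (inv_mul_eq_one.1 h).symm

theorem com_of_orth {X Y : Subgroup H} (h1 : Orth V X Y) (h2 : Orth V Y X) : Com X Y :=
  fun x hx y hy => comm_of_zero hfaith (fun v => h2 y hy v x hx) fun v => h1 x hx v y hy

theorem com_self {X : Subgroup H} (h : Quad V X) : Com X X :=
  com_of_orth hfaith (X := X) (Y := X) h h

theorem pow_p {p : ℕ} (hp : ∀ v : V, p • v = 0) {X : Subgroup H} (h : Quad V X) {x : H}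
    (hx : x ∈ X) : x ^ p = 1 := by
  refine hfaith _ fun v => ?_
  have key : ∀ k : ℕ, x ^ k • v = v + k • (x • v - v) := by
    intro k
    induction k with
    | zero => simp
    | succ k ih =>
      have e : x • (k • (x • v - v)) = k • (x • v - v) := AddSubgroup.nsmul_mem _ (h x hx v) k x hx
      rw [pow_succ', mul_smul, ih, smul_add, e, succ_nsmul]
      abel
  rw [key, hp, add_zero]

theorem isPGroup_of_quad {p : ℕ} (hp : ∀ v : V, p • v = 0) {X : Subgroup H} (h : Quad V X) :
    IsPGroup p ↥X := fun x => ⟨1, Subtype.ext (by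
  rw [pow_one, SubmonoidClass.coe_pow]
  exact pow_p hfaith hp h x.2)⟩

end Faith

/-- Timmesfeld's replacement. -/
theorem exists_smaller {X : Subgroup H} (hX : Com X X) (hq : ¬ Quad V X) :
    ∃ K, K < X ∧ mu V X ≤ mu V K := by
  classical
  simp only [Quad, not_forall] at hq
  obtain ⟨x₀, hx₀, v, hv⟩ := hq
  let K : Subgroup H :=
    { carrier := {d | d ∈ X ∧ d • v - v ∈ (fix X : AddSubgroup V)}
      one_mem' := ⟨X.one_mem, by rw [one_smul, sub_self]; exact zero_mem _⟩
      mul_mem' := fun {d e} hd he => ⟨X.mul_mem hd.1 he.1, by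
        have h1 : (d * e) • v - v = (e • v - v) + (d • v - v) := by
          have h2 : d • (e • v - v) = e • v - v := he.2 d hd.1
          rw [smul_sub, sub_eq_iff_eq_add] at h2
          rw [mul_smul, h2]
          abel
        rw [h1]
        exact add_mem he.2 hd.2⟩
      inv_mem' := fun {d} hd => ⟨X.inv_mem hd.1, by
        have h2 : d⁻¹ • (d • v - v) = d • v - v := hd.2 _ (X.inv_mem hd.1)
        rw [smul_sub, inv_smul_smul] at h2
        have h3 : d⁻¹ • v - v = -(d • v - v) := by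
          rw [← h2]
          abel
        rw [h3]
        exact neg_mem hd.2⟩ }
  have hKX : K ≤ X := fun d hd => hd.1
  refine ⟨K, lt_of_le_of_ne hKX fun e => hv ((e ▸ hx₀ : x₀ ∈ K).2), ?_⟩
  let Φ : ↥X × ↥(fix X : AddSubgroup V) → ↥(fix K : AddSubgroup V) := fun q =>
    ⟨(q.1 : H) • v - v + (q.2 : V), by
      refine add_mem (fun k hk => ?_) (fun k hk => q.2.2 k (hKX hk))
      have h1 : k • ((q.1 : H) • v) = (q.1 : H) • (k • v) := by
        rw [← mul_smul, ← mul_smul, hX k (hKX hk) _ q.1.2]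
      have h2 : (q.1 : H) • (k • v - v) = k • v - v := hk.2 _ q.1.2
      rw [smul_sub, sub_eq_iff_eq_add] at h2
      rw [smul_sub, h1, h2]
      abel⟩
  have hfib : ∀ q q', Φ q = Φ q' → (q'.1 : H)⁻¹ * (q.1 : H) ∈ K := by
    intro q q' e
    refine ⟨X.mul_mem (X.inv_mem q'.1.2) q.1.2, ?_⟩
    have e' : (q.1 : H) • v - v + (q.2 : V) = (q'.1 : H) • v - v + (q'.2 : V) :=
      congrArg Subtype.val e
    have hd : (q'.2 : V) - q.2 ∈ (fix X : AddSubgroup V) := sub_mem q'.2.2 q.2.2
    have e1 : (q.1 : H) • v = (q'.1 : H) • v + ((q'.2 : V) - q.2) := by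
      linear_combination (norm := abel) e'
    rw [mul_smul, e1, smul_add, inv_smul_smul, hd _ (X.inv_mem q'.1.2), add_sub_cancel_left]
    exact hd
  rw [mu, mu, ← Nat.card_prod, ← Nat.card_prod]
  let g : ↥X × ↥(fix X : AddSubgroup V) → ↥K × ↥(fix K : AddSubgroup V) := fun q =>
    haveI : Nonempty (↥X × ↥(fix X : AddSubgroup V)) := ⟨q⟩
    (⟨((Function.invFun Φ (Φ q)).1 : H)⁻¹ * (q.1 : H),
      hfib q _ (Function.invFun_eq ⟨q, rfl⟩).symm⟩, Φ q)
  refine Nat.card_le_card_of_injective g ?_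
  intro q q' e
  have e1 : Φ q = Φ q' := congrArg Prod.snd e
  have e2 := congrArg (fun r : ↥K × ↥(fix K : AddSubgroup V) => (r.1 : H)) e
  simp only [g, e1, mul_right_inj] at e2
  have e3 : (q.1 : H) • v - v + (q.2 : V) = (q'.1 : H) • v - v + (q'.2 : V) :=
    congrArg Subtype.val e1
  rw [e2, add_right_inj] at e3
  exact Prod.ext (Subtype.ext e2) (Subtype.ext e3)

theorem exists_quad : ∀ n : ℕ, ∀ X : Subgroup H, Nat.card ↥X ≤ n → Com X X →
    ∃ Y, Y ≤ X ∧ Quad V Y ∧ mu V X ≤ mu V Y := by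
  intro n
  induction n with
  | zero => intro X hX; exact absurd hX (by have : 0 < Nat.card ↥X := Nat.card_pos; omega)
  | succ n ih =>
    intro X hX hc
    by_cases hq : Quad V X
    · exact ⟨X, le_rfl, hq, le_rfl⟩
    obtain ⟨K, hK, hm⟩ := exists_smaller hc hq
    have hlt : Nat.card ↥K < Nat.card ↥X := by
      refine lt_of_le_of_ne (Subgroup.card_le_of_le hK.le) fun e => hK.ne ?_
      exact Subgroup.eq_of_le_of_card_ge hK.le e.ge
    obtain ⟨Y, hY, hYq, hYm⟩ := ih K (by omega) (hc.mono hK.le hK.le)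
    exact ⟨Y, hY.trans hK.le, hYq, hm.trans hYm⟩

/-- No over-offender. -/
def NoOver (H : Type*) [Group H] (V : Type*) [AddCommGroup V] [DistribMulAction H V] : Prop :=
  ∀ X : Subgroup H, Quad V X → mu V X ≤ Nat.card V

theorem NoOver.com_le (hno : NoOver H V) {X : Subgroup H} (hX : Com X X) :
    mu V X ≤ Nat.card V := by
  obtain ⟨Y, -, hY, hm⟩ := exists_quad (V := V) _ X le_rfl hX
  exact hm.trans (hno Y hY)

/-- An offender of least order: `|V : C_V(A)| = |A| = q`. -/
structure Mem (V : Type*) [AddCommGroup V] [DistribMulAction H V] (q : ℕ) (A : Subgroup H) :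
    Prop where
  two_le : 2 ≤ q
  card : Nat.card ↥A = q
  quad : Quad V A
  eq : q * Nat.card ↥(fix A : AddSubgroup V) = Nat.card V
  elt : ∀ a ∈ A, a ≠ 1 → ∀ v : V, a • v = v → v ∈ (fix A : AddSubgroup V)

namespace Mem

variable {q : ℕ}

theorem conj {A : Subgroup H} (h : Mem V q A) (g : H) : Mem V q (cj g A) where
  two_le := h.two_le
  card := (card_cj g A).trans h.card
  quad := quad_cj h.quad g
  eq := by rw [card_fix_cj]; exact h.eq
  elt := fun a ha ha1 v hv => by
    rw [mem_fix_cj]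
    refine h.elt _ (mem_cj.1 ha) (fun e => ha1 ?_) _ (by rw [mul_smul, mul_smul, smul_inv_smul, hv])
    have := congrArg (fun z => g * z * g⁻¹) e
    simpa [mul_assoc] using this

theorem ne_bot {A : Subgroup H} (h : Mem V q A) : A ≠ ⊥ := by
  intro e
  have h1 := h.card
  rw [e, Subgroup.card_bot] at h1
  have := h.two_le
  omega

theorem exists_ne_one {A : Subgroup H} (h : Mem V q A) : ∃ a ∈ A, a ≠ 1 := by
  by_contra! h1
  exact h.ne_bot ((Subgroup.eq_bot_iff_forall _).2 h1)

theorem fix_ne_top {A : Subgroup H} (h : Mem V q A) : (fix A : AddSubgroup V) ≠ ⊤ := by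
  intro e
  have h1 := h.eq
  rw [e, AddSubgroup.card_top] at h1
  have : 0 < Nat.card V := Nat.card_pos
  have := h.two_le
  nlinarith

variable (hfaith : ∀ z : H, (∀ v : V, z • v = v) → z = 1) (hno : NoOver H V)
include hfaith hno

theorem eq_of_fix_eq {A B : Subgroup H} (hA : Mem V q A) (hB : Mem V q B)
    (h : (fix A : AddSubgroup V) = fix B) : A = B := by
  have hsup : Quad V (A ⊔ B) := quad_sup hA.quad hB.quad
    (fun x hx v => h ▸ hA.quad x hx v) (fun y hy v => h.symm ▸ hB.quad y hy v)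
  have h1 := hno _ hsup
  rw [mu, fix_sup, ← h, inf_idem, ← hA.eq] at h1
  have h2 := Nat.le_of_mul_le_mul_right h1 Nat.card_pos
  rw [← hA.card] at h2
  have eA : A = A ⊔ B := Subgroup.eq_of_le_of_card_ge le_sup_left h2
  exact (Subgroup.eq_of_le_of_card_ge (eA ▸ le_sup_right) (by rw [hA.card, hB.card])).symm

/-- A group element stabilising `C_V(B)` normalises `B`. -/
theorem cj_eq {B : Subgroup H} (hB : Mem V q B) {g : H}
    (h : ∀ v ∈ (fix B : AddSubgroup V), g • v ∈ (fix B : AddSubgroup V)) : cj g B = B := by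
  refine eq_of_fix_eq hfaith hno (hB.conj g) hB ?_
  refine (AddSubgroup.eq_of_le_of_card_ge (fun v hv => ?_) (card_fix_cj g B).le).symm
  let f : ↥(fix B : AddSubgroup V) → ↥(fix B : AddSubgroup V) := fun w => ⟨g • (w : V), h _ w.2⟩
  have hf : Function.Injective f := fun w w' e =>
    Subtype.ext (MulAction.injective g (congrArg Subtype.val e))
  obtain ⟨w, hw⟩ := (Finite.surjective_of_injective hf) ⟨v, hv⟩
  rw [mem_fix_cj]
  have e : g • (w : V) = v := congrArg Subtype.val hw
  rw [← e, inv_smul_smul]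
  exact w.2

theorem cj_eq_of_orth {A B : Subgroup H} (hB : Mem V q B) (h : Orth V A B) {a : H} (ha : a ∈ A) :
    cj a B = B := by
  refine cj_eq hfaith hno hB fun v hv => ?_
  have := add_mem (h a ha v) hv
  rwa [sub_add_cancel] at this

theorem inf_eq_bot {A B : Subgroup H} (hA : Mem V q A) (hB : Mem V q B) (hne : A ≠ B) :
    A ⊓ B = ⊥ := by
  by_contra h
  obtain ⟨x, hx, hx1⟩ : ∃ x ∈ A ⊓ B, x ≠ 1 := by
    by_contra! h1
    exact h ((Subgroup.eq_bot_iff_forall _).2 h1)
  refine hne (eq_of_fix_eq hfaith hno hA hB (le_antisymm ?_ ?_))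
  · exact fun v hv => hB.elt x hx.2 hx1 v (hv x hx.1)
  · exact fun v hv => hA.elt x hx.1 hx1 v (hv x hx.2)

/-- A one-sided orthogonality makes two members commute. -/
theorem com_of_orth_left {A B : Subgroup H} (hA : Mem V q A) (hB : Mem V q B) (h : Orth V A B) :
    Com A B := by
  intro a₀ ha₀ y hy
  by_contra hne
  -- the commutator of two elements
  have hd : ∀ a ∈ A, a * y * a⁻¹ * y⁻¹ ∈ B := by
    intro a ha
    refine B.mul_mem ?_ (B.inv_mem hy)
    rw [← cj_eq_of_orth hfaith hno hB h ha, mem_cj]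
    simpa [mul_assoc] using hy
  have hdis : ∀ a ∈ A, ∀ v : V,
      (a * y * a⁻¹ * y⁻¹) • (y • a • v) - y • a • v = a • (y • v - v) - (y • v - v) := by
    intro a ha v
    have e : (a * y * a⁻¹ * y⁻¹) • (y • a • v) = a • y • v := by
      simp only [mul_smul, inv_smul_smul]
    have h1 : y • (a • v - v) = a • v - v := h a ha v y hy
    rw [smul_sub, sub_eq_iff_eq_add] at h1
    rw [e, h1, smul_sub]
    abel
  set d₀ := a₀ * y * a₀⁻¹ * y⁻¹ with hd₀
  have hd₀1 : d₀ ≠ 1 := fun e => hne (by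
    rw [hd₀, mul_inv_eq_one, mul_inv_eq_iff_eq_mul] at e
    exact e)
  have hq : 0 < q := by have := hA.two_le; omega
  -- every vector is `y`-moved onto it modulo `C_V(A)`
  set U : AddSubgroup V := (DistribSMul.toAddMonoidHom V y - AddMonoidHom.id V).range ⊔ fix A with hU
  have hUmem : ∀ v, y • v - v ∈ U := fun v => (le_sup_left : _ ≤ U) ⟨v, rfl⟩
  have htop : U = ⊤ := by
    let f : V →+ V := DistribSMul.toAddMonoidHom V d₀ - AddMonoidHom.id V
    let g : V →+ V := DistribSMul.toAddMonoidHom V a₀ - AddMonoidHom.id V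
    have hker : ∀ (x : H) (X : Subgroup H), Mem V q X → x ∈ X → x ≠ 1 →
        Nat.card ↥(DistribSMul.toAddMonoidHom V x - AddMonoidHom.id V).range = q := by
      intro x X hX hx hx1
      have e : (DistribSMul.toAddMonoidHom V x - AddMonoidHom.id V).ker = (fix X : AddSubgroup V) :=
        le_antisymm (fun v hv => hX.elt x hx hx1 v (sub_eq_zero.1 hv))
          fun v hv => sub_eq_zero.2 (hv x hx)
      have h1 := AddSubgroup.card_eq_card_quotient_mul_card_addSubgroup
        (DistribSMul.toAddMonoidHom V x - AddMonoidHom.id V).ker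
      rw [Nat.card_congr (QuotientAddGroup.quotientKerEquivRange _).toEquiv, e, ← hX.eq] at h1
      exact (Nat.eq_of_mul_eq_mul_right Nat.card_pos h1).symm
    have ha₀1 : a₀ ≠ 1 := fun e => hne (by rw [e, one_mul, mul_one])
    have hsub : f.range ≤ U.map g := by
      rintro _ ⟨w, rfl⟩
      refine ⟨y • (a₀⁻¹ • y⁻¹ • w) - a₀⁻¹ • y⁻¹ • w, hUmem _, ?_⟩
      show a₀ • (y • a₀⁻¹ • y⁻¹ • w - a₀⁻¹ • y⁻¹ • w) -
        (y • a₀⁻¹ • y⁻¹ • w - a₀⁻¹ • y⁻¹ • w) = d₀ • w - w
      rw [← hdis a₀ ha₀ (a₀⁻¹ • y⁻¹ • w)]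
      simp only [smul_inv_smul, hd₀]
    have hmap : U.map g = g.range := by
      refine AddSubgroup.eq_of_le_of_card_ge (fun x hx => ?_) ?_
      · obtain ⟨u, -, rfl⟩ := hx
        exact ⟨u, rfl⟩
      · calc Nat.card ↥g.range = q := hker a₀ A hA ha₀ ha₀1
          _ = Nat.card ↥f.range := (hker d₀ B hB (hd a₀ ha₀) hd₀1).symm
          _ ≤ _ := AddSubgroup.card_le_of_le hsub
    rw [eq_top_iff]
    intro v _
    obtain ⟨u, hu, e⟩ : g v ∈ U.map g := hmap.symm ▸ ⟨v, rfl⟩
    have hvu : v - u ∈ (fix A : AddSubgroup V) := by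
      refine hA.elt a₀ ha₀ ha₀1 _ ?_
      rw [← sub_eq_zero]
      show g (v - u) = 0
      rw [map_sub, e, sub_self]
    have := add_mem hu ((le_sup_right : fix A ≤ U) hvu)
    rwa [add_sub_cancel] at this
  -- no element of `A` commutes with `y`
  have hnc : ∀ a ∈ A, a * y = y * a → a = 1 := by
    intro a ha hay
    by_contra ha1
    obtain ⟨v, -, hv⟩ := SetLike.exists_of_lt (lt_top_iff_ne_top.2 hA.fix_ne_top)
    refine hv (hA.elt a ha ha1 v ?_)
    obtain ⟨_, ⟨w, rfl⟩, c, hc, rfl⟩ := AddSubgroup.mem_sup.1 (htop ▸ AddSubgroup.mem_top v : v ∈ U)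
    have h2 := hdis a ha w
    rw [show a * y * a⁻¹ * y⁻¹ = 1 by rw [hay]; group, one_smul, sub_self] at h2
    rw [smul_add, hc a ha, add_left_inj]
    exact sub_eq_zero.1 h2.symm
  -- the commutators lie in the centraliser of `A`
  let Y₀ : Subgroup H := B ⊓ Subgroup.centralizer (A : Set H)
  have hY₀ : ∀ a ∈ A, a * y * a⁻¹ * y⁻¹ ∈ Y₀ := by
    intro a ha
    refine ⟨hd a ha, Subgroup.mem_centralizer_iff.2 fun a' ha' => ?_⟩
    refine comm_of_zero hfaith (fun v => ?_) (fun v => h a' ha' v _ (hd a ha))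
    have h1 := hdis a ha (a⁻¹ • y⁻¹ • v)
    simp only [smul_inv_smul] at h1
    rw [h1]
    exact hA.quad a ha _ a' ha'
  have hlt : Nat.card ↥Y₀ < q := by
    rw [← hB.card]
    refine lt_of_le_of_ne (Subgroup.card_le_of_le inf_le_left) fun e => ?_
    have e1 : Y₀ = B := Subgroup.eq_of_le_of_card_ge inf_le_left e.ge
    exact hne (Subgroup.mem_centralizer_iff.1 (e1.ge hy).2 a₀ ha₀)
  let f : ↥A → ↥Y₀ := fun a => ⟨_, hY₀ a a.2⟩
  have hf : Function.Injective f := by
    intro a a' e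
    have e' : (a : H) * y * (a : H)⁻¹ * y⁻¹ = (a' : H) * y * (a' : H)⁻¹ * y⁻¹ :=
      congrArg Subtype.val e
    rw [mul_left_inj] at e'
    have h1 := hnc _ (A.mul_mem (A.inv_mem a'.2) a.2) (by
      calc (a' : H)⁻¹ * a * y = (a' : H)⁻¹ * ((a : H) * y * (a : H)⁻¹) * a := by group
        _ = (a' : H)⁻¹ * ((a' : H) * y * (a' : H)⁻¹) * a := by rw [e']
        _ = _ := by group)
    exact Subtype.ext (inv_mul_eq_one.1 h1).symm
  have := Nat.card_le_card_of_injective f hf
  rw [hA.card] at this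
  omega

/-- Commuting members have complementary fixed spaces. -/
theorem sup_of_com {A B : Subgroup H} (hA : Mem V q A) (hB : Mem V q B) (hne : A ≠ B)
    (h : Com A B) : (fix A : AddSubgroup V) ⊔ fix B = ⊤ := by
  have hAA := com_self hfaith hA.quad
  have hBB := com_self hfaith hB.quad
  have hX : Com (A ⊔ B) (A ⊔ B) :=
    Com.sup_left (Com.sup_left hAA h.symm).symm (Com.sup_left h hBB).symm
  have hcard : q * q ≤ Nat.card ↥(A ⊔ B) := by
    let f : ↥A × ↥B → ↥(A ⊔ B) := fun x =>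
      ⟨(x.1 : H) * x.2, Subgroup.mul_mem _ (Subgroup.mem_sup_left x.1.2)
        (Subgroup.mem_sup_right x.2.2)⟩
    have := Nat.card_le_card_of_injective f (fun x x' e => by
      have e' : (x.1 : H) * x.2 = (x'.1 : H) * x'.2 := congrArg Subtype.val e
      have h1 : (x'.1 : H)⁻¹ * x.1 = (x'.2 : H) * (x.2 : H)⁻¹ := by
        rw [inv_mul_eq_iff_eq_mul, ← mul_assoc, ← e', mul_inv_cancel_right]
      have h2 : (x'.1 : H)⁻¹ * x.1 ∈ A ⊓ B :=
        ⟨A.mul_mem (A.inv_mem x'.1.2) x.1.2, h1 ▸ B.mul_mem x'.2.2 (B.inv_mem x.2.2)⟩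
      rw [inf_eq_bot hfaith hno hA hB hne, Subgroup.mem_bot] at h2
      rw [h2, eq_comm, mul_inv_eq_one] at h1
      exact Prod.ext (Subtype.ext (inv_mul_eq_one.1 h2).symm) (Subtype.ext h1.symm))
    rwa [Nat.card_prod, hA.card, hB.card] at this
  have h1 := hno.com_le hX
  rw [mu, fix_sup] at h1
  have h2 := card_sup_mul_card_inf (fix A : AddSubgroup V) (fix B)
  refine AddSubgroup.eq_top_of_le_card _ ?_
  refine Nat.le_of_mul_le_mul_right ?_
    (show 0 < Nat.card ↥((fix A : AddSubgroup V) ⊓ fix B) from Nat.card_pos)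
  have hq : 0 < q * q := by have := hA.two_le; positivity
  refine Nat.le_of_mul_le_mul_left ?_ hq
  calc q * q * (Nat.card V * Nat.card ↥((fix A : AddSubgroup V) ⊓ fix B))
      = Nat.card V * (q * q * Nat.card ↥((fix A : AddSubgroup V) ⊓ fix B)) := by ring
    _ ≤ Nat.card V * (Nat.card ↥(A ⊔ B) * Nat.card ↥((fix A : AddSubgroup V) ⊓ fix B)) := by gcongr
    _ ≤ Nat.card V * Nat.card V := by gcongr
    _ = (q * Nat.card ↥(fix A : AddSubgroup V)) * (q * Nat.card ↥(fix B : AddSubgroup V)) := by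
        rw [hA.eq, hB.eq]
    _ = _ := by rw [h2]; ring

theorem orth_of_com {A B : Subgroup H} (hA : Mem V q A) (hB : Mem V q B) (h : Com A B) :
    Orth V A B := by
  by_cases hne : A = B
  · subst hne; exact hA.quad
  intro a ha v b hb
  obtain ⟨c, hc, c', hc', rfl⟩ := AddSubgroup.mem_sup.1
    ((sup_of_com hfaith hno hA hB hne h).symm ▸ AddSubgroup.mem_top v :
      v ∈ (fix A : AddSubgroup V) ⊔ fix B)
  rw [smul_add, hc a ha, add_sub_add_left_eq_sub, smul_sub, hc' b hb, ← mul_smul,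
    (h a ha b hb).symm, mul_smul, hc' b hb]

theorem orth_symm {A B : Subgroup H} (hA : Mem V q A) (hB : Mem V q B) (h : Orth V A B) :
    Orth V B A :=
  orth_of_com hfaith hno hB hA (com_of_orth_left hfaith hno hA hB h).symm

theorem com_iff_orth {A B : Subgroup H} (hA : Mem V q A) (hB : Mem V q B) :
    Com A B ↔ Orth V A B :=
  ⟨orth_of_com hfaith hno hA hB, com_of_orth_left hfaith hno hA hB⟩

/-- If `B` commutes with an `A`-conjugate of itself, it is that conjugate. -/
theorem cj_eq_of_com {A B : Subgroup H} (hA : Mem V q A) (hB : Mem V q B) {a : H} (ha : a ∈ A)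
    (h : Com (cj a B) B) : cj a B = B := by
  by_contra hne
  have hB' := hB.conj a
  have hs := sup_of_com hfaith hno hB' hB hne h
  have h1 := card_sup_mul_card_inf (fix (cj a B) : AddSubgroup V) (fix B)
  have h2 := card_sup_mul_card_inf (fix A : AddSubgroup V) (fix B)
  rw [hs, AddSubgroup.card_top, card_fix_cj] at h1
  have h3 : Nat.card ↥((fix A : AddSubgroup V) ⊔ fix B) ≤ Nat.card V :=
    Nat.card_le_card_of_injective Subtype.val Subtype.val_injective
  have hAB : Nat.card ↥(fix A : AddSubgroup V) = Nat.card ↥(fix B : AddSubgroup V) :=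
    Nat.eq_of_mul_eq_mul_left (by have := hA.two_le; omega) (hA.eq.trans hB.eq.symm)
  rw [hAB, ← h1] at h2
  have hle : (fix A : AddSubgroup V) ⊓ fix B ≤ fix (cj a B) ⊓ fix B := le_inf (fun v hv => by
    rw [mem_fix_cj, hv.1 _ (A.inv_mem ha)]
    exact hv.2) inf_le_right
  have heq := AddSubgroup.eq_of_le_of_card_ge hle (by
    refine Nat.le_of_mul_le_mul_left ?_ (Nat.card_pos (α := V))
    rw [← h2]
    exact Nat.mul_le_mul_right _ h3)
  have hBA : Orth V B A := fun b hb v => by
    have h4 : b • v - v ∈ (fix (cj a B) : AddSubgroup V) ⊓ fix B :=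
      ⟨orth_of_com hfaith hno hB hB' h.symm b hb v, hB.quad b hb v⟩
    rw [← heq] at h4
    exact h4.1
  exact hne (cj_eq_of_orth hfaith hno hB (orth_symm hfaith hno hB hA hBA) ha)

variable {p : ℕ} [hpp : Fact p.Prime]

/-- Members in a common `p`-subgroup commute. -/
theorem com_of_isPGroup {R : Subgroup H} (hR : IsPGroup p ↥R) :
    ∀ {A B : Subgroup H}, Mem V q A → Mem V q B → A ≤ R → B ≤ R → Com A B := by
  suffices h : ∀ n, ∀ R : Subgroup H, Nat.card ↥R ≤ n → IsPGroup p ↥R → ∀ {A B : Subgroup H},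
      Mem V q A → Mem V q B → A ≤ R → B ≤ R → Com A B from fun {A B} => h _ R le_rfl hR
  intro n
  induction n with
  | zero => intro R hR; exact absurd hR (by have : 0 < Nat.card ↥R := Nat.card_pos; omega)
  | succ n ih =>
    intro R hRn hR A B hA hB hAR hBR
    -- it suffices that each member normalises the other
    have key : ∀ {A B : Subgroup H}, Mem V q A → Mem V q B → A ≤ R → B ≤ R → ∀ a ∈ A,
        cj a B = B := by
      intro A B hA hB hAR hBR a ha
      by_cases hBeq : B = R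
      · have e : A = B := Subgroup.eq_of_le_of_card_ge (hAR.trans_eq hBeq.symm)
          (by rw [hA.card, hB.card])
        exact cj_self (e ▸ ha)
      have hlt : B.subgroupOf R ≠ ⊤ := fun e =>
        hBeq (le_antisymm hBR (Subgroup.subgroupOf_eq_top.1 e))
      obtain ⟨K, hK, hBK⟩ := (eq_top_or_exists_le_coatom (B.subgroupOf R)).resolve_left hlt
      have : Group.IsNilpotent ↥R := hR.isNilpotent
      have hKn : K.Normal :=
        Subgroup.NormalizerCondition.normal_of_coatom K Group.normalizerCondition_of_isNilpotent hK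
      set K' := K.map R.subtype with hK'
      have hK'R : K' ≤ R := Subgroup.map_subtype_le K
      have hBK' : B ≤ K' := fun b hb =>
        ⟨⟨b, hBR hb⟩, hBK (Subgroup.mem_subgroupOf.2 hb), rfl⟩
      have hcard : Nat.card ↥K' ≤ n := by
        have h1 : Nat.card ↥K' < Nat.card ↥R := by
          refine lt_of_le_of_ne (Subgroup.card_le_of_le hK'R) fun e => hK.1 ?_
          have := Subgroup.eq_of_le_of_card_ge hK'R e.ge
          apply Subgroup.map_injective R.subtype_injective
          rw [← hK', this, ← MonoidHom.range_eq_map, Subgroup.range_subtype]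
        omega
      have haB : cj a B ≤ K' := fun x hx => by
        obtain ⟨⟨y, hyR⟩, hyK, e⟩ := hBK' (mem_cj.1 hx)
        refine ⟨⟨a, hAR ha⟩ * ⟨y, hyR⟩ * ⟨a, hAR ha⟩⁻¹, hKn.conj_mem _ hyK _, ?_⟩
        have e' : y = a⁻¹ * x * a := e
        simp [e', mul_assoc]
      exact cj_eq_of_com hfaith hno hA hB ha
        (ih K' hcard (hR.to_le hK'R) (hB.conj a) hB haB hBK')
    by_cases hne : A = B
    · subst hne; exact com_self hfaith hA.quad
    intro a ha b hb
    have h1 : a * b * a⁻¹ * b⁻¹ ∈ A ⊓ B := by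
      refine ⟨?_, ?_⟩
      · rw [show a * b * a⁻¹ * b⁻¹ = a * (b * a⁻¹ * b⁻¹) by group]
        refine A.mul_mem ha ?_
        rw [← key hB hA hBR hAR b hb, mem_cj]
        simpa [mul_assoc] using ha
      · refine B.mul_mem ?_ (B.inv_mem hb)
        rw [← key hA hB hAR hBR a ha, mem_cj]
        simpa [mul_assoc] using hb
    rw [inf_eq_bot hfaith hno hA hB hne, Subgroup.mem_bot, mul_inv_eq_one,
      mul_inv_eq_iff_eq_mul] at h1
    exact h1

end Mem

end Cfsg.Agent.FFPM
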