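import Cfsg.Agent.Lib.Thompson.FFPM.Pencil

/-!
For offenders of order at least three the pencils commute.
-/

set_option autoImplicit false
set_option linter.unusedSectionVars false
set_option linter.style.haveILetI false

namespace Cfsg.Agent.FFPM

open FFSL2
open scoped MatrixGroups

variable {H : Type*} [Group H] [Finite H] {V : Type*} [AddCommGroup V] [Finite V]
  [DistribMulAction H V] {p : ℕ} [hpp : Fact p.Prime] {q : ℕ}

theorem card_eq_pow (hfaith : ∀ z : H, (∀ v : V, z • v = v) → z = 1) (hp : ∀ v : V, p • v = 0)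
    {A : Subgroup H} (hA : Mem V q A) : ∃ n, q = p ^ n := by
  obtain ⟨n, hn⟩ := IsPGroup.iff_card.1 (isPGroup_of_quad hfaith hp hA.quad)
  exact ⟨n, hA.card.symm.trans hn⟩

theorem exists_torus_matrix {F : Type*} [Field F] {l : Fˣ} (hl : l ≠ 1) {e : Fin 2 → F}
    (he : e ≠ 0) : ∃ D : SL(2, F),
      (D : Matrix (Fin 2) (Fin 2) F).mulVec e = (l : F) • e ∧
      (∀ v, (D : Matrix (Fin 2) (Fin 2) F).mulVec v = v → v = 0) ∧
      ∀ n : ℕ, l ^ n = 1 → D ^ n = 1 := by
  obtain ⟨G, hG⟩ : ∃ G : SL(2, F), (G : Matrix (Fin 2) (Fin 2) F).mulVec ![1, 0] = e := by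
    by_cases hx : e 0 = 0
    · have hy : e 1 ≠ 0 := fun h => he (by ext i; fin_cases i <;> assumption)
      refine ⟨⟨!![e 0, -(e 1)⁻¹; e 1, 0], by rw [Matrix.det_fin_two_of]; field_simp; ring⟩, ?_⟩
      ext i; fin_cases i <;> simp [Matrix.mulVec, dotProduct]
    · refine ⟨⟨!![e 0, 0; e 1, (e 0)⁻¹], by rw [Matrix.det_fin_two_of]; field_simp; ring⟩, ?_⟩
      ext i; fin_cases i <;> simp [Matrix.mulVec, dotProduct]
  let D₀ : SL(2, F) := ⟨!![(l : F), 0; 0, ((l⁻¹ : Fˣ) : F)], by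
    rw [Matrix.det_fin_two_of]; simp⟩
  have hD₀ : ∀ v : Fin 2 → F, (D₀ : Matrix (Fin 2) (Fin 2) F).mulVec v =
      ![(l : F) * v 0, ((l⁻¹ : Fˣ) : F) * v 1] := fun v => by
    ext i; fin_cases i <;> simp [D₀, Matrix.mulVec, dotProduct]
  have hpow : ∀ n : ℕ, ((D₀ ^ n : SL(2, F)) : Matrix (Fin 2) (Fin 2) F) =
      !![((l ^ n : Fˣ) : F), 0; 0, (((l⁻¹) ^ n : Fˣ) : F)] := by
    intro n
    induction n with
    | zero => simp [Matrix.one_fin_two]
    | succ n ih =>
      rw [pow_succ, Matrix.SpecialLinearGroup.coe_mul, ih]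
      simp [D₀, Matrix.mul_fin_two, pow_succ]
  have hcancel : ∀ v : Fin 2 → F, ((G⁻¹ : SL(2, F)) : Matrix (Fin 2) (Fin 2) F).mulVec
      ((G : Matrix (Fin 2) (Fin 2) F).mulVec v) = v := fun v => by
    rw [Matrix.mulVec_mulVec, ← Matrix.SpecialLinearGroup.coe_mul, inv_mul_cancel,
      Matrix.SpecialLinearGroup.coe_one, Matrix.one_mulVec]
  refine ⟨G * D₀ * G⁻¹, ?_, ?_, fun n hn => ?_⟩
  · rw [← hG, Matrix.SpecialLinearGroup.coe_mul, Matrix.SpecialLinearGroup.coe_mul,
      ← Matrix.mulVec_mulVec, ← Matrix.mulVec_mulVec, hcancel, hD₀, ← Matrix.mulVec_smul]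
    congr 1
    ext i; fin_cases i <;> simp
  · intro v hv
    set w := ((G⁻¹ : SL(2, F)) : Matrix (Fin 2) (Fin 2) F).mulVec v with hw
    have h1 : (D₀ : Matrix (Fin 2) (Fin 2) F).mulVec w = w := by
      rw [Matrix.SpecialLinearGroup.coe_mul, Matrix.SpecialLinearGroup.coe_mul,
        ← Matrix.mulVec_mulVec, ← Matrix.mulVec_mulVec, ← hw] at hv
      calc (D₀ : Matrix (Fin 2) (Fin 2) F).mulVec w
          = ((G⁻¹ : SL(2, F)) : Matrix (Fin 2) (Fin 2) F).mulVec
              ((G : Matrix (Fin 2) (Fin 2) F).mulVec ((D₀ : Matrix (Fin 2) (Fin 2) F).mulVec w)) :=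
            (hcancel _).symm
        _ = w := by rw [hv]
    rw [hD₀] at h1
    have hw0 : w = 0 := by
      ext i
      fin_cases i
      · have h2 := congrFun h1 0
        simp only [Matrix.cons_val_zero] at h2
        by_contra hne
        exact hl (Units.ext ((mul_eq_right₀ hne).1 h2))
      · have h2 := congrFun h1 1
        simp only [Matrix.cons_val_one, Matrix.cons_val_fin_one] at h2
        by_contra hne
        exact hl (inv_eq_one.1 (Units.ext ((mul_eq_right₀ hne).1 h2)))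
    have hv' : (G : Matrix (Fin 2) (Fin 2) F).mulVec w = v := by
      rw [hw, Matrix.mulVec_mulVec, ← Matrix.SpecialLinearGroup.coe_mul, mul_inv_cancel,
        Matrix.SpecialLinearGroup.coe_one, Matrix.one_mulVec]
    rw [← hv', hw0, Matrix.mulVec_zero]
  · rw [conj_pow, Subtype.ext (show ((D₀ ^ n : SL(2, F)) : Matrix (Fin 2) (Fin 2) F) =
      ((1 : SL(2, F)) : Matrix (Fin 2) (Fin 2) F) by rw [hpow, inv_pow, hn]; simp [Matrix.one_fin_two]),
      mul_one, mul_inv_cancel]

namespace Conf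

variable {T : Sylow p H} {M : Subgroup H} (h : Conf V q T M)
include h

/-- The natural structure of a pencil. -/
theorem exists_natural {g : H} {A : Subgroup H} (hA : A ∈ mems V q T g) :
    ∃ (F : Type) (_ : Field F) (_ : Fintype F) (ρ : ↥(sSup (line V q T g A)) ≃* SL(2, F))
      (ψ : V →+ (Fin 2 → F)), Fintype.card F = q ∧ Function.Surjective ψ ∧
      (∀ v, ψ v = 0 ↔ v ∈ (fix (sSup (line V q T g A)) : AddSubgroup V)) ∧
      ∀ (z : ↥(sSup (line V q T g A))) (v : V),
        ψ ((z : H) • v) = (ρ z : Matrix (Fin 2) (Fin 2) F).mulVec (ψ v) := by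
  obtain ⟨B, hB, hne, TL, ML, hconf⟩ := h.exists_minconf_line hA
  rw [h.sSup_line hA (h.self_mem_line hA) hB hne.symm]
  obtain ⟨F, i1, i2, ρ, ψ, hc, hψ⟩ :=
    hconf.natural_sl2 h.pm.exp (fun z hz => Subtype.ext (h.pm.faith _ hz))
  letI : Field F := i1
  refine ⟨F, i1, i2, ρ, ψ.toAddMonoidHom.comp (QuotientAddGroup.mk' _), ?_, ?_, fun v => ?_,
    fun z v => hψ z v⟩
  · rw [hc, Nat.card_congr (Subgroup.subgroupOfEquivOfLe le_sup_left).toEquiv, hA.1.card]
  · exact ψ.surjective.comp (QuotientAddGroup.mk'_surjective _)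
  · show ψ (QuotientAddGroup.mk' _ v) = 0 ↔ _
    rw [map_eq_zero_iff ψ ψ.injective]
    rw [QuotientAddGroup.mk'_apply, QuotientAddGroup.eq_zero_iff]
    exact ⟨fun hv z hz => hv ⟨z, hz⟩ (Subgroup.mem_top _), fun hv z _ => hv z z.2⟩

/-- A torus element of a pencil. -/
theorem exists_torus {g : H} {A : Subgroup H} (hA : A ∈ mems V q T g) (hq : 3 ≤ q) :
    ∃ (z : H) (r : ℕ), r.Prime ∧ ¬ r ∣ q ∧ z ^ r = 1 ∧ z ∈ sSup (line V q T g A) ∧ cj z A = A ∧
      ∀ v : V, z • v - v ∈ (fix (sSup (line V q T g A)) : AddSubgroup V) →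
        v ∈ (fix (sSup (line V q T g A)) : AddSubgroup V) := by
  classical
  obtain ⟨F, i1, i2, ρ, ψ, hc, hsurj, hker, hψ⟩ := h.exists_natural hA
  obtain ⟨r, hr, hrd⟩ := Nat.exists_prime_and_dvd (show q - 1 ≠ 1 by omega)
  obtain ⟨l, hl⟩ := @exists_prime_orderOf_dvd_card Fˣ _ _ r ⟨hr⟩
    (by rw [Fintype.card_units, hc]; exact hrd)
  have hl1 : l ≠ 1 := fun e => hr.ne_one (by rw [← hl, e, orderOf_one])
  obtain ⟨a, ha, ha1⟩ := hA.1.exists_ne_one
  have hAL : A ≤ sSup (line V q T g A) := le_sSup (h.self_mem_line hA)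
  have hiff : ∀ v : V, v ∈ (fix A : AddSubgroup V) ↔
      (ρ ⟨a, hAL ha⟩ : Matrix (Fin 2) (Fin 2) F).mulVec (ψ v) = ψ v := by
    intro v
    rw [← hψ, ← sub_eq_zero, ← map_sub, hker]
    refine ⟨fun hv => by rw [hv a ha, sub_self]; exact zero_mem _, fun hv => ?_⟩
    obtain ⟨S, hS, hinj⟩ := h.exists_sys hA
    obtain ⟨B, hB, hne⟩ : ∃ B ∈ line V q T g A, B ≠ A := by
      obtain ⟨B, hB, hBA, -⟩ := h.exists_third hA (Y := A) (h.self_mem_line hA)
      exact ⟨B, hB, hBA⟩
    have hA' := h.self_mem_line hA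
    obtain ⟨w, hw, u, hu, rfl⟩ := AddSubgroup.mem_sup.1
      ((h.sup_line hA hA' hB hne.symm).symm ▸ AddSubgroup.mem_top v :
        v ∈ (fix A : AddSubgroup V) ⊔ fix B)
    refine add_mem hw ?_
    by_contra huA
    have hB0 := hB
    rw [← hS] at hA' hB
    refine S.comm_not_mem h.pm.faith hA' hB (fun e => hne (hinj hB hA' e.symm)) hu huA ha ha1 ?_
    have : (a • (w + u) - (w + u)) ∈ (fix B : AddSubgroup V) := fun b hb =>
      hv b (le_sSup (s := line V q T g A) hB0 hb)
    rwa [smul_add, hw a ha, add_sub_add_left_eq_sub] at this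
  obtain ⟨v₀, hv₀, hv₀L⟩ : ∃ v ∈ (fix A : AddSubgroup V), v ∉ (fix (sSup (line V q T g A)) : AddSubgroup V) := by
    refine SetLike.not_le_iff_exists.1 fun hle => ?_
    obtain ⟨B, hB, hBA, -⟩ := h.exists_third hA (Y := A) (h.self_mem_line hA)
    refine hBA (Mem.eq_of_fix_eq h.pm.faith h.no_over hB.1 hA.1 ?_)
    refine (AddSubgroup.eq_of_le_of_card_ge (H := (fix A : AddSubgroup V))
      (K := (fix B : AddSubgroup V)) (fun v hv b hb => hle hv b (le_sSup hB hb)) ?_).symm
    exact (Nat.eq_of_mul_eq_mul_left (by have := hA.1.two_le; omega) (hB.1.eq.trans hA.1.eq.symm)).le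
  have he : ψ v₀ ≠ 0 := fun e => hv₀L ((hker v₀).1 e)
  obtain ⟨D, hDe, hDfix, hDpow⟩ := exists_torus_matrix hl1 he
  refine ⟨(ρ.symm D : ↥(sSup (line V q T g A))), r, hr, ?_, ?_, (ρ.symm D).2, ?_, fun v hv => ?_⟩
  · intro hd
    have h2 := Nat.dvd_sub hd hrd
    rw [Nat.sub_sub_self (by omega)] at h2
    exact hr.ne_one (Nat.dvd_one.1 h2)
  · rw [← SubmonoidClass.coe_pow, ← map_pow, hDpow r (hl ▸ pow_orderOf_eq_one l), map_one,
      OneMemClass.coe_one]
  · refine Mem.cj_eq h.pm.faith h.no_over hA.1 fun v hv => ?_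
    rw [hiff, hψ, MulEquiv.apply_symm_apply]
    set N : Matrix (Fin 2) (Fin 2) F := (ρ ⟨a, hAL ha⟩ : Matrix (Fin 2) (Fin 2) F) - 1 with hN
    have hker1 : ∀ w, N.mulVec w = 0 → ∃ c : F, w = c • ψ v₀ := by
      intro w hw
      by_contra! hne
      have hli : LinearIndependent F ![ψ v₀, w] := by
        rw [LinearIndependent.pair_iff' he]
        exact fun c e => hne c e.symm
      have hspan := hli.span_eq_top_of_card_eq_finrank (by simp)
      have hzero : N.mulVec ![1, 0] = 0 ∧ N.mulVec ![0, 1] = 0 := by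
        have : ∀ x, N.mulVec x = 0 := by
          intro x
          have hx : x ∈ Submodule.span F (Set.range ![ψ v₀, w]) := hspan ▸ Submodule.mem_top
          induction hx using Submodule.span_induction with
          | mem y hy =>
            obtain ⟨i, rfl⟩ := hy
            fin_cases i
            · show N.mulVec (ψ v₀) = 0
              rw [hN, Matrix.sub_mulVec, Matrix.one_mulVec, (hiff v₀).1 hv₀, sub_self]
            · exact hw
          | zero => exact Matrix.mulVec_zero _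
          | add y z _ _ hy hz => rw [Matrix.mulVec_add, hy, hz, add_zero]
          | smul c y _ hy => rw [Matrix.mulVec_smul, hy, smul_zero]
        exact ⟨this _, this _⟩
      obtain ⟨u, hu⟩ : ∃ u, u ∉ (fix A : AddSubgroup V) := by
        obtain ⟨u, -, hu⟩ := SetLike.exists_of_lt (lt_top_iff_ne_top.2 hA.1.fix_ne_top)
        exact ⟨u, hu⟩
      refine hu ((hiff u).2 ?_)
      have e : ψ u = ψ u 0 • ![(1 : F), 0] + ψ u 1 • ![(0 : F), 1] := by
        ext i; fin_cases i <;> simp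
      rw [← sub_eq_zero, ← Matrix.one_mulVec (ψ u), Matrix.mulVec_mulVec, mul_one,
        ← Matrix.sub_mulVec, ← hN, e, Matrix.mulVec_add, Matrix.mulVec_smul, Matrix.mulVec_smul,
        hzero.1, hzero.2, smul_zero, smul_zero, add_zero]
    obtain ⟨c, hc'⟩ := hker1 (ψ v) (by
      rw [hN, Matrix.sub_mulVec, Matrix.one_mulVec, (hiff v).1 hv, sub_self])
    rw [hc', Matrix.mulVec_smul, hDe, smul_comm, Matrix.mulVec_smul, Matrix.mulVec_smul,
      (hiff v₀).1 hv₀]
  · rw [← hker, map_sub, hψ, MulEquiv.apply_symm_apply, sub_eq_zero] at hv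
    exact (hker v).1 (hDfix _ hv)

/-- A splitting of the module along a pencil, respected by all other pencils. -/
theorem exists_split {g : H} {A : Subgroup H} (hA : A ∈ mems V q T g) (hq : 3 ≤ q) :
    ∃ z ∈ sSup (line V q T g A),
      (∀ v : V, ∃ i ∈ (fix (sSup (line V q T g A)) : AddSubgroup V), ∃ w : V,
        v = i + (z • w - w)) ∧
      (∀ v : V, z • v = v → v ∈ (fix (sSup (line V q T g A)) : AddSubgroup V)) ∧
      ∀ B ∈ mems V q T g, B ≠ A → ∀ l ∈ sSup (line V q T g B),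
        l * z = z * l ∧ ∀ w : V, l • (z • w - w) = z • w - w := by
  obtain ⟨z, r, hr, hrq, hzr, hz, hzA, hfree⟩ := h.exists_torus hA hq
  set L := sSup (line V q T g A) with hL
  refine ⟨z, hz, ?_, fun v hv => hfree v (by rw [hv, sub_self]; exact zero_mem _), ?_⟩
  · intro v
    let f : V →+ V := DistribSMul.toAddMonoidHom V z - AddMonoidHom.id V
    have hkerf : f.ker = (fix L : AddSubgroup V) := le_antisymm
      (fun w hw => hfree w (by
        have e : z • w - w = 0 := hw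
        rw [e]
        exact zero_mem _))
      fun w hw => sub_eq_zero.2 (hw z hz)
    have hinf : f.range ⊓ f.ker = ⊥ := by
      rw [eq_bot_iff]
      rintro _ ⟨⟨w, rfl⟩, hw⟩
      rw [hkerf] at hw
      rw [AddSubgroup.mem_bot]
      exact sub_eq_zero.2 (hfree w hw z hz)
    have htop : f.range ⊔ f.ker = ⊤ := by
      refine AddSubgroup.eq_top_of_card_eq _ ?_
      have h1 := card_sup_mul_card_inf f.range f.ker
      rw [hinf, AddSubgroup.card_bot, mul_one] at h1
      rw [h1, AddSubgroup.card_eq_card_quotient_mul_card_addSubgroup f.ker,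
        Nat.card_congr (QuotientAddGroup.quotientKerEquivRange f).toEquiv]
    obtain ⟨_, ⟨w, rfl⟩, i, hi, e⟩ := AddSubgroup.mem_sup.1
      (htop.symm ▸ AddSubgroup.mem_top v : v ∈ f.range ⊔ f.ker)
    exact ⟨i, hkerf ▸ hi, w, by rw [← e, add_comm]; rfl⟩
  intro B hB hne
  have hLB : Com L B := com_sSup fun X hX => hX.2.1 B hB hne
  have hfixD : ∀ D ∈ mems V q T g, cj z D = D := fun D hD => by
    by_cases e : D = A
    · rw [e, hzA]
    · exact cj_eq_of_com (com_sSup fun X hX => hX.2.1 D hD e) hz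
  let P : Subgroup H :=
    { carrier := {n | ∀ D ∈ mems V q T g, cj n D = D}
      one_mem' := fun D _ => cj_one D
      mul_mem' := fun {a b} ha hb D hD => by rw [cj_mul, hb D hD, ha D hD]
      inv_mem' := fun {a} ha D hD => by
        conv_lhs => rw [← ha D hD]
        exact cj_inv_cancel a D }
  have hzP : Subgroup.zpowers z ≤ P := Subgroup.zpowers_le.2 hfixD
  letI : MulAction ↥(Subgroup.zpowers z) ↥(line V q T g B \ {B}) :=
    { smul := fun n X => ⟨cj (n : H) X, h.cj_line_fix hB (hzP n.2) X.2.1, fun e =>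
        X.2.2 (cj_injective (n : H) (Eq.trans e (hzP n.2 B hB).symm))⟩
      one_smul := fun X => Subtype.ext (cj_one _)
      mul_smul := fun m n X => Subtype.ext (cj_mul _ _ _) }
  haveI : Fact r.Prime := ⟨hr⟩
  have hP : IsPGroup r ↥(Subgroup.zpowers z) := IsPGroup.of_card_dvd_pow (n := 1)
    (by rw [Nat.card_zpowers, pow_one]; exact orderOf_dvd_of_pow_eq_one hzr)
  obtain ⟨X, hX⟩ := hP.nonempty_fixed_point_of_prime_not_dvd_card ↥(line V q T g B \ {B})
    (by rw [Nat.card_coe_set_eq, h.ncard_line_sdiff hB (h.self_mem_line hB)]; exact hrq)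
  have hXfix : cj z X = X := congrArg Subtype.val (hX ⟨z, Subgroup.mem_zpowers z⟩)
  have hXl : (X : Subgroup H) ∈ line V q T g B := X.2.1
  have hXB : (X : Subgroup H) ≠ B := X.2.2
  have hBl := h.self_mem_line hB
  have hzX : ∀ x ∈ (X : Subgroup H), x * z = z * x := by
    intro x hx
    have hxB : cj x B ∈ line V q T g B := h.line_conj hB hXl hBl hx
    have hfixxB : cj z (cj x B) = cj x B := by
      by_cases e : cj x B = B
      · rw [e, hfixD B hB]
      obtain ⟨b, hb, e'⟩ := h.orbit_line hB hBl hXl hxB hXB.symm e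
      rw [e', ← cj_mul, hLB z hz b hb, cj_mul, hXfix]
    have hd : x⁻¹ * (z * x * z⁻¹) ∈ (X : Subgroup H) := by
      refine Subgroup.mul_mem _ (Subgroup.inv_mem _ hx) ?_
      rw [← hXfix, mem_cj]
      simpa [mul_assoc] using hx
    have hd1 := h.free_line hB hXl hBl hXB hd (by
      rw [cj_mul, cj_mul, cj_mul]
      have hzi : cj z⁻¹ B = B := by
        conv_lhs => rw [← hfixD B hB]
        exact cj_inv_cancel z B
      rw [hzi, hfixxB, cj_inv_cancel])
    rw [inv_mul_eq_one, eq_mul_inv_iff_mul_eq] at hd1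
    exact hd1
  have hcom : ∀ l ∈ sSup (line V q T g B), l * z = z * l := fun l hl => by
    rw [h.sSup_line hB hBl hXl hXB.symm] at hl
    have hle : B ⊔ X ≤ Subgroup.centralizer {z} := sup_le
      (fun b hb => Subgroup.mem_centralizer_singleton_iff.2 (hLB z hz b hb).symm)
      fun x hx => Subgroup.mem_centralizer_singleton_iff.2 (hzX x hx)
    exact Subgroup.mem_centralizer_singleton_iff.1 (hle hl)
  intro l hl
  refine ⟨hcom l hl, ?_⟩
  have hB1 : ∀ b ∈ B, ∀ w : V, b • (z • w - w) = z • w - w := by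
    intro b hb w
    have h1 : b • w - w ∈ (fix L : AddSubgroup V) := fix_sSup _ fun Y hY =>
      Mem.orth_of_com h.pm.faith h.no_over hB.1 hY.1 (hY.2.1 B hB hne).symm b hb w
    have h2 : z • (b • w - w) = b • w - w := h1 z hz
    rw [smul_sub, ← mul_smul, hLB z hz b hb, mul_smul] at h2
    rw [smul_sub]
    rw [← sub_eq_zero] at h2 ⊢
    rw [← h2]
    abel
  intro w
  have hle : sSup (line V q T g B) ≤ MulAction.stabilizer H (z • w - w) := by
    refine sSup_le fun Z hZ y hy => MulAction.mem_stabilizer_iff.2 ?_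
    by_cases e : Z = B
    · exact hB1 y (e ▸ hy) w
    obtain ⟨Y, hY, hYB, hYZ⟩ := h.exists_third hB (Y := Z) hBl
    obtain ⟨s, hs, rfl⟩ := h.orbit_line hB hY hBl hZ hYB hYZ.symm
    have hsz := hcom s (le_sSup hY hs)
    have e1 : s⁻¹ • (z • w - w) = z • (s⁻¹ • w) - s⁻¹ • w := by
      rw [smul_sub, ← mul_smul, ← mul_smul,
        hcom s⁻¹ (Subgroup.inv_mem _ (le_sSup hY hs))]
    have h2 := hB1 _ (mem_cj.1 hy) (s⁻¹ • w)
    rw [← e1, mul_smul, mul_smul, smul_inv_smul, smul_left_cancel_iff] at h2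
    exact h2
  exact MulAction.mem_stabilizer_iff.1 (hle hl)

theorem eq_of_lk (hq : 3 ≤ q) {g : H} {A B : Subgroup H} (hA : A ∈ mems V q T g)
    (hB : B ∈ mems V q T g) (hl : Lk V q T g A B) : A = B := by
  by_contra hne
  rcases hl with e | ⟨X, hX, Y, hY, hc⟩
  · exact hne e
  have key : ∀ {A B : Subgroup H}, A ∈ mems V q T g → B ∈ mems V q T g → A ≠ B →
      ∀ {X}, X ∈ line V q T g A → ∀ l ∈ sSup (line V q T g B), cj l X = X := by
    intro A B hA hB hne X hX l hl
    obtain ⟨z, hz, hdec, hfix, hcomm⟩ := h.exists_split hA hq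
    refine Mem.cj_eq h.pm.faith h.no_over hX.1 fun v hv => ?_
    obtain ⟨i, hi, w, rfl⟩ := hdec v
    obtain ⟨hlz, htriv⟩ := hcomm B hB (Ne.symm hne) l hl
    rw [smul_add, htriv w]
    have hli : l • i ∈ (fix (sSup (line V q T g A)) : AddSubgroup V) := by
      refine hfix _ ?_
      rw [← mul_smul, ← hlz, mul_smul, hi z hz]
    have hiX : ∀ {t : V}, t ∈ (fix (sSup (line V q T g A)) : AddSubgroup V) →
        t ∈ (fix X : AddSubgroup V) := fun ht x hx => ht x (le_sSup hX hx)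
    refine add_mem (hiX hli) ?_
    have := sub_mem hv (hiX hi)
    rwa [add_sub_cancel_left] at this
  refine hc fun x hx y hy => ?_
  have hne' : X ≠ Y := fun e => hc (e ▸ com_self h.pm.faith hX.1.quad)
  have h1 : x * y * x⁻¹ * y⁻¹ ∈ X ⊓ Y := by
    refine ⟨?_, ?_⟩
    · rw [show x * y * x⁻¹ * y⁻¹ = x * (y * x⁻¹ * y⁻¹) by group]
      refine X.mul_mem hx ?_
      rw [← key hA hB hne hX y (le_sSup hY hy), mem_cj]
      simpa [mul_assoc] using hx
    · refine Y.mul_mem ?_ (Y.inv_mem hy)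
      rw [← key hB hA (Ne.symm hne) hY x (le_sSup hX hx), mem_cj]
      simpa [mul_assoc] using hy
  rw [Mem.inf_eq_bot h.pm.faith h.no_over hX.1 hY.1 hne', Subgroup.mem_bot, mul_inv_eq_one,
    mul_inv_eq_iff_eq_mul] at h1
  exact h1

end Conf

end Cfsg.Agent.FFPM
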