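import Cfsg.Agent.Lib.Thompson.FFPM.Base
import Cfsg.Agent.Lib.Thompson.FFSL2.Minimal

/-!
In a `p`-minimal group an offender of largest measure is exact: there are no over-offenders.
-/

set_option autoImplicit false
set_option linter.unusedSectionVars false

namespace Cfsg.Agent.FFPM

open FFSL2

variable {H : Type*} [Group H] [Finite H] {V : Type*} [AddCommGroup V] [Finite V]
  [DistribMulAction H V] {p : ℕ} [hpp : Fact p.Prime]

/-- A `p`-minimal group acting faithfully, whose Sylow fixed points are not central. -/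
structure PM (V : Type*) [AddCommGroup V] [DistribMulAction H V] (T : Sylow p H) (M : Subgroup H) :
    Prop where
  ne_top : M ≠ ⊤
  le_M : (T : Subgroup H) ≤ M
  uniq : ∀ K : Subgroup H, (T : Subgroup H) ≤ K → K ≠ ⊤ → K ≤ M
  not_normal : ¬ (T : Subgroup H).Normal
  core : ∀ Q : Subgroup H, Q.Normal → IsPGroup p ↥Q → Q = ⊥
  faith : ∀ z : H, (∀ v : V, z • v = v) → z = 1
  exp : ∀ v : V, p • v = 0
  fix_T : ¬ (fix (T : Subgroup H) : AddSubgroup V) ≤ fix (⊤ : Subgroup H)

/-- The same conjugate of `M`. -/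
def Rel (M : Subgroup H) (g g' : H) : Prop := g⁻¹ * g' ∈ M

theorem Rel.refl (M : Subgroup H) (g : H) : Rel M g g := by
  simp [Rel]

theorem Rel.symm {M : Subgroup H} {g g' : H} (h : Rel M g g') : Rel M g' g := by
  simpa [Rel] using M.inv_mem h

theorem Rel.trans {M : Subgroup H} {g g' g'' : H} (h : Rel M g g') (h' : Rel M g' g'') :
    Rel M g g'' := by
  have := M.mul_mem h h'
  simpa [Rel, mul_assoc] using this

theorem Rel.mul_left {M : Subgroup H} {g g' : H} (z : H) (h : Rel M g g') :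
    Rel M (z * g) (z * g') := by
  simpa [Rel, mul_assoc] using h

theorem Rel.cj_eq {M : Subgroup H} {g g' : H} (h : Rel M g g') : cj g M = cj g' M := by
  conv_rhs => rw [show g' = g * (g⁻¹ * g') by group, cj_mul, cj_self h]

theorem mem_cj_iff_rel {M : Subgroup H} {g z : H} : z ∈ cj g M ↔ Rel M g (z * g) := by
  rw [mem_cj, Rel, mul_assoc]

namespace PM

variable {T : Sylow p H} {M : Subgroup H} (h : PM V T M)
include h

theorem mem_of_syl {z : H} (hz : cj z (T : Subgroup H) ≤ M) : z ∈ M := by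
  have hz' : ((z • T : Sylow p H) : Subgroup H) ≤ M := hz
  obtain ⟨m, hm⟩ := MulAction.exists_smul_eq ↥M ((z • T).subtype hz') (T.subtype h.le_M)
  rw [Sylow.smul_subtype] at hm
  have h1 : ((m : H) * z) • T = T := by
    rw [mul_smul]
    exact Sylow.subtype_injective hm
  have h2 : Subgroup.normalizer ((T : Subgroup H) : Set H) ≤ M :=
    h.uniq _ Subgroup.le_normalizer fun e => h.not_normal (Subgroup.normalizer_eq_top_iff.1 e)
  have h3 : (m : H) * z ∈ M := h2 (Sylow.smul_eq_iff_mem_normalizer.1 h1)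
  simpa using M.mul_mem (M.inv_mem m.2) h3

theorem rel_of_le {g g' : H} (hle : cj g (T : Subgroup H) ≤ cj g' M) : Rel M g' g := by
  refine h.mem_of_syl ?_
  rw [cj_mul, le_cj_iff, inv_inv]
  exact hle

theorem exists_syl {R : Subgroup H} (hR : IsPGroup p ↥R) : ∃ g, R ≤ cj g (T : Subgroup H) := by
  obtain ⟨P, hP⟩ := hR.exists_le_sylow
  obtain ⟨g, hg⟩ := MulAction.exists_smul_eq H T P
  refine ⟨g, hP.trans ?_⟩
  rw [← hg]
  exact le_rfl

theorem exists_syl_le {R : Subgroup H} (hR : IsPGroup p ↥R) {g : H} (hle : R ≤ cj g M) :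
    ∃ y, Rel M g y ∧ R ≤ cj y (T : Subgroup H) := by
  have hle' : cj g⁻¹ R ≤ M := by rwa [le_cj_iff, inv_inv]
  have hDM : IsPGroup p ↥((cj g⁻¹ R).subgroupOf M) :=
    (hR.map _).of_equiv (Subgroup.subgroupOfEquivOfLe hle').symm
  obtain ⟨P, hP⟩ := hDM.exists_le_sylow
  obtain ⟨m, hm⟩ := MulAction.exists_smul_eq ↥M (T.subtype h.le_M) P
  rw [Sylow.smul_subtype] at hm
  refine ⟨g * m, by simpa [Rel] using m.2, fun d hd => ?_⟩
  have hd' : g⁻¹ * d * g ∈ cj g⁻¹ R := by rw [mem_cj]; simpa [mul_assoc] using hd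
  have h2 := hP (show (⟨_, hle' hd'⟩ : ↥M) ∈ (cj g⁻¹ R).subgroupOf M from hd')
  rw [← hm] at h2
  have h3 : g⁻¹ * d * g ∈ cj (m : H) (T : Subgroup H) := h2
  rw [mem_cj] at h3 ⊢
  simpa [mul_assoc] using h3

theorem exists_vec (y : H) : ∃ v ∈ (fix (cj y (T : Subgroup H)) : AddSubgroup V),
    v ∉ (fix (⊤ : Subgroup H) : AddSubgroup V) := by
  obtain ⟨v, hv, hvC⟩ := SetLike.not_le_iff_exists.1 h.fix_T
  refine ⟨y • v, mem_fix_cj.2 (by rwa [inv_smul_smul]), fun hc => hvC ?_⟩
  have e : v = y • v := by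
    have := hc y⁻¹ (Subgroup.mem_top _)
    rwa [inv_smul_smul] at this
  rw [e]
  exact hc

theorem stab_le {y : H} {v : V} (hv : v ∈ (fix (cj y (T : Subgroup H)) : AddSubgroup V))
    (hvC : v ∉ (fix (⊤ : Subgroup H) : AddSubgroup V)) :
    MulAction.stabilizer H v ≤ cj y M := by
  intro z hz
  have h1 : MulAction.stabilizer H (y⁻¹ • v) ≤ M := by
    refine h.uniq _ (fun t ht => (mem_fix_cj.1 hv) t ht) fun e => hvC fun g _ => ?_
    have hg : ∀ g : H, g • y⁻¹ • v = y⁻¹ • v := fun g =>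
      MulAction.mem_stabilizer_iff.1 (e ▸ Subgroup.mem_top g)
    have hy := hg y
    rw [smul_inv_smul] at hy
    rw [← hy] at hg
    exact hg g
  rw [mem_cj]
  refine h1 (MulAction.mem_stabilizer_iff.2 ?_)
  rw [mul_smul, mul_smul, smul_inv_smul, MulAction.mem_stabilizer_iff.1 hz]

theorem exists_not_rel (g : H) : ∃ g', ¬ Rel M g g' := by
  by_contra! hh
  exact h.ne_top ((Subgroup.eq_top_iff' M).2 fun z => by simpa [Rel] using hh (g * z))

theorem normalizer_le {g : H} {X : Subgroup H} (hne : X ≠ ⊥) (hX : IsPGroup p ↥X)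
    (hle : cj g (T : Subgroup H) ≤ Subgroup.normalizer (X : Set H)) :
    Subgroup.normalizer (X : Set H) ≤ cj g M := by
  have htop : Subgroup.normalizer (X : Set H) ≠ ⊤ := fun e =>
    hne (h.core X (Subgroup.normalizer_eq_top_iff.1 e) hX)
  rw [← cj_cancel_inv g (Subgroup.normalizer (X : Set H))]
  refine Subgroup.map_mono (h.uniq _ ?_ fun e => htop ?_)
  · rwa [← le_cj_iff]
  · rw [← cj_cancel_inv g (Subgroup.normalizer (X : Set H)), e]
    exact Subgroup.map_top_of_surjective _ (MulAut.conj g).surjective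

end PM

/-- A candidate: an offender without proper subgroup of equal measure. -/
structure Cand (V : Type*) [AddCommGroup V] [DistribMulAction H V] (A : Subgroup H) : Prop where
  ne_bot : A ≠ ⊥
  quad : Quad V A
  le_card : Nat.card V ≤ mu V A
  strict : ∀ A₀, A₀ ≤ A → A₀ ≠ ⊥ → A₀ ≠ A → mu V A₀ < mu V A

/-- The members common to two Sylow subgroups. -/
def common (F : Set (Subgroup H)) (T : Sylow p H) (g g' : H) : Set (Subgroup H) :=
  {A | A ∈ F ∧ A ≤ cj g (T : Subgroup H) ∧ A ≤ cj g' (T : Subgroup H)}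

/-- A pair of Sylow subgroups with different labels and most members in common. -/
structure IsMax (F : Set (Subgroup H)) (T : Sylow p H) (M : Subgroup H) (g g' : H) : Prop where
  conj_mem : ∀ A ∈ F, ∀ z, cj z A ∈ F
  nonempty : F.Nonempty
  pgroup : ∀ A ∈ F, IsPGroup p ↥A
  ne_bot : ∀ A ∈ F, A ≠ ⊥
  not_rel : ¬ Rel M g g'
  le : ∀ i j, ¬ Rel M i j → (common F T i j).ncard ≤ (common F T g g').ncard

/-- The group generated by the common members. -/
def comSup (F : Set (Subgroup H)) (T : Sylow p H) (g g' : H) : Subgroup H := sSup (common F T g g')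

theorem common_comm (F : Set (Subgroup H)) (T : Sylow p H) (g g' : H) :
    common F T g g' = common F T g' g := by
  ext A
  simp only [common, Set.mem_setOf_eq, and_comm, and_left_comm]

theorem comSup_le (F : Set (Subgroup H)) (T : Sylow p H) (g g' : H) :
    comSup F T g g' ≤ cj g (T : Subgroup H) ⊓ cj g' (T : Subgroup H) :=
  sSup_le fun _ hA => le_inf hA.2.1 hA.2.2

theorem IsMax.symm {F : Set (Subgroup H)} {T : Sylow p H} {M : Subgroup H} {g g' : H}
    (hm : IsMax F T M g g') : IsMax F T M g' g :=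
  ⟨hm.conj_mem, hm.nonempty, hm.pgroup, hm.ne_bot, fun e => hm.not_rel e.symm,
    fun i j e => (hm.le i j e).trans_eq (by rw [common_comm])⟩

theorem isPGroup_cj {T : Sylow p H} (g : H) : IsPGroup p ↥(cj g (T : Subgroup H)) :=
  T.isPGroup'.map _

namespace PM

variable {T : Sylow p H} {M : Subgroup H} (h : PM V T M) {F : Set (Subgroup H)}

theorem exists_isMax {F : Set (Subgroup H)} (h : PM V T M) (h1 : ∀ A ∈ F, ∀ z, cj z A ∈ F)
    (h2 : F.Nonempty) (h3 : ∀ A ∈ F, IsPGroup p ↥A) (h4 : ∀ A ∈ F, A ≠ ⊥) : ∃ g g', IsMax F T M g g' := by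
  obtain ⟨x, hx⟩ := h.exists_not_rel 1
  obtain ⟨⟨g, g'⟩, hg, hmax⟩ := Set.exists_max_image {x : H × H | ¬ Rel M x.1 x.2}
    (fun x => (common F T x.1 x.2).ncard) (Set.toFinite _) ⟨(1, x), hx⟩
  exact ⟨g, g', h1, h2, h3, h4, hg, fun i j e => hmax (i, j) e⟩

variable {g g' : H} (hm : IsMax F T M g g')
include h hm

theorem isPGroup_sup {R : Subgroup H} (hR : IsPGroup p ↥R)
    (hN : R ≤ Subgroup.normalizer (comSup F T g g' : Set H)) :
    IsPGroup p ↥(R ⊔ comSup F T g g') :=
  hR.to_sup_of_normal_right' ((isPGroup_cj g).to_le ((comSup_le F T g g').trans inf_le_left)) hN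

theorem uniq_lab {A : Subgroup H} (hA : A ∈ F) (hAE : ¬ A ≤ comSup F T g g') {i j : H}
    (hi : A ⊔ comSup F T g g' ≤ cj i (T : Subgroup H))
    (hj : A ⊔ comSup F T g g' ≤ cj j (T : Subgroup H)) : Rel M i j := by
  by_contra hne
  have hsub : insert A (common F T g g') ⊆ common F T i j := by
    rintro X (rfl | hX)
    · exact ⟨hA, le_sup_left.trans hi, le_sup_left.trans hj⟩
    · have hXE : X ≤ comSup F T g g' := le_sSup hX
      exact ⟨hX.1, (hXE.trans le_sup_right).trans hi, (hXE.trans le_sup_right).trans hj⟩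
  have h1 := (Set.ncard_le_ncard hsub (Set.toFinite _)).trans (hm.le i j hne)
  rw [Set.ncard_insert_of_notMem (fun hh => hAE (le_sSup hh)) (Set.toFinite _)] at h1
  omega

theorem exists_lab {A : Subgroup H} (hA : A ∈ F)
    (hN : A ≤ Subgroup.normalizer (comSup F T g g' : Set H)) :
    ∃ i, A ⊔ comSup F T g g' ≤ cj i (T : Subgroup H) :=
  h.exists_syl (h.isPGroup_sup hm (hm.pgroup A hA) hN)

/-- A member outside the common part lies only in its own conjugate of `M`. -/
theorem lab_le {A : Subgroup H} (hA : A ∈ F)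
    (hN : A ≤ Subgroup.normalizer (comSup F T g g' : Set H)) (hAE : ¬ A ≤ comSup F T g g')
    {i j : H} (hi : A ⊔ comSup F T g g' ≤ cj i (T : Subgroup H))
    (hj : A ⊔ comSup F T g g' ≤ cj j M) : Rel M i j := by
  obtain ⟨y, hy, hle⟩ := h.exists_syl_le (h.isPGroup_sup hm (hm.pgroup A hA) hN) hj
  exact (h.uniq_lab hm hA hAE hi hle).trans hy.symm

theorem exists_outside : ∃ A ∈ F, A ≤ cj g (T : Subgroup H) ∧
    A ≤ Subgroup.normalizer (comSup F T g g' : Set H) ∧ ¬ A ≤ comSup F T g g' := by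
  set E := comSup F T g g' with hE
  by_contra! hcon
  set S := cj g (T : Subgroup H) with hS
  have hES : E ≤ S := (comSup_le F T g g').trans inf_le_left
  -- the members normalising `E` generate it
  have hnorm : ∀ x ∈ S, (∀ X ∈ F, X ≤ E → cj x X ≤ Subgroup.normalizer (E : Set H)) →
      x ∈ Subgroup.normalizer (E : Set H) := by
    intro x hx hX
    have h1 : cj x E ≤ E := by
      rw [hE, comSup, le_cj_iff]
      refine sSup_le fun X hXm => le_cj_iff.1 (hcon _ (hm.conj_mem X hXm.1 x) ?_ ?_)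
      · exact (Subgroup.map_mono hXm.2.1).trans_eq (cj_self hx)
      · exact hX X hXm.1 (le_sSup hXm)
    rw [Subgroup.mem_normalizer_iff]
    intro z
    have h2 : cj x E = E := Subgroup.eq_of_le_of_card_ge h1 (card_cj x E).ge
    constructor
    · intro hz
      exact h2 ▸ mem_cj.2 (by simpa [mul_assoc] using hz)
    · intro hz
      rw [← h2, mem_cj] at hz
      simpa [mul_assoc] using hz
  have hSN : S ≤ Subgroup.normalizer (E : Set H) := by
    set N := (Subgroup.normalizer (E : Set H)).subgroupOf S with hN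
    have : Group.IsNilpotent ↥S := (isPGroup_cj (T := T) g).isNilpotent
    have h1 : Subgroup.normalizer (N : Set ↥S) ≤ N := by
      intro x hx
      refine hnorm x x.2 fun X hXF hXE w hw => ?_
      rw [mem_cj] at hw
      have hwS : (x : H)⁻¹ * w * x ∈ S := hES (hXE hw)
      have hwS' : w ∈ S := by
        have := S.mul_mem (S.mul_mem x.2 hwS) (S.inv_mem x.2)
        simpa [mul_assoc] using this
      have h3 : (x⁻¹ * ⟨w, hwS'⟩ * x : ↥S) ∈ N := by
        rw [hN, Subgroup.mem_subgroupOf]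
        exact Subgroup.le_normalizer (hXE (by simpa using hw))
      have h4 := ((Subgroup.mem_normalizer_iff.1 hx) _).1 h3
      simpa [hN, Subgroup.mem_subgroupOf, mul_assoc] using h4
    have htop : N = ⊤ := by
      by_contra hne
      exact (Group.normalizerCondition_of_isNilpotent N (lt_top_iff_ne_top.2 hne)).not_ge h1
    exact Subgroup.subgroupOf_eq_top.1 htop
  -- every member in either Sylow subgroup is common
  have hall : ∀ X ∈ F, X ≤ S → X ∈ common F T g g' := fun X hX hXS =>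
    ⟨hX, hXS, (hcon X hX hXS (hXS.trans hSN)).trans ((comSup_le F T g g').trans inf_le_right)⟩
  have hne : E ≠ ⊥ := by
    intro hEb
    obtain ⟨X, hX⟩ := hm.nonempty
    obtain ⟨i, hi⟩ := h.exists_syl (hm.pgroup X hX)
    have h2 := hcon _ (hm.conj_mem X hX (g * i⁻¹))
      ((Subgroup.map_mono hi).trans_eq (by rw [← cj, ← cj_mul, inv_mul_cancel_right]))
    have h3 : cj (g * i⁻¹) X ≤ S :=
      (Subgroup.map_mono hi).trans_eq (by rw [← cj, ← cj_mul, inv_mul_cancel_right])
    have h4 := h2 (h3.trans hSN)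
    rw [hEb, le_bot_iff, cj, Subgroup.map_eq_bot_iff_of_injective _ (MulAut.conj _).injective] at h4
    exact hm.ne_bot X hX h4
  have hEp : IsPGroup p ↥E := (isPGroup_cj g).to_le hES
  -- the other Sylow subgroup contains no further member
  have hsame : {X | X ∈ F ∧ X ≤ cj g' (T : Subgroup H)} = common F T g g' := by
    have e1 : {X | X ∈ F ∧ X ≤ S} = common F T g g' :=
      Set.Subset.antisymm (fun X hX => hall X hX.1 hX.2) fun X hX => ⟨hX.1, hX.2.1⟩
    refine (Set.eq_of_subset_of_ncard_le (s := common F T g g')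
      (t := {X | X ∈ F ∧ X ≤ cj g' (T : Subgroup H)}) (fun X hX => ⟨hX.1, hX.2.2⟩) ?_
      (Set.toFinite _)).symm
    rw [← e1]
    exact Set.ncard_le_ncard_of_injOn (cj (g * g'⁻¹))
      (fun X hX => ⟨hm.conj_mem X hX.1 _,
        (Subgroup.map_mono hX.2).trans_eq (by rw [← cj, ← cj_mul, inv_mul_cancel_right])⟩)
      (cj_injective _).injOn (Set.toFinite _)
  have hS'N : cj g' (T : Subgroup H) ≤ Subgroup.normalizer (E : Set H) := by
    intro x hx
    rw [Subgroup.mem_normalizer_iff]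
    have h2 : cj x E = E := by
      refine Subgroup.eq_of_le_of_card_ge ?_ (card_cj x E).ge
      rw [hE, comSup, le_cj_iff]
      refine sSup_le fun X hXm => le_cj_iff.1 (le_sSup ?_)
      rw [← hsame]
      exact ⟨hm.conj_mem X hXm.1 x, (Subgroup.map_mono hXm.2.2).trans_eq (cj_self hx)⟩
    intro z
    constructor
    · intro hz
      exact h2 ▸ mem_cj.2 (by simpa [mul_assoc] using hz)
    · intro hz
      rw [← h2, mem_cj] at hz
      simpa [mul_assoc] using hz
  exact hm.not_rel (h.rel_of_le (hS'N.trans (h.normalizer_le hne hEp hSN)))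

/-- The normaliser of the common part moves the label of an outside member. -/
theorem exists_move {A : Subgroup H} (hA : A ∈ F) (hAE : ¬ A ≤ comSup F T g g') {i : H}
    (hi : A ⊔ comSup F T g g' ≤ cj i (T : Subgroup H)) :
    ∃ x ∈ Subgroup.normalizer (comSup F T g g' : Set H), x ∉ cj i M := by
  by_contra! hle
  obtain ⟨X, hX, hXS, hXN, hXE⟩ := h.exists_outside hm
  obtain ⟨Y, hY, hYS, hYN, hYE⟩ := h.exists_outside hm.symm
  rw [comSup, common_comm, ← comSup] at hYN hYE
  have h1 : X ⊔ comSup F T g g' ≤ cj g (T : Subgroup H) :=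
    sup_le hXS ((comSup_le F T g g').trans inf_le_left)
  have h2 : Y ⊔ comSup F T g g' ≤ cj g' (T : Subgroup H) :=
    sup_le hYS ((comSup_le F T g g').trans inf_le_right)
  have hN : ∀ {Z : Subgroup H}, Z ≤ Subgroup.normalizer (comSup F T g g' : Set H) →
      Z ⊔ comSup F T g g' ≤ cj i M := fun hZ => sup_le (fun z hz => hle z (hZ hz))
    (fun z hz => hle z (Subgroup.le_normalizer hz))
  exact hm.not_rel ((h.lab_le hm hX hXN hXE h1 (hN hXN)).trans
    (h.lab_le hm hY hYN hYE h2 (hN hYN)).symm)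

omit hm in
theorem cj_comSup {x : H} (hx : x ∈ Subgroup.normalizer (comSup F T g g' : Set H)) :
    cj x (comSup F T g g') = comSup F T g g' := by
  ext z
  rw [mem_cj, (Subgroup.mem_normalizer_iff.1 hx) (x⁻¹ * z * x)]
  simp [mul_assoc]

/-- A conjugate of a member by an element moving its label escapes the label. -/
theorem not_le_lab {A : Subgroup H} (hA : A ∈ F)
    (hN : A ≤ Subgroup.normalizer (comSup F T g g' : Set H)) (hAE : ¬ A ≤ comSup F T g g')
    {i : H} (hi : A ⊔ comSup F T g g' ≤ cj i (T : Subgroup H)) {x : H}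
    (hx : x ∈ Subgroup.normalizer (comSup F T g g' : Set H)) (hxi : x ∉ cj i M) :
    ¬ cj x A ≤ cj i M := by
  intro hle
  have hE := h.cj_comSup hx
  have h1 : cj x A ⊔ comSup F T g g' ≤ cj (x * i) (T : Subgroup H) := by
    rw [← hE, cj_mul, cj, cj, ← Subgroup.map_sup]
    exact Subgroup.map_mono hi
  have h2 : cj x A ≤ Subgroup.normalizer (comSup F T g g' : Set H) := fun z hz => by
    have := Subgroup.mul_mem _ (Subgroup.mul_mem _ hx (hN (mem_cj.1 hz))) (Subgroup.inv_mem _ hx)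
    simpa [mul_assoc] using this
  have h3 : ¬ cj x A ≤ comSup F T g g' := by
    rw [← hE]
    exact fun e => hAE (by simpa [cj_inv_cancel] using le_cj_iff.1 e)
  refine hxi (mem_cj_iff_rel.2 (h.lab_le hm (hm.conj_mem A hA x) h2 h3 h1 ?_).symm)
  exact sup_le hle ((le_sup_right.trans hi).trans (Subgroup.map_mono h.le_M))

/-- An outside member and a suitable conjugate of it generate a minimal configuration. -/
theorem exists_minconf {A : Subgroup H} (hA : A ∈ F) (hc : Cand V A)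
    (hN : A ≤ Subgroup.normalizer (comSup F T g g' : Set H)) (hAE : ¬ A ≤ comSup F T g g')
    {i : H} (hi : A ⊔ comSup F T g g' ≤ cj i (T : Subgroup H)) :
    ∃ x ∈ Subgroup.normalizer (comSup F T g g' : Set H), x ∉ cj i M ∧
      ∃ (TL : Sylow p ↥(A ⊔ cj x A)) (ML : Subgroup ↥(A ⊔ cj x A)),
        MinConf V TL ML (A.subgroupOf (A ⊔ cj x A)) := by
  set E := comSup F T g g' with hE
  obtain ⟨x, ⟨hx, hxi⟩, hmin⟩ := Set.exists_min_image
    {x : H | x ∈ Subgroup.normalizer (E : Set H) ∧ x ∉ cj i M}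
    (fun x => Nat.card ↥(A ⊔ cj x A)) (Set.toFinite _)
    (by obtain ⟨x, hx, hxi⟩ := h.exists_move hm hA hAE hi; exact ⟨x, hx, hxi⟩)
  refine ⟨x, hx, hxi, ?_⟩
  set L := A ⊔ cj x A with hL
  have hAL : A ≤ L := le_sup_left
  have hxL : cj x A ≤ L := le_sup_right
  have hLN : L ≤ Subgroup.normalizer (E : Set H) := sup_le hN fun z hz => by
    have := Subgroup.mul_mem _ (Subgroup.mul_mem _ hx (hN (mem_cj.1 hz))) (Subgroup.inv_mem _ hx)
    simpa [mul_assoc] using this
  have hnot := h.not_le_lab hm hA hN hAE hi hx hxi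
  obtain ⟨P, hP⟩ := ((hm.pgroup A hA).of_equiv (Subgroup.subgroupOfEquivOfLe hAL).symm :
    IsPGroup p ↥(A.subgroupOf L)).exists_le_sylow
  set R := (P : Subgroup ↥L).map L.subtype with hR
  obtain ⟨j, hj⟩ := h.exists_syl (h.isPGroup_sup hm (P.isPGroup'.map L.subtype)
    ((Subgroup.map_subtype_le _).trans hLN))
  have hAR : A ≤ R := fun a ha => ⟨⟨a, hAL ha⟩, hP (Subgroup.mem_subgroupOf.2 ha), rfl⟩
  have hij : Rel M i j := h.uniq_lab hm hA hAE hi ((sup_le_sup_right hAR E).trans hj)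
  have hij' := hij.cj_eq
  have hPM : ∀ z : ↥L, z ∈ (P : Subgroup ↥L) → (z : H) ∈ cj i M := fun z hz =>
    hij' ▸ Subgroup.map_mono h.le_M (hj (Subgroup.mem_sup_left ⟨z, hz, rfl⟩))
  have hgen : ∀ z : ↥L, (z : H) ∉ cj i M → A ⊔ cj (z : H) A = L := fun z hz => by
    refine Subgroup.eq_of_le_of_card_ge (sup_le hAL fun y hy => ?_)
      (hmin _ ⟨hLN z.2, hz⟩)
    have := L.mul_mem (L.mul_mem z.2 (hAL (mem_cj.1 hy))) (L.inv_mem z.2)
    simpa [mul_assoc] using this
  have hgen' : ∀ z : ↥L, z ∉ (cj i M).subgroupOf L →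
      A.subgroupOf L ⊔ cj z (A.subgroupOf L) = ⊤ := by
    intro z hz
    apply Subgroup.map_injective L.subtype_injective
    rw [← MonoidHom.range_eq_map, Subgroup.range_subtype, Subgroup.map_sup, cj, Subgroup.map_map]
    rw [show L.subtype.comp (MulAut.conj z).toMonoidHom =
      (MulAut.conj (z : H)).toMonoidHom.comp L.subtype from rfl, ← Subgroup.map_map,
      Subgroup.subgroupOf_map_subtype, inf_eq_left.2 hAL]
    exact hgen z hz
  have hsmul : ∀ (z : ↥L) (v : V), z • v = (z : H) • v := fun _ _ => rfl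
  have hfixeq : ∀ X : Subgroup H, X ≤ L →
      (fix (X.subgroupOf L) : AddSubgroup V) = fix X := by
    intro X hX
    ext v
    exact ⟨fun hv a ha => hv ⟨a, hX ha⟩ ha, fun hv a ha => hv a ha⟩
  have hcard : ∀ X : Subgroup H, X ≤ L → Nat.card ↥(X.subgroupOf L) = Nat.card ↥X :=
    fun X hX => Nat.card_congr (Subgroup.subgroupOfEquivOfLe hX).toEquiv
  refine ⟨P, (cj i M).subgroupOf L, ?_, fun z hz => Subgroup.mem_subgroupOf.2 (hPM z hz),
    fun K hPK hK z hz => ?_, fun hn => hnot ?_, hP, fun e => hc.ne_bot ?_, fun a ha b hb => ?_,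
    ?_, ?_, ?_, hgen', ?_⟩
  · intro e
    exact hnot ((hxL).trans (Subgroup.subgroupOf_eq_top.1 e))
  · by_contra hzM
    refine hK (eq_top_iff.2 ?_)
    rw [← hgen' z hzM]
    refine sup_le (hP.trans hPK) fun y hy => ?_
    have := K.mul_mem (K.mul_mem hz (hPK (hP (mem_cj.1 hy)))) (K.inv_mem hz)
    simpa [mul_assoc] using this
  · intro z hz
    obtain ⟨Q, hQ⟩ := (((hm.pgroup A hA).map (MulAut.conj x).toMonoidHom).of_equiv
      (Subgroup.subgroupOfEquivOfLe hxL).symm : IsPGroup p ↥((cj x A).subgroupOf L)).exists_le_sylow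
    have := Sylow.unique_of_normal P hn
    have hQ' : (cj x A).subgroupOf L ≤ (P : Subgroup ↥L) := by rwa [Subsingleton.elim P Q]
    exact hPM ⟨z, hxL hz⟩ (hQ' (Subgroup.mem_subgroupOf.2 hz))
  · rw [← inf_eq_left.2 hAL, ← Subgroup.subgroupOf_map_subtype, e, Subgroup.map_bot]
  · exact Subtype.ext (com_self h.faith hc.quad _ ha _ hb)
  · intro a ha v
    rw [hfixeq A hAL]
    exact hc.quad _ ha v
  · rw [hcard A hAL, hfixeq A hAL]
    exact hc.le_card
  · intro A₀ hle hne hneA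
    set K := A₀.map L.subtype with hK
    have hKA : K ≤ A := (Subgroup.map_mono hle).trans
      (by rw [Subgroup.subgroupOf_map_subtype]; exact inf_le_left)
    have hKsub : K.subgroupOf L = A₀ := Subgroup.comap_map_eq_self_of_injective L.subtype_injective _
    have h1 := hc.strict K hKA (fun e => hne (by rw [← hKsub, e, Subgroup.bot_subgroupOf]))
      (fun e => hneA (by rw [← hKsub, e]))
    rw [mu, mu, ← hcard A hAL, ← hfixeq A hAL, ← hcard K (hKA.trans hAL),
      ← hfixeq K (hKA.trans hAL), hKsub] at h1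
    exact h1
  · intro hfix
    obtain ⟨w, hw, hwC⟩ := h.exists_vec j
    have h1 : w ∈ (fix (P : Subgroup ↥L) : AddSubgroup V) := fun z hz =>
      hw _ (hj (Subgroup.mem_sup_left ⟨z, hz, rfl⟩))
    refine hnot fun z hz => hij' ▸ h.stab_le hw hwC ?_
    exact MulAction.mem_stabilizer_iff.2 (hfix h1 ⟨z, hxL hz⟩ (Subgroup.mem_top _))

end PM

/-- Some member of a class of candidates is exact. -/
theorem exists_exact {T : Sylow p H} {M : Subgroup H} (h : PM V T M) {A₀ : Subgroup H}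
    (hc : Cand V A₀) : mu V A₀ = Nat.card V ∧
      ∀ a ∈ A₀, a ≠ 1 → ∀ v : V, a • v = v → v ∈ (fix A₀ : AddSubgroup V) := by
  set F : Set (Subgroup H) := Set.range fun z => cj z A₀ with hF
  have hcand : ∀ A ∈ F, Cand V A := by
    rintro _ ⟨z, rfl⟩
    refine ⟨fun e => hc.ne_bot ((Subgroup.map_eq_bot_iff_of_injective _
      (MulAut.conj z).injective).1 e), quad_cj hc.quad z, by rw [mu_cj]; exact hc.le_card,
      fun B hB hne hneA => ?_⟩
    rw [mu_cj, ← mu_cj z⁻¹ B]
    refine hc.strict _ ((Subgroup.map_mono hB).trans_eq (cj_inv_cancel z A₀)) (fun e => hne ?_)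
      (fun e => hneA ?_)
    · rw [← cj_cancel_inv z B, e, cj, Subgroup.map_bot]
    · rw [← cj_cancel_inv z B, e]
  obtain ⟨g, g', hm⟩ := h.exists_isMax (F := F)
    (by rintro _ ⟨z, rfl⟩ w; exact ⟨w * z, cj_mul w z A₀⟩) ⟨A₀, 1, cj_one A₀⟩
    (fun A hA => isPGroup_of_quad h.faith h.exp (hcand A hA).quad) (fun A hA => (hcand A hA).ne_bot)
  obtain ⟨A, hA, hAS, hN, hAE⟩ := h.exists_outside hm
  obtain ⟨x, -, -, TL, ML, hconf⟩ := h.exists_minconf hm hA (hcand A hA) hN hAE
    (sup_le hAS ((comSup_le F T g g').trans inf_le_left))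
  set L := A ⊔ cj x A with hL
  have hfa : ∀ z : ↥L, (∀ v : V, z • v = v) → z = 1 := fun z hz => Subtype.ext (h.faith _ hz)
  set S := hconf.sys h.exp
  have hAm := hconf.self_mem h.exp
  obtain ⟨B, hB, hne⟩ := hconf.exists_opp h.exp hAm
  have hfix : (fix (A.subgroupOf L) : AddSubgroup V) = fix A := by
    ext v
    exact ⟨fun hv a ha => hv ⟨a, Subgroup.mem_sup_left ha⟩ ha, fun hv a ha => hv a ha⟩
  have hcard : Nat.card ↥(A.subgroupOf L) = Nat.card ↥A :=
    Nat.card_congr (Subgroup.subgroupOfEquivOfLe le_sup_left).toEquiv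
  have e1 := S.card_eq hfa hAm hB hne
  have e2 := (S.card_fix hfa hAm hB hne).1
  rw [hfix, hcard] at e2
  rw [hfix, hcard] at e1
  have hmu : mu V A = Nat.card V := by rw [mu, e2, e1]; ring
  have helt : ∀ a ∈ A, a ≠ 1 → ∀ v : V, a • v = v → v ∈ (fix A : AddSubgroup V) := by
    intro a ha ha1 v hv
    rw [← hfix]
    exact S.fix_elt hfa hAm hB hne (a := (⟨a, Subgroup.mem_sup_left ha⟩ : ↥L)) ha
      (fun e => ha1 (congrArg Subtype.val e)) hv
  obtain ⟨z, rfl⟩ := hA
  refine ⟨(mu_cj z A₀).symm.trans hmu, fun a ha ha1 v hv => ?_⟩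
  have h1 := helt (z * a * z⁻¹) (mem_cj.2 (by simpa [mul_assoc] using ha))
    (fun e => ha1 (by simpa using e)) (z • v) (by simp [mul_smul, hv])
  rw [mem_fix_cj, inv_smul_smul] at h1
  exact h1

/-- Least offenders. -/
structure Conf (V : Type*) [AddCommGroup V] [DistribMulAction H V] (q : ℕ) (T : Sylow p H)
    (M : Subgroup H) : Prop where
  pm : PM V T M
  no_over : NoOver H V
  of_off : ∀ X : Subgroup H, X ≠ ⊥ → Quad V X → Nat.card V ≤ mu V X → Nat.card ↥X ≤ q → Mem V q X
  exists_mem : ∃ A : Subgroup H, Mem V q A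

theorem exists_conf {T : Sylow p H} {M : Subgroup H} (h : PM V T M) {A : Subgroup H}
    (hne : A ≠ ⊥) (hq : Quad V A) (hle : Nat.card V ≤ mu V A) : ∃ q, Conf V q T M := by
  have hno : NoOver H V := by
    by_contra hno
    simp only [NoOver, not_forall, not_le] at hno
    obtain ⟨X₀, hX₀, hX₀lt⟩ := hno
    obtain ⟨X₁, hX₁, hmax⟩ := Set.exists_max_image {X : Subgroup H | Quad V X} (mu V)
      (Set.toFinite _) ⟨X₀, hX₀⟩
    obtain ⟨X, ⟨hXq, hXm⟩, hmin⟩ := Set.exists_min_image
      {X : Subgroup H | Quad V X ∧ mu V X = mu V X₁} (fun X => Nat.card ↥X)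
      (Set.toFinite _) ⟨X₁, hX₁, rfl⟩
    have hlt : Nat.card V < mu V X := hXm ▸ hX₀lt.trans_le (hmax X₀ hX₀)
    have hc : Cand V X := by
      refine ⟨fun e => hlt.ne (by rw [e, mu_bot]), hXq, hlt.le, fun B hB hB0 hBne => ?_⟩
      refine lt_of_le_of_ne (hXm ▸ hmax B (quad_mono hXq hB)) fun e => hBne ?_
      exact Subgroup.eq_of_le_of_card_ge hB (hmin B ⟨quad_mono hXq hB, e.trans hXm⟩)
    exact hlt.ne (exists_exact h hc).1.symm
  obtain ⟨X, ⟨hX0, hXq, hXle⟩, hmin⟩ := Set.exists_min_image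
    {X : Subgroup H | X ≠ ⊥ ∧ Quad V X ∧ Nat.card V ≤ mu V X} (fun X => Nat.card ↥X)
    (Set.toFinite _) ⟨A, hne, hq, hle⟩
  have hof : ∀ Y : Subgroup H, Y ≠ ⊥ → Quad V Y → Nat.card V ≤ mu V Y →
      Nat.card ↥Y ≤ Nat.card ↥X → Mem V (Nat.card ↥X) Y := by
    intro Y hY0 hYq hYle hYc
    have hYc' : Nat.card ↥Y = Nat.card ↥X := le_antisymm hYc (hmin Y ⟨hY0, hYq, hYle⟩)
    have hc : Cand V Y := by
      refine ⟨hY0, hYq, hYle, fun B hB hB0 hBne => ?_⟩
      refine lt_of_lt_of_le ?_ hYle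
      by_contra hBle
      exact hBne (Subgroup.eq_of_le_of_card_ge hB
        (hYc'.trans_le (hmin B ⟨hB0, quad_mono hYq hB, not_lt.1 hBle⟩)))
    obtain ⟨e1, e2⟩ := exists_exact h hc
    refine ⟨?_, hYc', hYq, by rw [← hYc', ← e1, mu], e2⟩
    rw [← hYc']
    have : Nontrivial ↥Y := (Subgroup.nontrivial_iff_ne_bot Y).2 hY0
    exact Finite.one_lt_card
  exact ⟨_, h, hno, hof, X, hof X hX0 hXq hXle le_rfl⟩

end Cfsg.Agent.FFPM
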