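import Cfsg.Agent.Lib.Thompson.FFPM.Natural
import Cfsg.Agent.Lib.Thompson.FFPM.Comp
import Cfsg.Agent.Lib.LinearGroup.Generation

/-!
In a `p`-minimal group with an offender the Sylow fixed points are not central.
-/

set_option autoImplicit false
set_option linter.unusedSectionVars false
set_option linter.style.haveILetI false

namespace Cfsg.Agent.FFPM

open FFSL2
open scoped MatrixGroups

variable {H : Type*} [Group H] [Finite H] {p : ℕ} [hpp : Fact p.Prime]
  {V : Type*} [AddCommGroup V] [Finite V] [DistribMulAction H V]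
  {W : Type*} [AddCommGroup W] [Finite W] [DistribMulAction H W]

theorem eq_zero_of_nsmul {k : ℕ} (hk : Nat.Coprime k p) (hp : ∀ v : V, p • v = 0) {d : V}
    (hd : k • d = 0) : d = 0 := by
  have h1 : addOrderOf d ∣ Nat.gcd k p :=
    Nat.dvd_gcd (addOrderOf_dvd_of_nsmul_eq_zero hd) (addOrderOf_dvd_of_nsmul_eq_zero (hp d))
  rw [hk, Nat.dvd_one, AddMonoid.addOrderOf_eq_one_iff] at h1
  exact h1

/-- A group of order prime to `p` fixes what it fixes modulo a pointwise fixed space. -/
theorem smul_eq_of_sub_mem (hp : ∀ v : V, p • v = 0) {G : Subgroup H}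
    (hG : Nat.Coprime (Nat.card ↥G) p) {U : AddSubgroup V} (hU : U ≤ fix G) {v : V}
    (hv : ∀ g ∈ G, g • v - v ∈ U) {g : H} (hg : g ∈ G) : g • v = v := by
  have key : ∀ k : ℕ, g ^ k • v = v + k • (g • v - v) := by
    intro k
    induction k with
    | zero => simp
    | succ k ih =>
      have e : g • (k • (g • v - v)) = k • (g • v - v) := hU (AddSubgroup.nsmul_mem _ (hv g hg) k) g hg
      rw [pow_succ', mul_smul, ih, smul_add, e, succ_nsmul]
      abel
  have h1 := key (Nat.card ↥G)
  rw [show g ^ Nat.card ↥G = 1 from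
    (SubmonoidClass.coe_pow (⟨g, hg⟩ : ↥G) _).symm.trans (congrArg Subtype.val pow_card_eq_one'),
    one_smul, left_eq_add] at h1
  exact sub_eq_zero.1 (eq_zero_of_nsmul hG hp h1)

/-- A group of order prime to `p` has no nonzero fixed commutator. -/
theorem eq_zero_of_movV_fix (hp : ∀ v : V, p • v = 0) {G : Subgroup H}
    (hG : Nat.Coprime (Nat.card ↥G) p) {u : V} (hu : u ∈ movV V G)
    (hf : ∀ g ∈ G, g • u = u) : u = 0 := by
  classical
  letI : Fintype ↥G := Fintype.ofFinite _
  have h0 : ∑ g : ↥G, (g : H) • u = 0 := by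
    clear hf
    induction hu using AddSubgroup.closure_induction with
    | mem u hu =>
      obtain ⟨z, hz, v, rfl⟩ := hu
      simp only [smul_sub, Finset.sum_sub_distrib, ← mul_smul]
      rw [Fintype.sum_equiv (Equiv.mulRight (⟨z, hz⟩ : ↥G)) (fun g : ↥G => ((g : H) * z) • v)
        (fun g : ↥G => (g : H) • v) (fun g => rfl), sub_self]
    | zero => simp
    | add a b _ _ ha hb => simp only [smul_add, Finset.sum_add_distrib, ha, hb, add_zero]
    | neg a _ ha => simp only [smul_neg, Finset.sum_neg_distrib, ha, neg_zero]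
  rw [Finset.sum_congr rfl fun (g : ↥G) _ => hf g g.2, Finset.sum_const, Finset.card_univ,
    ← Nat.card_eq_fintype_card] at h0
  exact eq_zero_of_nsmul hG hp h0

/-- A family of lifted pencil parts. -/
structure Lift (π : V →+ W) (q : ℕ) (T : Sylow p H) (Γ : Subgroup H → AddSubgroup V) : Prop where
  smul : ∀ A ∈ mems W q T 1, ∀ t ∈ (T : Subgroup H), ∀ u ∈ Γ A, t • u ∈ Γ (cj t A)
  cross : ∀ A ∈ mems W q T 1, ∀ B ∈ mems W q T 1, B ≠ A → ∀ u ∈ Γ A,
    π u ∈ (fix (sSup (line W q T 1 B)) : AddSubgroup W)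
  own : ∀ A ∈ mems W q T 1, ∀ u ∈ Γ A,
    π u ∈ (fix (sSup (line W q T 1 A)) : AddSubgroup W) → u = 0
  exists_ne : ∃ A ∈ mems W q T 1, ∃ u ∈ Γ A, u ≠ 0

theorem false_of_lift {T : Sylow p H} {q : ℕ} {π : V →+ W} (hp : ∀ v : V, p • v = 0)
    (hπ : ∀ v ∈ (fix (T : Subgroup H) : AddSubgroup V), π v = 0)
    {Γ : Subgroup H → AddSubgroup V} (hΓ : Lift π q T Γ) : False := by
  classical
  letI : Fintype (Subgroup H) := Fintype.ofFinite _
  have key : ∀ s : Finset (Subgroup H), (∀ A ∈ s, A ∈ mems W q T 1) →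
      ∀ u ∈ s.sup Γ, π u = 0 → u = 0 := by
    intro s
    induction s using Finset.induction_on with
    | empty => intro _ u hu _; rwa [Finset.sup_empty, AddSubgroup.mem_bot] at hu
    | @insert A s hAs ih =>
      intro hs u hu h0
      rw [Finset.sup_insert, AddSubgroup.mem_sup] at hu
      obtain ⟨a, ha, r, hr, rfl⟩ := hu
      have hA := hs A (Finset.mem_insert_self A s)
      have hr' : π r ∈ (fix (sSup (line W q T 1 A)) : AddSubgroup W) := by
        have hle : s.sup Γ ≤ ((fix (sSup (line W q T 1 A)) : AddSubgroup W)).comap π :=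
          Finset.sup_le fun B hB x hx => hΓ.cross B (hs B (Finset.mem_insert_of_mem hB)) A hA
            (fun e => hAs (e ▸ hB)) x hx
        exact hle hr
      rw [map_add, add_eq_zero_iff_eq_neg] at h0
      have ha0 := hΓ.own A hA a ha (h0 ▸ neg_mem hr')
      rw [ha0, zero_add]
      refine ih (fun B hB => hs B (Finset.mem_insert_of_mem hB)) r hr ?_
      rw [ha0, map_zero, eq_comm, neg_eq_zero] at h0
      exact h0
  set s : Finset (Subgroup H) := (mems W q T 1).toFinset
  set U := s.sup Γ with hU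
  have hUinv : ∀ t ∈ (T : Subgroup H), ∀ u ∈ U, t • u ∈ U := by
    intro t ht
    have hle : U ≤ U.comap (DistribSMul.toAddMonoidHom V t) := Finset.sup_le fun A hA x hx => by
      rw [Set.mem_toFinset] at hA
      refine (Finset.le_sup (f := Γ) (Set.mem_toFinset.2 ?_) : Γ (cj t A) ≤ U) (hΓ.smul A hA t ht x hx)
      exact mems_cj_of_mem (by rwa [cj_one]) hA
    exact fun u hu => hle hu
  obtain ⟨A, hA, u, hu, hu0⟩ := hΓ.exists_ne
  have huU : u ∈ U := (Finset.le_sup (f := Γ) (Set.mem_toFinset.2 hA) : Γ A ≤ U) hu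
  letI : MulAction ↥(T : Subgroup H) ↥U :=
    { smul := fun t x => ⟨(t : H) • (x : V), hUinv t t.2 x x.2⟩
      one_smul := fun x => Subtype.ext (one_smul H (x : V))
      mul_smul := fun a b x => Subtype.ext (mul_smul (a : H) (b : H) (x : V)) }
  have hdvd : p ∣ Nat.card ↥U := by
    have h1 : addOrderOf (⟨u, huU⟩ : ↥U) = p :=
      addOrderOf_eq_prime (Subtype.ext (hp u)) fun e => hu0 (congrArg Subtype.val e)
    exact h1 ▸ addOrderOf_dvd_natCard _
  obtain ⟨b, hb, hne⟩ := T.isPGroup'.exists_fixed_point_of_prime_dvd_card_of_fixed_point ↥U hdvd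
    (a := 0) (fun t => Subtype.ext (smul_zero (t : H)))
  exact hne (Subtype.ext (key s (fun A hA => Set.mem_toFinset.1 hA) b b.2
    (hπ b fun t ht => congrArg Subtype.val (hb ⟨t, ht⟩))).symm)

section

variable {q : ℕ} {T : Sylow p H} {M : Subgroup H} (h : Conf W q T M) {π : V →+ W}
  (hp : ∀ v : V, p • v = 0) (hπs : Function.Surjective π)
  (hπe : ∀ (z : H) (v : V), π (z • v) = z • π v)
  (hπk : ∀ v, π v = 0 → v ∈ (fix (⊤ : Subgroup H) : AddSubgroup V))
include h hp hπs hπe hπk

/-- A subgroup of a pencil of order prime to `p` kills commutators central for the pencil. -/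
theorem own_of_coprime {A : Subgroup H} {G : Subgroup H} (hGL : G ≤ sSup (line W q T 1 A))
    (hG : Nat.Coprime (Nat.card ↥G) p) {u : V} (hu : u ∈ movV V G)
    (hπu : π u ∈ (fix (sSup (line W q T 1 A)) : AddSubgroup W)) : u = 0 :=
  eq_zero_of_movV_fix hp hG hu fun g hg =>
    smul_eq_of_sub_mem hp hG (fix_mono le_top) (fun g' hg' => hπk _ (by
      rw [map_sub, hπe, hπu g' (hGL hg'), sub_self])) hg

/-- Odd characteristic: the central involutions. -/
theorem exists_lift_odd (hodd : p ≠ 2) : ∃ Γ, Lift π q T Γ := by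
  classical
  obtain ⟨A₀, hA₀⟩ := h.mems_nonempty 1
  obtain ⟨n, hn⟩ := card_eq_pow h.pm.faith h.pm.exp hA₀.1
  have hq : 3 ≤ q := by
    have h3 : 3 ≤ p := by have := hpp.out.two_le; omega
    refine h3.trans ?_
    rw [hn]
    refine Nat.le_self_pow (fun e => ?_) p
    have := hA₀.1.two_le
    rw [hn, e, pow_zero] at this
    omega
  let Ω : Subgroup H → Set H := fun A => {z | z ∈ sSup (line W q T 1 A) ∧ z * z = 1 ∧ z ≠ 1}
  let Γ : Subgroup H → AddSubgroup V := fun A =>
    AddSubgroup.closure {u | ∃ z ∈ Ω A, ∃ v : V, u = z • v - v}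
  have hΩ : ∀ A ∈ mems W q T 1, ∃ z₀ ∈ Ω A, (∀ z ∈ Ω A, z = z₀) ∧
      ∃ w : W, z₀ • w - w ∉ (fix (sSup (line W q T 1 A)) : AddSubgroup W) := by
    intro A hA
    obtain ⟨F, _, _, ρ, ψ, hcard, hc⟩ := h.exists_coord hA
    have h2 : (2 : F) ≠ 0 := by
      intro e
      obtain ⟨v, hv⟩ := hc.surj ![1, 0]
      have hp' : (p : F) = 0 := by
        have h1 := congrArg ψ (h.pm.exp v)
        rw [map_nsmul, hv, map_zero] at h1
        simpa using congrFun h1 0
      obtain ⟨k, hk⟩ := hpp.out.eq_two_or_odd'.resolve_left hodd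
      rw [hk, Nat.cast_add, Nat.cast_mul, Nat.cast_two, e, zero_mul, zero_add, Nat.cast_one] at hp'
      exact one_ne_zero hp'
    let N : SL(2, F) := ⟨-1, by rw [Matrix.det_neg, Matrix.det_one]; simp⟩
    have hN : ∀ D : SL(2, F), D * D = 1 → D ≠ 1 → D = N := by
      intro D hD hD1
      have e : (D : Matrix (Fin 2) (Fin 2) F) = (D⁻¹ : SL(2, F)) := by
        rw [inv_eq_of_mul_eq_one_right hD]
      rw [Matrix.SpecialLinearGroup.coe_inv, Matrix.adjugate_fin_two] at e
      have e00 := congrFun (congrFun e 0) 0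
      have e01 := congrFun (congrFun e 0) 1
      have e10 := congrFun (congrFun e 1) 0
      simp at e00 e01 e10
      have c : ∀ {a : F}, a = -a → a = 0 := fun {a} ha => by
        have h' : 2 * a = 0 := by linear_combination ha
        exact (mul_eq_zero.1 h').resolve_left h2
      have d := D.2
      rw [Matrix.det_fin_two, c e01, c e10, mul_zero, sub_zero, ← e00] at d
      rcases mul_self_eq_one_iff.1 d with h1 | h1
      · refine absurd (Subtype.ext ?_) hD1
        ext i j
        fin_cases i <;> fin_cases j <;> simp [c e01, c e10, h1, ← e00]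
      · apply Subtype.ext
        ext i j
        fin_cases i <;> fin_cases j <;> simp [N, c e01, c e10, h1, ← e00]
    have hN1 : N ≠ 1 := fun e => by
      have := congrFun (congrFun (congrArg Subtype.val e) 0) 0
      simp [N] at this
      exact h2 (by linear_combination -this)
    refine ⟨(ρ.symm N : ↥(sSup (line W q T 1 A))), ⟨(ρ.symm N).2, ?_, ?_⟩, fun z hz => ?_, ?_⟩
    · rw [← Subgroup.coe_mul, ← map_mul, show N * N = 1 from Subtype.ext (by rw [Matrix.SpecialLinearGroup.coe_mul]; simp [N]), map_one]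
      rfl
    · rw [Ne, OneMemClass.coe_eq_one, MulEquiv.map_eq_one_iff]
      exact hN1
    · have : ρ ⟨z, hz.1⟩ = N := hN _ (by
        rw [← map_mul, show (⟨z, hz.1⟩ : ↥(sSup (line W q T 1 A))) * ⟨z, hz.1⟩ = 1 from
          Subtype.ext hz.2.1, map_one]) fun e => hz.2.2
            (congrArg Subtype.val ((MulEquiv.map_eq_one_iff ρ).1 e))
      rw [← this, MulEquiv.symm_apply_apply]
    · obtain ⟨w, hw⟩ := hc.surj ![1, 0]
      refine ⟨w, fun hmem => ?_⟩
      rw [← hc.ker, map_sub, hc.map, MulEquiv.apply_symm_apply, hw] at hmem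
      have := congrFun hmem 0
      simp [N] at this
      exact h2 (by linear_combination -this)
  refine ⟨Γ, ⟨fun A hA t ht u hu => ?_, fun A hA B hB hne u hu => ?_, fun A hA u hu hπu => ?_, ?_⟩⟩
  · induction hu using AddSubgroup.closure_induction with
    | mem u hu =>
      obtain ⟨z, ⟨hz, hz2, hz1⟩, v, rfl⟩ := hu
      refine AddSubgroup.subset_closure ⟨t * z * t⁻¹, ⟨?_, ?_, fun e => hz1 ?_⟩, t • v, ?_⟩
      · have hle : sSup (line W q T 1 A) ≤ cj t⁻¹ (sSup (line W q T 1 (cj t A))) :=
          sSup_le fun X hX => le_cj_iff.1 (le_sSup (cj_line (by rwa [cj_one]) hX))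
        simpa [mem_cj, mul_assoc] using mem_cj.1 (hle hz)
      · rw [show t * z * t⁻¹ * (t * z * t⁻¹) = t * (z * z) * t⁻¹ by group, hz2]
        group
      · exact conj_eq_one_iff.1 e
      · rw [smul_sub, mul_smul, mul_smul, inv_smul_smul]
    | zero => rw [smul_zero]; exact zero_mem _
    | add a b _ _ ha hb => rw [smul_add]; exact add_mem ha hb
    | neg a _ ha => rw [smul_neg]; exact neg_mem ha
  · have hcom := h.com_of_not_lk hA (fun hl => hne (h.eq_of_lk hq hA hB hl).symm)
    induction hu using AddSubgroup.closure_induction with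
    | mem u hu =>
      obtain ⟨z, ⟨hz, -, -⟩, v, rfl⟩ := hu
      rw [map_sub, hπe]
      have h1 : movV W (sSup (line W q T 1 A)) ≤ fix (sSup (line W q T 1 B)) := by
        rw [movV_le_iff]
        exact sSup_le fun X hX x hx w => fix_sSup _ fun Y hY =>
          Mem.orth_of_com h.pm.faith h.no_over hX.1 hY.1 (hcom.mono (le_sSup hX) (le_sSup hY)) x hx w
      exact h1 (sub_mem_movV hz _)
    | zero => rw [map_zero]; exact zero_mem _
    | add a b _ _ ha hb => rw [map_add]; exact add_mem ha hb
    | neg a _ ha => rw [map_neg]; exact neg_mem ha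
  · obtain ⟨z₀, hz₀, huniq, -⟩ := hΩ A hA
    refine own_of_coprime h hp hπs hπe hπk (G := Subgroup.zpowers z₀)
      (Subgroup.zpowers_le.2 hz₀.1) ?_ ?_ hπu
    · rw [Nat.card_zpowers, orderOf_eq_prime (p := 2) (by rw [pow_two]; exact hz₀.2.1) hz₀.2.2]
      exact (Nat.coprime_primes Nat.prime_two hpp.out).2 (Ne.symm hodd)
    · refine (AddSubgroup.closure_le _).2 ?_ hu
      rintro _ ⟨z, hz, v, rfl⟩
      exact sub_mem_movV (huniq z hz ▸ Subgroup.mem_zpowers z₀) v
  · obtain ⟨z₀, hz₀, -, w, hw⟩ := hΩ A₀ hA₀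
    obtain ⟨v, rfl⟩ := hπs w
    refine ⟨A₀, hA₀, z₀ • v - v, AddSubgroup.subset_closure ⟨z₀, hz₀, v, rfl⟩, fun e => hw ?_⟩
    rw [← hπe, ← map_sub, e, map_zero]
    exact zero_mem _

/-- Characteristic two, offenders of order at least four: the tori. -/
theorem exists_lift_big (hp2 : p = 2) (hq : 3 ≤ q) : ∃ Γ, Lift π q T Γ := by
  classical
  have hf := h.pm.faith
  let D : Subgroup H → AddSubgroup V := fun A => (movV W A).comap π
  let Γ : Subgroup H → AddSubgroup V := fun A => AddSubgroup.closure
    {u | ∃ z, z ∈ sSup (line W q T 1 A) ∧ cj z A = A ∧ ∃ v ∈ D A, u = z • v - v}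
  have htwo : ∀ v : V, v + v = 0 := fun v => by
    have := hp v
    rwa [hp2, two_nsmul] at this
  have hmovfix : ∀ {A : Subgroup H}, A ∈ mems W q T 1 → movV W A ≤ fix A := fun {A} hA => by
    rw [movV_le_iff]
    exact fun a ha w => hA.1.quad a ha w
  have hstable : ∀ {A : Subgroup H} {z : H}, cj z A = A → ∀ v ∈ D A, z • v ∈ D A := by
    intro A z hz v hv
    show π (z • v) ∈ movV W A
    rw [hπe]
    have hv' : π v ∈ movV W A := hv
    generalize π v = w₀ at hv'
    induction hv' using AddSubgroup.closure_induction with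
    | mem u hu =>
      obtain ⟨a, ha, w, rfl⟩ := hu
      rw [smul_sub]
      have e : z • a • w = (z * a * z⁻¹) • (z • w) := by rw [mul_smul, mul_smul, inv_smul_smul]
      rw [e]
      exact sub_mem_movV (hz ▸ mem_cj.2 (by simpa [mul_assoc] using ha)) _
    | zero => rw [smul_zero]; exact zero_mem _
    | add a b _ _ ha hb => rw [smul_add]; exact add_mem ha hb
    | neg a _ ha => rw [smul_neg]; exact neg_mem ha
  -- the member itself fixes the preimage of its commutators
  have hδ : ∀ {A : Subgroup H}, A ∈ mems W q T 1 → ∀ a ∈ A, ∀ v ∈ D A, a • v = v := by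
    intro A hA a ha v hv
    by_cases ha1 : a = 1
    · rw [ha1, one_smul]
    have hAl := h.self_mem_line hA
    obtain ⟨F, _, _, ρ, ψ, hcard, hc⟩ := h.exists_coord hA
    have hperf : commutator ↥(sSup (line W q T 1 A)) = ⊤ := by
      have hsl : commutator SL(2, F) = ⊤ := Cfsg.Agent.LinearGroup.commutator_SL_eq_top' fun _ => by
        by_contra! hall
        have hsub : (Finset.univ : Finset F) ⊆ {0, 1, -1} := fun a _ => by
          by_cases ha : a = 0
          · simp [ha]
          · rcases sq_eq_one_iff.1 (hall a ha) with e | e <;> simp [e]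
        have h4 := Finset.card_le_card hsub
        rw [Finset.card_univ, hcard] at h4
        obtain ⟨n, hn⟩ := card_eq_pow hf h.pm.exp hA.1
        have h5 : ({0, 1, -1} : Finset F).card ≤ 3 := Finset.card_le_three
        rcases n with - | - | n
        · rw [pow_zero] at hn; omega
        · rw [zero_add, pow_one, hp2] at hn; omega
        · rw [hp2, pow_add] at hn
          have := Nat.one_le_two_pow (n := n)
          omega
      have := congrArg (Subgroup.map ρ.symm.toMonoidHom) hsl
      rw [Subgroup.map_top_of_surjective ρ.symm.toMonoidHom ρ.symm.surjective] at this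
      rw [← this, commutator_def, commutator_def, Subgroup.map_commutator,
        Subgroup.map_top_of_surjective ρ.symm.toMonoidHom ρ.symm.surjective]
    have hLfix : ∀ u : V, π u ∈ (fix (sSup (line W q T 1 A)) : AddSubgroup W) →
        ∀ z ∈ sSup (line W q T 1 A), z • u = u := by
      intro u hu
      have hd : ∀ z ∈ sSup (line W q T 1 A), z • u - u ∈ (fix (⊤ : Subgroup H) : AddSubgroup V) :=
        fun z hz => hπk _ (by rw [map_sub, hπe, hu z hz, sub_self])
      let φ : ↥(sSup (line W q T 1 A)) →* Multiplicative V :=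
        MonoidHom.mk' (fun z => Multiplicative.ofAdd ((z : H) • u - u)) fun z z' => by
          rw [← ofAdd_add]
          congr 1
          have h1 : (z : H) • ((z' : H) • u - u) = (z' : H) • u - u := hd _ z'.2 _ (Subgroup.mem_top _)
          rw [smul_sub, sub_eq_iff_eq_add, ← mul_smul] at h1
          rw [Subgroup.coe_mul, h1]
          abel
      have hker : commutator ↥(sSup (line W q T 1 A)) ≤ φ.ker := Abelianization.commutator_subset_ker φ
      rw [hperf, top_le_iff] at hker
      intro z hz
      have := hker.ge (Subgroup.mem_top ⟨z, hz⟩)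
      rw [MonoidHom.mem_ker] at this
      exact sub_eq_zero.1 (show z • u - u = 0 from congrArg Multiplicative.toAdd this)
    obtain ⟨w, hw⟩ := h.exists_eq_sub hA hc hAl ha ha1 (hmovfix hA hv)
    obtain ⟨w', rfl⟩ := hπs w
    have haa : a * a = 1 := by
      have := pow_p hf h.pm.exp hA.1.quad ha
      rwa [hp2, pow_two] at this
    have h1 : a • (v - (a • w' - w')) = v - (a • w' - w') :=
      hLfix _ (by rw [map_sub, map_sub, hπe]; exact hw) a (le_sSup hAl ha)
    have h2 : a • (a • w' - w') = a • w' - w' := by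
      rw [smul_sub, ← mul_smul, haa, one_smul]
      linear_combination (norm := abel_nf)
        htwo (w' - a • w')
    rw [smul_sub, h2, sub_left_inj] at h1
    exact h1
  refine ⟨Γ, ⟨fun A hA t ht u hu => ?_, fun A hA B hB hne u hu => ?_, fun A hA u hu hπu => ?_, ?_⟩⟩
  · induction hu using AddSubgroup.closure_induction with
    | mem u hu =>
      obtain ⟨z, hz, hzA, v, hv, rfl⟩ := hu
      refine AddSubgroup.subset_closure ⟨t * z * t⁻¹, ?_, ?_, t • v, ?_, ?_⟩
      · have hle : sSup (line W q T 1 A) ≤ cj t⁻¹ (sSup (line W q T 1 (cj t A))) :=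
          sSup_le fun X hX => le_cj_iff.1 (le_sSup (cj_line (by rwa [cj_one]) hX))
        simpa [mem_cj, mul_assoc] using mem_cj.1 (hle hz)
      · rw [← cj_mul, show t * z * t⁻¹ * t = t * z by group, cj_mul, hzA]
      · show π (t • v) ∈ movV W (cj t A)
        rw [hπe]
        have hv' : π v ∈ movV W A := hv
        generalize π v = w₀ at hv'
        induction hv' using AddSubgroup.closure_induction with
        | mem u hu =>
          obtain ⟨a, ha, w, rfl⟩ := hu
          rw [smul_sub]
          have e : t • a • w = (t * a * t⁻¹) • (t • w) := by rw [mul_smul, mul_smul, inv_smul_smul]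
          rw [e]
          exact sub_mem_movV (mem_cj.2 (by simpa [mul_assoc] using ha)) _
        | zero => rw [smul_zero]; exact zero_mem _
        | add a b _ _ ha hb => rw [smul_add]; exact add_mem ha hb
        | neg a _ ha => rw [smul_neg]; exact neg_mem ha
      · rw [smul_sub, mul_smul, mul_smul, inv_smul_smul]
    | zero => rw [smul_zero]; exact zero_mem _
    | add a b _ _ ha hb => rw [smul_add]; exact add_mem ha hb
    | neg a _ ha => rw [smul_neg]; exact neg_mem ha
  · have h1 : movV W A ≤ fix (sSup (line W q T 1 B)) := by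
      rw [movV_le_iff]
      exact fun a ha w => fix_sSup _ fun Y hY => Mem.orth_of_com hf h.no_over hA.1 hY.1
        ((hY.2.1 A hA hne.symm).symm) a ha w
    induction hu using AddSubgroup.closure_induction with
    | mem u hu =>
      obtain ⟨z, -, hzA, v, hv, rfl⟩ := hu
      rw [map_sub]
      exact sub_mem (h1 (hstable hzA v hv)) (h1 hv)
    | zero => rw [map_zero]; exact zero_mem _
    | add a b _ _ ha hb => rw [map_add]; exact add_mem ha hb
    | neg a _ ha => rw [map_neg]; exact neg_mem ha
  · have hAl := h.self_mem_line hA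
    obtain ⟨X, hX, hXA, -⟩ := h.exists_third hA (Y := A) hAl
    obtain ⟨F, _, _, ρ, ψ, hcard, hc⟩ := h.exists_coord hA
    let G : Subgroup H := sSup (line W q T 1 A) ⊓
      Subgroup.normalizer (A : Set H) ⊓ Subgroup.normalizer (X : Set H)
    have hGc : Nat.Coprime (Nat.card ↥G) p := by
      rw [Nat.coprime_comm, hpp.out.coprime_iff_not_dvd]
      intro hd
      obtain ⟨d, hdo⟩ := exists_prime_orderOf_dvd_card' (G := ↥G) p hd
      have hd1 : (d : H) = 1 := by
        refine h.eq_one_of_stab hA hc hAl hX hXA.symm d.2.1.1 ?_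
          (cj_eq_of_mem_normalizer d.2.1.2) (cj_eq_of_mem_normalizer d.2.2)
        rw [← SubmonoidClass.coe_pow, ← hdo, pow_orderOf_eq_one, OneMemClass.coe_one]
      rw [show d = 1 from Subtype.ext hd1, orderOf_one] at hdo
      exact hpp.out.one_lt.ne hdo
    refine own_of_coprime h hp hπs hπe hπk (G := G) (inf_le_left.trans inf_le_left) hGc ?_ hπu
    refine (AddSubgroup.closure_le _).2 ?_ hu
    rintro _ ⟨n, hn, hnA, v, hv, rfl⟩
    have hnX : cj n X ∈ line W q T 1 A := by
      have h1 : cj n X ≠ A := fun e => hXA (cj_injective n (e.trans hnA.symm))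
      refine ⟨hX.1.conj n, fun B hB hne => ?_, fun hm => ?_⟩
      · have hc' : Com (sSup (line W q T 1 A)) B := com_sSup fun Y hY => hY.2.1 B hB hne
        rw [← cj_eq_of_com hc' hn]
        exact com_cj (hX.2.1 B hB hne)
      · by_cases e : cj n X = A
        · exact e
        · exfalso
          have hc' : Com (sSup (line W q T 1 A)) (cj n X) := com_sSup fun Y hY => hY.2.1 _ hm e
          have e1 : X = cj n X := by
            have := cj_eq_of_com hc' ((sSup (line W q T 1 A)).inv_mem hn)
            rwa [cj_inv_cancel] at this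
          exact hXA (hX.2.2 (e1 ▸ hm))
    obtain ⟨a, ha, e⟩ := h.orbit_line hA hAl hX hnX hXA.symm
      (fun e => hXA (cj_injective n (e.trans hnA.symm)))
    have hg : a⁻¹ * n ∈ G := by
      refine ⟨⟨Subgroup.mul_mem _ (Subgroup.inv_mem _ (le_sSup hAl ha)) hn,
        le_normalizer_of_cj (X := Subgroup.zpowers (a⁻¹ * n)) (fun x hx => ?_)
          (Subgroup.mem_zpowers _)⟩,
        le_normalizer_of_cj (X := Subgroup.zpowers (a⁻¹ * n)) (fun x hx => ?_)
          (Subgroup.mem_zpowers _)⟩
      · have hle : Subgroup.zpowers (a⁻¹ * n) ≤ Subgroup.normalizer (A : Set H) := by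
          refine Subgroup.zpowers_le.2 (Subgroup.mul_mem _ (Subgroup.le_normalizer (A.inv_mem ha)) ?_)
          exact le_normalizer_of_cj (X := Subgroup.zpowers n) (fun y hy => by
            obtain ⟨k, rfl⟩ := mem_powers_iff_mem_zpowers.2 hy
            induction k with
            | zero => simp only [pow_zero, cj_one]
            | succ k ih => beta_reduce at ih ⊢; rw [pow_succ, cj_mul, hnA, ih (Subgroup.pow_mem _ (Subgroup.mem_zpowers n) k)])
            (Subgroup.mem_zpowers n)
        exact cj_eq_of_mem_normalizer (hle hx)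
      · obtain ⟨k, rfl⟩ := mem_powers_iff_mem_zpowers.2 hx
        have hbase : cj (a⁻¹ * n) X = X := by rw [cj_mul, e, cj_inv_cancel]
        induction k with
        | zero => simp only [pow_zero, cj_one]
        | succ k ih => beta_reduce at ih ⊢; rw [pow_succ, cj_mul, hbase, ih (Subgroup.pow_mem _ (Subgroup.mem_zpowers _) k)]
    have hgA : cj (a⁻¹ * n) A = A := by rw [cj_mul, hnA, cj_self (A.inv_mem ha)]
    have hgv : n • v = (a⁻¹ * n) • v := by
      conv_lhs => rw [show n = a * (a⁻¹ * n) by group, mul_smul,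
        hδ hA a ha _ (hstable hgA v hv)]
    rw [hgv]
    exact sub_mem_movV hg v
  · obtain ⟨A, hA⟩ := h.mems_nonempty 1
    have hAl := h.self_mem_line hA
    obtain ⟨z, r, -, -, -, hz, hzA, hfree⟩ := h.exists_torus hA hq
    obtain ⟨a, ha, ha1⟩ := hA.1.exists_ne_one
    obtain ⟨F, _, _, ρ, ψ, hcard, hc⟩ := h.exists_coord hA
    obtain ⟨u₀, -, hne0, -⟩ := h.coord_line hA hc hAl ha ha1
    obtain ⟨v, hv⟩ := hπs (a • u₀ - u₀)
    have hvD : v ∈ D A := by show π v ∈ movV W A; rw [hv]; exact sub_mem_movV ha _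
    refine ⟨A, hA, z • v - v, AddSubgroup.subset_closure ⟨z, hz, hzA, v, hvD, rfl⟩, fun e => hne0 ?_⟩
    refine (hc.ker _).2 (hfree _ ?_)
    rw [← hv, ← hπe, ← map_sub, e, map_zero]
    exact zero_mem _

end

/-- Offenders of order two: the three-cycles. -/
theorem exists_lift_two {T : Sylow p H} {M : Subgroup H} (h : Conf W 2 T M) {π : V →+ W}
    (hp : ∀ v : V, p • v = 0) (hπs : Function.Surjective π)
    (hπe : ∀ (z : H) (v : V), π (z • v) = z • π v)
    (hπk : ∀ v, π v = 0 → v ∈ (fix (⊤ : Subgroup H) : AddSubgroup V)) :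
    ∃ Γ, Lift π 2 T Γ := by
  classical
  have hf := h.pm.faith
  obtain ⟨A₀, hA₀⟩ := h.mems_nonempty 1
  obtain ⟨n, hn⟩ := card_eq_pow hf h.pm.exp hA₀.1
  have hp2 : p = 2 := by
    refine ((Nat.Prime.dvd_iff_eq Nat.prime_two hpp.out.ne_one).1 ?_).symm
    rw [hn]
    refine dvd_pow_self p fun e => ?_
    rw [e, pow_zero] at hn
    omega
  have htwo : ∀ w : W, w + w = 0 := fun w => by
    have := h.pm.exp w
    rwa [hp2, two_nsmul] at this
  have htwoV : ∀ v : V, v + v = 0 := fun v => by
    have := hp v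
    rwa [hp2, two_nsmul] at this
  let Γ : Subgroup H → AddSubgroup V := fun A => AddSubgroup.closure
    {u | ∃ X, Star W T 1 A X ∧ ∃ v, (π v = 0 ∨ π v = rv W A) ∧
      u = (el A * el X) • v + (el X * el A) • v}
  -- the effect on the transvection vector
  have hval : ∀ {A X : Subgroup H}, Star W T 1 A X →
      (el A * el X) • rv W A + (el X * el A) • rv W A = rv W A := by
    intro A X hX
    obtain ⟨hA, hXl, hne⟩ := hX
    have hnc := h.not_com_line hA hXl (h.self_mem_line hA) hne
    have e1 := hXl.1.smul_rv_noncom hf h.no_over hA.1 hnc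
    have e2 := hA.1.smul_rv_noncom hf h.no_over hXl.1 fun e => hnc e.symm
    have e3 : el A • rv W A = rv W A := hA.1.mem_fix_iff.1 hA.1.rv_mem
    simp only [mul_smul, e1, e3, smul_add, e2]
    linear_combination (norm := abel_nf)
      htwo (rv W A) + htwo (rv W X)
  have himage : ∀ {A : Subgroup H}, ∀ u ∈ Γ A, π u = 0 ∨ π u = rv W A := by
    intro A u hu
    induction hu using AddSubgroup.closure_induction with
    | mem u hu =>
      obtain ⟨X, hX, v, hv, rfl⟩ := hu
      rw [map_add, hπe, hπe]
      rcases hv with hv | hv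
      · left; rw [hv, smul_zero, smul_zero, add_zero]
      · right; rw [hv, hval hX]
    | zero => left; exact map_zero π
    | add a b _ _ ha hb =>
      rw [map_add]
      rcases ha with ha | ha <;> rcases hb with hb | hb <;> rw [ha, hb]
      · left; rw [add_zero]
      · right; rw [zero_add]
      · right; rw [add_zero]
      · left; exact htwo _
    | neg a _ ha =>
      rw [map_neg]
      rcases ha with ha | ha <;> rw [ha]
      · left; exact neg_zero
      · right; exact neg_eq_iff_add_eq_zero.2 (htwo _)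
  refine ⟨Γ, ⟨fun A hA t ht u hu => ?_, fun A hA B hB hne u hu => ?_, fun A hA u hu hπu => ?_, ?_⟩⟩
  · have ht' : t ∈ cj 1 (T : Subgroup H) := by rwa [cj_one]
    induction hu using AddSubgroup.closure_induction with
    | mem u hu =>
      obtain ⟨X, hX, v, hv, rfl⟩ := hu
      refine AddSubgroup.subset_closure ⟨cj t X, ⟨mems_cj_of_mem ht' hA, cj_line ht' hX.2.1,
        fun e => hX.2.2 (cj_injective t e)⟩, t • v, ?_, ?_⟩
      · rw [hπe, hA.1.rv_cj]
        rcases hv with hv | hv <;> rw [hv]
        · left; rw [smul_zero]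
        · right; rfl
      · rw [hA.1.el_cj, hX.2.1.1.el_cj, smul_add]
        simp only [mul_smul, inv_smul_smul]
    | zero => rw [smul_zero]; exact zero_mem _
    | add a b _ _ ha hb => rw [smul_add]; exact add_mem ha hb
    | neg a _ ha => rw [smul_neg]; exact neg_mem ha
  · rcases himage u hu with e | e <;> rw [e]
    · exact zero_mem _
    · refine fix_sSup _ fun Y hY => hY.1.mem_fix_iff.2 ?_
      exact hY.1.smul_rv_com hf h.no_over hA.1 (hY.2.1 A hA hne.symm)
  · obtain ⟨X, hX⟩ := h.exists_star hA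
    have hAl := h.self_mem_line hA
    obtain ⟨-, -, hall, -, -⟩ := h.star_swap hX
    set c := el A * el X with hc
    have hAA := hA.1.el_smul_el
    have hXX := hX.2.1.1.el_smul_el
    have hc' : c⁻¹ = el X * el A := by
      rw [hc, mul_inv_rev, inv_eq_of_mul_eq_one_right hAA, inv_eq_of_mul_eq_one_right hXX]
    have hcL : c ∈ sSup (line W 2 T 1 A) :=
      Subgroup.mul_mem _ (le_sSup hAl hA.1.el_spec.1) (le_sSup hX.2.1 hX.2.1.1.el_spec.1)
    have hc3 : c ^ 3 = 1 := by
      obtain ⟨F, _, i2, ρ, ψ, hcard, -⟩ := h.exists_coord hA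
      have hxa : cj (el X) A = cj (el A) X := by
        obtain ⟨hA2, -⟩ := h.star_swap hX
        have h1 : Star W T 1 A (cj (el X) A) := ⟨hA,
          h.line_conj hA hX.2.1 hAl hX.2.1.1.el_spec.1,
          fun e => hX.2.1.1.el_spec.2 (h.free_line hA hX.2.1 hAl hX.2.2 hX.2.1.1.el_spec.1 e)⟩
        rcases hall _ h1 with e | e
        · exact absurd (cj_injective (el X) (e.trans (cj_self hX.2.1.1.el_spec.1).symm)) hX.2.2.symm
        · exact e
      have e1 := congrArg el hxa
      rw [hA.1.el_cj, hX.2.1.1.el_cj, inv_eq_of_mul_eq_one_right hAA,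
        inv_eq_of_mul_eq_one_right hXX] at e1
      calc c ^ 3 = el A * (el X * el A * el X) * (el A * el X) := by
            rw [hc, pow_three]; simp only [mul_assoc]
        _ = el A * (el A * el X * el A) * (el A * el X) := by rw [e1]
        _ = el A * el A * el X * (el A * el A) * el X := by simp only [mul_assoc]
        _ = 1 := by rw [hAA, one_mul, mul_one, hXX]
    refine own_of_coprime h hp hπs hπe hπk (G := Subgroup.zpowers c) (Subgroup.zpowers_le.2 hcL)
      ?_ ?_ hπu
    · rw [Nat.card_zpowers, hp2]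
      exact Nat.Coprime.coprime_dvd_left (orderOf_dvd_of_pow_eq_one hc3) (by norm_num)
    · refine (AddSubgroup.closure_le _).2 ?_ hu
      rintro _ ⟨Y, hY, v, -, rfl⟩
      have key : ∀ w : V, c • w + c⁻¹ • w ∈ movV V (Subgroup.zpowers c) := fun w => by
        have := add_mem (sub_mem_movV (X := Subgroup.zpowers c) (Subgroup.mem_zpowers c) w)
          (sub_mem_movV (X := Subgroup.zpowers c) (Subgroup.inv_mem _ (Subgroup.mem_zpowers c)) w)
        convert this using 1
        linear_combination (norm := abel_nf) htwoV w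
      rcases hall Y hY with rfl | rfl
      · rw [← hc']; exact key v
      · rw [hX.2.1.1.el_cj, inv_eq_of_mul_eq_one_right hAA,
          show el A * (el A * el X * el A) = el X * el A by
            rw [← mul_assoc, ← mul_assoc, hAA, one_mul],
          show el A * el X * el A * el A = el A * el X by rw [mul_assoc, hAA, mul_one], add_comm,
          ← hc', ← hc]
        exact key v
  · obtain ⟨X, hX⟩ := h.exists_star hA₀
    obtain ⟨v, hv⟩ := hπs (rv W A₀)
    refine ⟨A₀, hA₀, _, AddSubgroup.subset_closure ⟨X, hX, v, Or.inr hv, rfl⟩, fun e => ?_⟩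
    have h1 := congrArg π e
    rw [map_add, hπe, hπe, hv, hval hX, map_zero] at h1
    exact hA₀.1.rv_spec.1 h1

/-- The action on a quotient by a centralised submodule. -/
theorem exists_quotient (Z : AddSubgroup V) (hZ : ∀ (z : H), ∀ v ∈ Z, z • v = v) :
    ∃ (_ : DistribMulAction H (V ⧸ Z)),
      ∀ (z : H) (v : V), z • (v : V ⧸ Z) = ((z • v : V) : V ⧸ Z) := by
  let act : H →* AddMonoid.End (V ⧸ Z) :=
    { toFun := fun g => QuotientAddGroup.map Z Z (DistribMulAction.toAddMonoidEnd H V g)
        (fun v hv => by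
          show g • v ∈ Z
          rw [hZ g v hv]
          exact hv)
      map_one' := AddMonoidHom.ext fun v => by
        induction v using QuotientAddGroup.induction_on with
        | H v => exact congrArg QuotientAddGroup.mk (one_smul H v)
      map_mul' := fun a b => AddMonoidHom.ext fun v => by
        induction v using QuotientAddGroup.induction_on with
        | H v => exact congrArg QuotientAddGroup.mk (mul_smul a b v) }
  exact ⟨{ smul := fun g v => act g v
           one_smul := fun v => by show act 1 v = v; rw [map_one]; rfl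
           mul_smul := fun a b v => by show act (a * b) v = act a (act b v); rw [map_mul]; rfl
           smul_zero := fun g => map_zero (act g)
           smul_add := fun g v w => map_add (act g) v w }, fun _ _ => rfl⟩

/-- The Sylow fixed points are not central. -/
theorem fix_T_not_le : ∀ (n : ℕ) (V : Type*) [AddCommGroup V] [Finite V] [DistribMulAction H V],
    Nat.card V ≤ n → ∀ (T : Sylow p H) (M : Subgroup H), M ≠ ⊤ → (T : Subgroup H) ≤ M →
    (∀ K : Subgroup H, (T : Subgroup H) ≤ K → K ≠ ⊤ → K ≤ M) → ¬ (T : Subgroup H).Normal →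
    (∀ Q : Subgroup H, Q.Normal → IsPGroup p ↥Q → Q = ⊥) →
    (∀ z : H, (∀ v : V, z • v = v) → z = 1) → (∀ v : V, p • v = 0) →
    (∃ B : Subgroup H, B ≠ ⊥ ∧ Quad V B ∧ Nat.card V ≤ mu V B) →
    ¬ (fix (T : Subgroup H) : AddSubgroup V) ≤ fix (⊤ : Subgroup H) := by
  intro n
  induction n with
  | zero =>
    intro V _ _ _ hn
    have : 0 < Nat.card V := Nat.card_pos
    omega
  | succ n ih =>
    intro V _ _ _ hn T M hM hTM huniq hTn hcore hfaith hp hB hle
    set Z : AddSubgroup V := fix (⊤ : Subgroup H) with hZ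
    have hZfix : ∀ (z : H), ∀ v ∈ Z, z • v = v := fun z v hv => hv z (Subgroup.mem_top z)
    obtain ⟨inst, hq⟩ := exists_quotient Z hZfix
    letI : DistribMulAction H (V ⧸ Z) := inst
    have hmk : ∀ v : V, (v : V ⧸ Z) = 0 ↔ v ∈ Z := fun v => QuotientAddGroup.eq_zero_iff v
    obtain ⟨B, hBne, hBq, hBle⟩ := hB
    have hfq : ∀ z : H, (∀ v : V ⧸ Z, z • v = v) → z = 1 := by
      intro z hz
      have hQq : Quad V (disp Z : Subgroup H) := fun x hx v y hy => hy.2 _ (hx.1 v)
      have hQn : (disp Z : Subgroup H).Normal := ⟨fun x hx g => by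
        refine ⟨fun v => ?_, fun u hu => ?_⟩
        · have h1 := hx.1 (g⁻¹ • v)
          rw [mul_smul, mul_smul, show g • x • g⁻¹ • v - v = g • (x • g⁻¹ • v - g⁻¹ • v) by
            rw [smul_sub, smul_inv_smul], hZfix g _ h1]
          exact h1
        · exact hZfix _ u hu⟩
      have hbot := hcore _ hQn (isPGroup_of_quad hfaith hp hQq)
      have hzQ : z ∈ (disp Z : Subgroup H) := ⟨fun v => by
        rw [← hmk, QuotientAddGroup.mk_sub, ← hq, hz, sub_self], hZfix z⟩
      rwa [hbot, Subgroup.mem_bot] at hzQ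
    have hpq : ∀ v : V ⧸ Z, p • v = 0 := fun v => by
      induction v using QuotientAddGroup.induction_on with
      | H v => rw [← QuotientAddGroup.mk_nsmul, hp]; rfl
    have hBq' : Quad (V ⧸ Z) B := fun b hb v => by
      induction v using QuotientAddGroup.induction_on with
      | H v =>
        intro c hc
        rw [hq, ← QuotientAddGroup.mk_sub, hq, hBq b hb v c hc]
    have hBle' : Nat.card (V ⧸ Z) ≤ mu (V ⧸ Z) B := by
      have h1 := AddSubgroup.card_eq_card_quotient_mul_card_addSubgroup Z
      have h2 : Nat.card ↥(fix B : AddSubgroup V) ≤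
          Nat.card ↥(fix B : AddSubgroup (V ⧸ Z)) * Nat.card ↥Z := by
        rw [← Nat.card_prod]
        let sec : V ⧸ Z → V := fun w => (QuotientAddGroup.mk_surjective w).choose
        have hsec : ∀ w, (sec w : V ⧸ Z) = w := fun w => (QuotientAddGroup.mk_surjective w).choose_spec
        refine Nat.card_le_card_of_injective (fun v : ↥(fix B : AddSubgroup V) =>
          ((⟨((v : V) : V ⧸ Z), fun b hb => by rw [hq, v.2 b hb]⟩ :
              ↥(fix B : AddSubgroup (V ⧸ Z))),
            (⟨(v : V) - sec ((v : V) : V ⧸ Z), (hmk _).1 (by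
              rw [QuotientAddGroup.mk_sub, hsec, sub_self])⟩ : ↥Z))) fun v w e => ?_
        have e1 : ((v : V) : V ⧸ Z) = ((w : V) : V ⧸ Z) := congrArg (fun x => (x.1 : V ⧸ Z)) e
        have e2 : (v : V) - sec ((v : V) : V ⧸ Z) = (w : V) - sec ((w : V) : V ⧸ Z) :=
          congrArg (fun x => (x.2 : V)) e
        rw [e1, sub_left_inj] at e2
        exact Subtype.ext e2
      refine Nat.le_of_mul_le_mul_right ?_ (Nat.card_pos (α := ↥Z))
      rw [← h1, mu, mul_assoc]
      exact hBle.trans (Nat.mul_le_mul_left _ h2)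
    have hlt : Nat.card (V ⧸ Z) ≤ n := by
      obtain ⟨b, -, hb1⟩ : ∃ b ∈ B, b ≠ 1 := by
        by_contra! h1
        exact hBne ((Subgroup.eq_bot_iff_forall _).2 h1)
      obtain ⟨v₀, hv₀⟩ : ∃ v : V, v ≠ 0 := by
        by_contra! h1
        exact hb1 (hfaith b fun v => by rw [h1 v, smul_zero])
      letI : MulAction ↥(T : Subgroup H) V := MulAction.compHom V (T : Subgroup H).subtype
      have hdvd : p ∣ Nat.card V :=
        addOrderOf_eq_prime (hp v₀) hv₀ ▸ addOrderOf_dvd_natCard v₀
      obtain ⟨w, hw, hw0⟩ := T.isPGroup'.exists_fixed_point_of_prime_dvd_card_of_fixed_point V hdvd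
        (a := 0) (fun t => smul_zero (t : H))
      have hwZ : w ∈ Z := hle fun t ht => hw ⟨t, ht⟩
      have h1 := AddSubgroup.card_eq_card_quotient_mul_card_addSubgroup Z
      have h2 : 1 < Nat.card ↥Z := by
        haveI : Nontrivial ↥Z := ⟨⟨⟨w, hwZ⟩, 0, fun e => hw0 (congrArg Subtype.val e).symm⟩⟩
        exact Finite.one_lt_card
      have h3 : 0 < Nat.card (V ⧸ Z) := Nat.card_pos
      have h4 : Nat.card (V ⧸ Z) * 2 ≤ Nat.card V := h1 ▸ Nat.mul_le_mul_left _ h2
      omega
    have hpm : PM (V ⧸ Z) T M := ⟨hM, hTM, huniq, hTn, hcore, hfq, hpq,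
      ih (V ⧸ Z) hlt T M hM hTM huniq hTn hcore hfq hpq ⟨B, hBne, hBq', hBle'⟩⟩
    obtain ⟨q, hconf⟩ := exists_conf hpm hBne hBq' hBle'
    have hπe : ∀ (z : H) (v : V), QuotientAddGroup.mk' Z (z • v) = z • QuotientAddGroup.mk' Z v :=
      fun z v => (hq z v).symm
    have hπk : ∀ v, QuotientAddGroup.mk' Z v = 0 → v ∈ (fix (⊤ : Subgroup H) : AddSubgroup V) :=
      fun v hv => (hmk v).1 hv
    have hπs := QuotientAddGroup.mk'_surjective Z
    obtain ⟨Γ, hΓ⟩ : ∃ Γ, Lift (QuotientAddGroup.mk' Z) q T Γ := by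
      by_cases hodd : p = 2
      swap
      · exact exists_lift_odd hconf hp hπs hπe hπk hodd
      obtain ⟨A, hA⟩ := hconf.exists_mem
      rcases Nat.lt_or_ge q 3 with hq' | hq'
      · obtain rfl : q = 2 := le_antisymm (by omega) hA.two_le
        exact exists_lift_two hconf hp hπs hπe hπk
      · exact exists_lift_big hconf hp hπs hπe hπk hodd hq'
    exact false_of_lift hp (fun v hv => (hmk v).2 (hle hv)) hΓ

end Cfsg.Agent.FFPM
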