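import Cfsg.Agent.Lib.Thompson.FFPM.Piece
import Cfsg.Agent.Lib.Thompson.FFPM.Lift

/-!
Abelian offenders lie in the product of the components and generate it normally.
-/

set_option autoImplicit false
set_option linter.unusedSectionVars false
set_option linter.style.haveILetI false

namespace Cfsg.Agent.FFPM

open FFSL2

variable {H : Type*} [Group H] [Finite H] {V : Type*} [AddCommGroup V] [Finite V]
  [DistribMulAction H V] {p q : ℕ} [hpp : Fact p.Prime] {T : Sylow p H} {M : Subgroup H}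

/-- The action on a quotient by an invariant submodule. -/
theorem exists_quotient' (Z : AddSubgroup V) (hZ : ∀ (z : H), ∀ v ∈ Z, z • v ∈ Z) :
    ∃ (_ : DistribMulAction H (V ⧸ Z)),
      ∀ (z : H) (v : V), z • (v : V ⧸ Z) = ((z • v : V) : V ⧸ Z) := by
  let act : H →* AddMonoid.End (V ⧸ Z) :=
    { toFun := fun g => QuotientAddGroup.map Z Z (DistribMulAction.toAddMonoidEnd H V g)
        (fun v hv => hZ g v hv)
      map_one' := AddMonoidHom.ext fun v => by
        induction v using QuotientAddGroup.induction_on with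
        | H v => exact congrArg QuotientAddGroup.mk (one_smul H v)
      map_mul' := fun a b => AddMonoidHom.ext fun v => by
        induction v using QuotientAddGroup.induction_on with
        | H v => exact congrArg QuotientAddGroup.mk (mul_smul a b v) }
  exact ⟨{ smul := fun g v => act g v
           one_smul := fun v => by show act 1 v = v; rw [map_one]; rfl
           mul_smul := fun a b v => by show act (a * b) v = act a (act b v); rw [map_mul]; rfl
           smul_zero := fun g => map_zero (act g)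
           smul_add := fun g v w => map_add (act g) v w }, fun _ _ => rfl⟩

namespace Conf

variable (h : Conf V q T M)
include h

theorem exists_cj_mem {B X : Subgroup H} (hB : Mem V q B) (hX : Mem V q X) :
    ∃ z, cj z B = X := by
  obtain ⟨i, hi⟩ := h.pm.exists_syl (isPGroup_of_quad h.pm.faith h.pm.exp hB.quad)
  obtain ⟨j, hj⟩ := h.pm.exists_syl (isPGroup_of_quad h.pm.faith h.pm.exp hX.quad)
  have hB1 := mems_cj (z := i⁻¹) (show B ∈ mems V q T i from ⟨hB, hi⟩)
  have hX1 := mems_cj (z := j⁻¹) (show X ∈ mems V q T j from ⟨hX, hj⟩)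
  rw [inv_mul_cancel] at hB1 hX1
  obtain ⟨t, -, e⟩ := h.exists_cj_mems hB1 hX1
  exact ⟨j * t * i⁻¹, by rw [cj_mul, cj_mul, e, cj_cancel_inv]⟩

theorem lineSup_le_normalClosure {B A : Subgroup H} (hB : Mem V q B) (hBA : B ≤ A) :
    lineSup V q T 1 ≤ Subgroup.normalClosure (A : Set H) := by
  refine sSup_le ?_
  rintro X ⟨C, -, hX⟩ x hx
  obtain ⟨z, rfl⟩ := h.exists_cj_mem hB hX.1
  have h1 := (Subgroup.normalClosure_normal (s := (A : Set H))).conj_mem _
    (Subgroup.subset_normalClosure (hBA (mem_cj.1 hx))) z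
  simpa [mul_assoc] using h1

/-- The inequality coming from the kernel on a piece. -/
theorem le_mul_of_fixed {A K : Subgroup H} (hK : K ≤ A) (hA : Com A A)
    (hle : Nat.card V ≤ mu V A) {U : AddSubgroup V} (hU : U ≤ fix K) :
    Nat.card ↥K * Nat.card ↥U ≤ Nat.card ↥A * Nat.card ↥(U ⊓ fix A) := by
  have h1 : mu V K ≤ Nat.card V := h.no_over.com_le (hA.mono hK hK)
  have h2 := card_sup_mul_card_inf U (fix A : AddSubgroup V)
  have h3 : Nat.card ↥(U ⊔ fix A) ≤ Nat.card ↥(fix K : AddSubgroup V) :=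
    AddSubgroup.card_le_of_le (sup_le hU fun v hv a ha => hv a (hK ha))
  rw [mu] at h1 hle
  refine Nat.le_of_mul_le_mul_right ?_ (Nat.card_pos (α := ↥(fix A : AddSubgroup V)))
  calc Nat.card ↥K * Nat.card ↥U * Nat.card ↥(fix A : AddSubgroup V)
      = Nat.card ↥K * (Nat.card ↥(U ⊔ fix A) * Nat.card ↥(U ⊓ fix A)) := by rw [h2]; ring
    _ ≤ Nat.card ↥K * (Nat.card ↥(fix K : AddSubgroup V) * Nat.card ↥(U ⊓ fix A)) := by gcongr
    _ = Nat.card ↥K * Nat.card ↥(fix K : AddSubgroup V) * Nat.card ↥(U ⊓ fix A) := by ring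
    _ ≤ Nat.card ↥A * Nat.card ↥(fix A : AddSubgroup V) * Nat.card ↥(U ⊓ fix A) := by
        exact Nat.mul_le_mul_right _ (h1.trans hle)
    _ = _ := by ring

/-- The case without fixed points of the components. -/
theorem offender_free {r : ℕ} {E : Fin r → Subgroup H}
    (hC : Components V p (T : Subgroup H) E) (hN : (⨆ i, E i) = lineSup V q T 1)
    (hmem : ∀ i, ∃ B, Mem V q B ∧ B ≤ E i)
    (hTperm : ∀ t ∈ (T : Subgroup H), ∀ i, ∃ j, cj t (E i) = E j)
    (hfree : (fix (lineSup V q T 1) : AddSubgroup V) = ⊥)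
    {A : Subgroup H} (hAp : IsPGroup p ↥A) (hA : Com A A) (hne : A ≠ ⊥)
    (hle : Nat.card V ≤ mu V A) :
    A ≤ lineSup V q T 1 ∧ ∃ B, Mem V q B ∧ B ≤ A := by
  classical
  set W : Fin r → AddSubgroup V := fun i => movV V (E i) with hW
  have hfixall : ∀ {v : V}, (∀ i, v ∈ (fix (E i) : AddSubgroup V)) → v = 0 := fun {v} hv => by
    have h1 : v ∈ (fix (lineSup V q T 1) : AddSubgroup V) := by
      rw [← hN, ← sSup_range]
      exact fix_sSup _ (by rintro _ ⟨i, rfl⟩; exact hv i)
    rwa [hfree, AddSubgroup.mem_bot] at h1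
  have hspan : ∀ v : V, v ∈ ⨆ i, W i := fun v => by
    obtain ⟨c, hc, hrest⟩ := hC.split v
    rw [hN, hfree, AddSubgroup.mem_bot] at hc
    rwa [hc, sub_zero] at hrest
  have hdis : ∀ i, W i ⊓ fix (E i) = ⊥ := fun i => by
    rw [eq_bot_iff]
    intro v hv
    exact AddSubgroup.mem_bot.2 (hfixall fun j => by
      by_cases e : j = i
      · rw [e]; exact hv.2
      · exact hC.orth i j (Ne.symm e) hv.1)
  have htop : ∀ i, W i ⊔ fix (E i) = ⊤ := fun i => by
    rw [eq_top_iff]
    intro v _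
    refine (show (⨆ j, W j) ≤ W i ⊔ fix (E i) from iSup_le fun j => ?_) (hspan v)
    by_cases e : j = i
    · exact e ▸ le_sup_left
    · exact (hC.orth j i e).trans le_sup_right
  have hpiece := fun i {X : Subgroup H} (hX : X ≤ Subgroup.normalizer (E i : Set H))
      (h2 : IsPGroup p ↥X) (h3 : Com X X) =>
    h.piece (hC.shape i) (hdis i) (htop i) (hmem i) hX h2 h3
  have hW4 : ∀ i, 4 ≤ Nat.card ↥(W i) := by
    intro i
    obtain ⟨B, hB, hBE⟩ := hmem i
    obtain ⟨v, -, hv⟩ := SetLike.exists_of_lt (lt_top_iff_ne_top.2 hB.fix_ne_top)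
    obtain ⟨b, hb, hbv⟩ : ∃ b ∈ B, b • v ≠ v := by
      by_contra! hh
      exact hv hh
    obtain ⟨u, hu, f, hf, rfl⟩ := AddSubgroup.mem_sup.1
      (show v ∈ W i ⊔ fix (E i) from (htop i) ▸ AddSubgroup.mem_top v)
    have hu' : u ∉ (fix B : AddSubgroup V) := fun hh =>
      hbv (by rw [smul_add, hh b hb, hf b (hBE hb)])
    set C := W i ⊓ fix B with hC'
    have h1 : 1 < Nat.card ↥C := by
      haveI : Nontrivial ↥C := ⟨⟨⟨b • u - u, sub_mem_movV (hBE hb) u, hB.quad b hb u⟩, 0, fun e => ?_⟩⟩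
      · exact Finite.one_lt_card
      · have e' : b • u - u = 0 := congrArg Subtype.val e
        exact hbv (by rw [smul_add, sub_eq_zero.1 e', hf b (hBE hb)])
    have h2 := AddSubgroup.card_eq_card_quotient_mul_card_addSubgroup (C.addSubgroupOf (W i))
    rw [Nat.card_congr (AddSubgroup.addSubgroupOfEquivOfLe (inf_le_left : C ≤ W i)).toEquiv] at h2
    have h3 : 1 < Nat.card (↥(W i) ⧸ C.addSubgroupOf (W i)) := by
      haveI : Nontrivial (↥(W i) ⧸ C.addSubgroupOf (W i)) :=
        ⟨⟨((⟨u, hu⟩ : ↥(W i)) : _ ⧸ C.addSubgroupOf (W i)), 0, fun e => hu'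
          ((((QuotientAddGroup.eq_zero_iff (⟨u, hu⟩ : ↥(W i))).1 e : (⟨u, hu⟩ : ↥(W i)) ∈ C.addSubgroupOf (W i)) : u ∈ C).2)⟩⟩
      exact Finite.one_lt_card
    rw [h2]
    exact Nat.mul_le_mul h3 h1
  have hEinj : Function.Injective E := fun i j e => by
    by_contra hij
    have hle' : W i ≤ W i ⊓ fix (E i) := le_inf le_rfl (fun v hv => by
      have := hC.orth i j hij hv
      rwa [← e] at this)
    rw [hdis i, le_bot_iff] at hle'
    have := hW4 i
    rw [hle', AddSubgroup.card_bot] at this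
    omega
  -- every element permutes the components
  have hperm : ∀ z : H, ∀ i, ∃ j, cj z (E i) = E j := by
    let S : Submonoid H :=
      { carrier := {z | ∀ i, ∃ j, cj z (E i) = E j}
        one_mem' := fun i => ⟨i, cj_one _⟩
        mul_mem' := fun {a b} ha hb i => by
          obtain ⟨j, hj⟩ := hb i
          obtain ⟨k, hk⟩ := ha j
          exact ⟨k, by rw [cj_mul, hj, hk]⟩ }
    let S' : Subgroup H :=
      { S with
        inv_mem' := fun {a} ha => by
          have h1 : a⁻¹ = a ^ (orderOf a - 1) := inv_eq_of_mul_eq_one_right (by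
            rw [← pow_succ', Nat.sub_add_cancel (orderOf_pos a), pow_orderOf_eq_one])
          rw [h1]
          exact S.pow_mem ha _ }
    have hT : (T : Subgroup H) ≤ S' := hTperm
    intro z
    exact (show (⊤ : Subgroup H) ≤ S' by
      rw [← hC.sup]
      refine sup_le (iSup_le fun j n hn i => ⟨i, ?_⟩) hT
      by_cases e : j = i
      · exact cj_self (e ▸ hn)
      · exact cj_eq_of_com (hC.com j i e) hn) (Subgroup.mem_top z)
  have hsmulW : ∀ {z : H} {i j : Fin r}, cj z (E i) = E j → ∀ u ∈ W i, z • u ∈ W j := by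
    intro z i j e u hu
    induction hu using AddSubgroup.closure_induction with
    | mem u hu =>
      obtain ⟨x, hx, v, rfl⟩ := hu
      have e' : z • (x • v - v) = (z * x * z⁻¹) • (z • v) - z • v := by
        rw [smul_sub, mul_smul, mul_smul, inv_smul_smul]
      rw [e']
      exact sub_mem_movV (e ▸ mem_cj.2 (by simpa [mul_assoc] using hx)) _
    | zero => rw [smul_zero]; exact zero_mem _
    | add a b _ _ ha hb => rw [smul_add]; exact add_mem ha hb
    | neg a _ ha => rw [smul_neg]; exact neg_mem ha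
  have hcom : ∀ {a b : H}, a ∈ A → b ∈ A → a * b = b * a := fun ha hb => hA _ ha _ hb
  -- every element fixes each component
  have hfixE : ∀ a ∈ A, ∀ i, cj a (E i) = E i := by
    intro a₀ ha₀ j
    by_contra hmv
    set St := A ⊓ Subgroup.normalizer (E j : Set H) with hSt
    set K0 := St ⊓ fixer (W j) with hK0
    set O : Finset (Fin r) := Finset.univ.filter (fun i => ∃ a ∈ A, cj a (E j) = E i) with hO
    have hmemO : ∀ {i}, i ∈ O ↔ ∃ a ∈ A, cj a (E j) = E i := fun {i} => by simp [hO]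
    have hjO : j ∈ O := hmemO.2 ⟨1, A.one_mem, cj_one _⟩
    have hk2 : 1 < O.card := by
      obtain ⟨i, hi⟩ := hperm a₀ j
      exact Finset.one_lt_card.2 ⟨j, hjO, i, hmemO.2 ⟨a₀, ha₀, hi⟩, fun e => hmv (e ▸ hi)⟩
    choose rep hrepA hrep using fun i : ↥O => hmemO.1 i.2
    have hcardA : Nat.card ↥A ≤ O.card * Nat.card ↥St := by
      choose img himg using fun a : ↥A => hperm (a : H) j
      have himgO : ∀ a, img a ∈ O := fun a => hmemO.2 ⟨a, a.2, himg a⟩
      have hin : ∀ a : ↥A, (rep ⟨img a, himgO a⟩)⁻¹ * (a : H) ∈ St := fun a => by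
        refine ⟨A.mul_mem (A.inv_mem (hrepA _)) a.2, ?_⟩
        refine le_normalizer_of_cj (X := Subgroup.zpowers ((rep ⟨img a, himgO a⟩)⁻¹ * (a : H)))
          (fun x hx => ?_) (Subgroup.mem_zpowers _)
        have h1 : cj ((rep ⟨img a, himgO a⟩)⁻¹ * (a : H)) (E j) = E j := by
          have e := hrep ⟨img a, himgO a⟩
          rw [cj_mul, himg a, ← e, cj_inv_cancel]
        obtain ⟨k, rfl⟩ := mem_powers_iff_mem_zpowers.2 hx
        induction k with
        | zero => simp only [pow_zero, cj_one]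
        | succ k ih =>
          beta_reduce at ih ⊢
          rw [pow_succ, cj_mul, h1, ih (Subgroup.pow_mem _ (Subgroup.mem_zpowers _) k)]
      let f : ↥A → ↥O × ↥St := fun a => (⟨img a, himgO a⟩, ⟨_, hin a⟩)
      have hf : Function.Injective f := fun a b e => by
        have e1 := congrArg (fun x : ↥O × ↥St => x.1) e
        have e2 := congrArg (fun x : ↥O × ↥St => (x.2 : H)) e
        simp only [f] at e1 e2
        rw [e1, mul_right_inj] at e2
        exact Subtype.ext e2
      have := Nat.card_le_card_of_injective f hf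
      rwa [Nat.card_prod, Nat.card_eq_finsetCard] at this
    set f : (↥O → ↥(W j)) →+ V := AddMonoidHom.mk' (fun u => ∑ l, rep l • (u l : V))
      (fun u u' => by simp [smul_add, Finset.sum_add_distrib]) with hf
    have hterm : ∀ (u : ↥O → ↥(W j)) (l : ↥O), rep l • (u l : V) ∈ W l :=
      fun u l => hsmulW (hrep l) _ (u l).2
    have hcomp : ∀ (u : ↥O → ↥(W j)) (l : ↥O),
        f u - rep l • (u l : V) ∈ (fix (E l) : AddSubgroup V) := by
      intro u l
      show (∑ m, rep m • (u m : V)) - _ ∈ _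
      rw [← Finset.add_sum_erase _ _ (Finset.mem_univ l), add_sub_cancel_left]
      exact sum_mem fun m hm => hC.orth m l (fun e => Finset.ne_of_mem_erase hm (Subtype.ext e))
        (hterm u m)
    have hzero : ∀ {i : Fin r} {w : V}, w ∈ W i → w ∈ (fix (E i) : AddSubgroup V) → w = 0 :=
      fun {i w} h1 h2 => by
        have : w ∈ W i ⊓ fix (E i) := ⟨h1, h2⟩
        rwa [hdis i, AddSubgroup.mem_bot] at this
    have hfinj : Function.Injective f := (injective_iff_map_eq_zero f).2 fun u hu => funext fun l => by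
      have h1 := hcomp u l
      rw [hu, zero_sub, neg_mem_iff] at h1
      have h2 := hzero (hterm u l) h1
      exact Subtype.ext ((smul_eq_zero_iff_eq _).1 h2)
    have hUK : f.range ≤ (fix K0 : AddSubgroup V) := by
      rintro _ ⟨u, rfl⟩
      show (∑ l, rep l • (u l : V)) ∈ _
      refine sum_mem fun (l : ↥O) _ z hz => ?_
      rw [← mul_smul, hcom hz.1.1 (hrepA l), mul_smul, hz.2 _ (u l).2]
    have hineq := h.le_mul_of_fixed (inf_le_left.trans inf_le_left : K0 ≤ A) hA hle hUK
    have hUcard : Nat.card ↥f.range = Nat.card ↥(W j) ^ O.card := by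
      rw [← Nat.card_congr (AddMonoidHom.ofInjective hfinj).toEquiv, Nat.card_fun,
        Nat.card_eq_finsetCard]
    -- a fixed vector is determined by one component
    have hfixU : Nat.card ↥(f.range ⊓ fix A) ≤ Nat.card ↥(W j ⊓ fix St) := by
      set j' : ↥O := ⟨j, hjO⟩
      have hc : ∀ u : ↥O → ↥(W j), f u - rep j' • (u j' : V) ∈ (fix (E j) : AddSubgroup V) :=
        fun u => hcomp u j'
      choose pre hpre using fun x : ↥(f.range ⊓ fix A) => x.2.1
      have hgfix : ∀ x : ↥(f.range ⊓ fix A),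
          rep j' • (pre x j' : V) ∈ W j ⊓ fix St := fun x => by
        have hd : (x : V) - rep j' • (pre x j' : V) ∈ (fix (E j) : AddSubgroup V) := by
          have := hc (pre x); rwa [hpre] at this
        refine ⟨hterm _ j', fun b hb => sub_eq_zero.1 (hzero (i := j)
          (sub_mem (hsmulW (cj_eq_of_mem_normalizer hb.2) _ (hterm _ j')) (hterm _ j')) ?_)⟩
        have h1 : b • rep j' • (pre x j' : V) - rep j' • (pre x j' : V) =
            ((x : V) - rep j' • (pre x j' : V)) - b • ((x : V) - rep j' • (pre x j' : V)) := by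
          rw [smul_sub, x.2.2 b hb.1]
          abel
        rw [h1]
        exact sub_mem hd (smul_fix_mem hb.2 hd)
      refine Nat.card_le_card_of_injective (fun x => (⟨_, hgfix x⟩ : ↥(W j ⊓ fix St)))
        fun x x' e => ?_
      have e' : rep j' • (pre x j' : V) = rep j' • (pre x' j' : V) := congrArg Subtype.val e
      set d : V := (x : V) - x' with hd
      have hdA : d ∈ (fix A : AddSubgroup V) := sub_mem x.2.2 x'.2.2
      have hdj : d ∈ (fix (E j) : AddSubgroup V) := by
        have h1 := sub_mem (hc (pre x)) (hc (pre x'))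
        rw [hpre, hpre, e', sub_sub_sub_cancel_right] at h1
        exact h1
      refine Subtype.ext (sub_eq_zero.1 (hfixall fun i => ?_))
      by_cases hi : i ∈ O
      · obtain ⟨a, ha, e2⟩ := hmemO.1 hi
        rw [← e2, mem_fix_cj, hdA _ (A.inv_mem ha)]
        exact hdj
      · have hx : ∀ u : ↥O → ↥(W j), f u ∈ (fix (E i) : AddSubgroup V) := fun u => by
          show (∑ l, rep l • (u l : V)) ∈ _
          exact sum_mem fun (l : ↥O) _ => hC.orth l i (fun e3 => hi (e3 ▸ l.2)) (hterm u l)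
        exact sub_mem (hpre x ▸ hx _) (hpre x' ▸ hx _)
    have hp1 := (hpiece j (inf_le_right : St ≤ _) (hAp.to_le inf_le_left) (hA.mono inf_le_left inf_le_left)).1
    have hfin : Nat.card ↥(W j) ^ O.card ≤ O.card * Nat.card ↥(W j) := by
      refine Nat.le_of_mul_le_mul_left ?_ (Nat.card_pos (α := ↥K0))
      calc Nat.card ↥K0 * Nat.card ↥(W j) ^ O.card = Nat.card ↥K0 * Nat.card ↥f.range := by rw [hUcard]
        _ ≤ Nat.card ↥A * Nat.card ↥(f.range ⊓ fix A) := hineq
        _ ≤ O.card * Nat.card ↥St * Nat.card ↥(W j ⊓ fix St) := Nat.mul_le_mul hcardA hfixU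
        _ ≤ O.card * (Nat.card ↥K0 * Nat.card ↥(W j)) := by
            rw [mul_assoc]; exact Nat.mul_le_mul_left _ hp1
        _ = _ := by ring
    obtain ⟨k, hk⟩ : ∃ k, O.card = k + 2 := ⟨O.card - 2, by omega⟩
    rw [hk, pow_succ] at hfin
    have h5 := Nat.le_of_mul_le_mul_right hfin Nat.card_pos
    have h6 : 4 ^ (k + 1) ≤ Nat.card ↥(W j) ^ (k + 1) := Nat.pow_le_pow_left (hW4 j) _
    have h7 : k + 1 < 2 ^ (k + 1) := Nat.lt_two_pow_self
    have h8 : 4 ^ (k + 1) = 2 ^ (k + 1) * 2 ^ (k + 1) := by rw [← mul_pow]; norm_num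
    have h9 : 2 * 2 ^ (k + 1) ≤ 2 ^ (k + 1) * 2 ^ (k + 1) :=
      Nat.mul_le_mul_right _ (Nat.le_self_pow (by omega) 2)
    omega
  have hnorm : ∀ i, A ≤ Subgroup.normalizer (E i : Set H) := fun i =>
    le_normalizer_of_cj fun a ha => hfixE a ha i
  -- on each component everything is inner
  have heq : ∀ i, Nat.card ↥(A ⊓ fixer (W i)) * Nat.card ↥(W i) ≤
      Nat.card ↥A * Nat.card ↥(W i ⊓ fix A) := fun i =>
    h.le_mul_of_fixed inf_le_left hA hle fun u hu z hz => hz.2 u hu
  choose el hel helW using fun i => fun a : ↥A =>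
    ((hpiece i (hnorm i) hAp hA).2 (heq i)).1 a a.2
  have hnWi : ∀ {z : H} {i : Fin r}, z ∈ E i → ∀ l, l ≠ i → ∀ u ∈ W l, z • u = u :=
    fun hz l hl u hu => hC.orth l _ hl hu _ hz
  have hprod : ∀ a : ↥A, ∀ s : Finset (Fin r), ∃ n ∈ lineSup V q T 1,
      (∀ i ∈ s, ∀ u ∈ W i, n • u = (a : H) • u) ∧ ∀ i, i ∉ s → ∀ u ∈ W i, n • u = u := by
    intro a s
    induction s using Finset.induction_on with
    | empty => exact ⟨1, Subgroup.one_mem _, by simp, fun i _ u _ => one_smul H u⟩
    | @insert j s hj ih =>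
      obtain ⟨n, hn, hn1, hn2⟩ := ih
      refine ⟨el j a * n, Subgroup.mul_mem _ (hN ▸ (le_iSup E j) (hel j a)) hn,
        fun i hi u hu => ?_, fun i hi u hu => ?_⟩
      · rcases Finset.mem_insert.1 hi with rfl | hi'
        · rw [mul_smul, hn2 i hj u hu, helW i a u hu]
        · rw [mul_smul, hn1 i hi' u hu]
          exact hnWi (hel j a) i (fun e => hj (e ▸ hi')) _
            (hsmulW (hfixE a a.2 i) u hu)
      · rw [Finset.mem_insert, not_or] at hi
        rw [mul_smul, hn2 i hi.2 u hu]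
        exact hnWi (hel j a) i hi.1 u hu
  have hA_le : A ≤ lineSup V q T 1 := fun a ha => by
    obtain ⟨n, hn, hn1, -⟩ := hprod ⟨a, ha⟩ Finset.univ
    have e : a = n := by
      have h1 : ∀ v : V, n • v = a • v := fun v => by
        induction hspan v using AddSubgroup.iSup_induction' with
        | hp i u hu => exact hn1 i (Finset.mem_univ i) u hu
        | h1 => rw [smul_zero, smul_zero]
        | hadd b c _ _ hb hc => rw [smul_add, smul_add, hb, hc]
      have := h.pm.faith (n⁻¹ * a) fun v => by rw [mul_smul, ← h1, inv_smul_smul]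
      exact (inv_mul_eq_one.1 this).symm
    exact e ▸ hn
  refine ⟨hA_le, ?_⟩
  -- a component moved by `A`
  obtain ⟨j, hj⟩ : ∃ j, ¬ A ≤ fixer (W j) := by
    by_contra! hall
    refine hne ((Subgroup.eq_bot_iff_forall _).2 fun a ha => h.pm.faith a fun v => ?_)
    induction hspan v using AddSubgroup.iSup_induction' with
    | hp i u hu => exact hall i ha u hu
    | h1 => exact smul_zero a
    | hadd b c _ _ hb hc => rw [smul_add, hb, hc]
  let X : Subgroup H :=
    { carrier := {e | e ∈ E j ∧ ∃ a ∈ A, ∀ u ∈ W j, a • u = e • u}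
      one_mem' := ⟨(E j).one_mem, 1, A.one_mem, fun _ _ => rfl⟩
      mul_mem' := by
        rintro e e' ⟨he, a, ha, h1⟩ ⟨he', a', ha', h1'⟩
        refine ⟨(E j).mul_mem he he', a * a', A.mul_mem ha ha', fun u hu => ?_⟩
        rw [mul_smul, mul_smul, h1' u hu, h1 _ (smul_mem_movV he' hu)]
      inv_mem' := by
        rintro e ⟨he, a, ha, h1⟩
        refine ⟨(E j).inv_mem he, a⁻¹, A.inv_mem ha, fun u hu => ?_⟩
        rw [inv_smul_eq_iff, h1 _ (smul_mem_movV ((E j).inv_mem he) hu), smul_inv_smul] }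
  have hXE : X ≤ E j := fun e he => he.1
  have hext : ∀ {x y : H}, x ∈ E j → y ∈ E j → (∀ u ∈ W j, x • u = y • u) → x = y := by
    intro x y hx hy hxy
    have := eq_one_of_fixer h.pm.faith (htop j) (z := y⁻¹ * x) ((E j).mul_mem ((E j).inv_mem hy) hx)
      (fun u hu => by rw [mul_smul, hxy u hu, inv_smul_smul])
    exact (inv_mul_eq_one.1 this).symm
  have hvext : ∀ {x y : H}, (∀ i, ∀ u ∈ W i, x • u = y • u) → x = y := by
    intro x y hxy
    have := h.pm.faith (y⁻¹ * x) fun v => by
      induction hspan v using AddSubgroup.iSup_induction' with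
      | hp i u hu => rw [mul_smul, hxy i u hu, inv_smul_smul]
      | h1 => exact smul_zero _
      | hadd b c _ _ hb hc => rw [smul_add, hb, hc]
    exact (inv_mul_eq_one.1 this).symm
  have hXX : Com X X := by
    rintro x ⟨hx, a, ha, h1⟩ y ⟨hy, b, hb, h2⟩
    refine hext ((E j).mul_mem hx hy) ((E j).mul_mem hy hx) fun u hu => ?_
    rw [mul_smul, mul_smul, ← h2 u hu, ← h1 _ (hsmulW (hfixE b hb j) u hu), ← h1 u hu,
      ← h2 _ (hsmulW (hfixE a ha j) u hu), ← mul_smul, ← mul_smul, hcom ha hb]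
  have hXA : Com X A := by
    rintro x ⟨hx, a, ha, h1⟩ b hb
    refine hvext fun i u hu => ?_
    rw [mul_smul, mul_smul]
    by_cases e : i = j
    · subst e
      rw [← h1 u hu, ← h1 _ (hsmulW (hfixE b hb i) u hu), ← mul_smul, ← mul_smul, hcom ha hb]
    · rw [hnWi hx i e _ (hsmulW (hfixE b hb i) u hu), hnWi hx i e u hu]
  have hA' : Com (A ⊔ X) (A ⊔ X) :=
    Com.sup_left (Com.sup_left hA hXA).symm (Com.sup_left hXA.symm hXX).symm
  have hfix' : (fix (A ⊔ X) : AddSubgroup V) = fix A := by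
    rw [fix_sup]
    refine inf_eq_left.2 fun v hv x hx => ?_
    obtain ⟨hxE, a, ha, h1⟩ := hx
    obtain ⟨u, hu, f, hf, rfl⟩ := AddSubgroup.mem_sup.1
      (show v ∈ W j ⊔ fix (E j) from (htop j) ▸ AddSubgroup.mem_top v)
    have h2 : a • u - u = f - a • f := by
      have := hv a ha
      rw [smul_add] at this
      rw [sub_eq_sub_iff_add_eq_add, this, add_comm f u]
    have h2' : f - a • f ∈ (fix (E j) : AddSubgroup V) :=
      AddSubgroup.sub_mem _ hf (smul_fix_mem (hnorm j ha) hf)
    rw [← h2] at h2'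
    have h3 : a • u - u ∈ W j ⊓ fix (E j) := ⟨(W j).sub_mem (hsmulW (hfixE a ha j) u hu) hu, h2'⟩
    rw [hdis j, AddSubgroup.mem_bot, sub_eq_zero, h1 u hu] at h3
    rw [smul_add, h3, hf x hxE]
  have hXleA : X ≤ A := by
    have h1 := h.no_over.com_le hA'
    rw [mu, hfix'] at h1
    have h2 := Nat.le_of_mul_le_mul_right (h1.trans hle) Nat.card_pos
    exact le_sup_right.trans (Subgroup.eq_of_le_of_card_ge le_sup_left h2).ge
  have hXne : X ≠ ⊥ := by
    intro hb
    refine hj fun a ha u hu => ?_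
    have h1 : el j ⟨a, ha⟩ ∈ X := ⟨hel j ⟨a, ha⟩, a, ha, helW j ⟨a, ha⟩⟩
    rw [hb, Subgroup.mem_bot] at h1
    rw [helW j ⟨a, ha⟩ u hu, h1, one_smul]
  obtain ⟨B, hB, hBX⟩ := (((hpiece j (hXE.trans Subgroup.le_normalizer) (hAp.to_le hXleA) hXX).2 (by
    -- `A` and its image have the same count
    have h1 : Nat.card ↥A ≤ Nat.card ↥X * Nat.card ↥(A ⊓ fixer (W j)) := by
      let π : ↥A →* ↥X := MonoidHom.mk' (fun a => ⟨el j a, hel j a, a, a.2, helW j a⟩) fun a b =>
        Subtype.ext (hext (hel j _) ((E j).mul_mem (hel j a) (hel j b)) fun u hu => by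
          rw [← helW j _ u hu]
          show ((a : H) * b) • u = (el j a * el j b) • u
          rw [mul_smul, mul_smul, helW j b u hu, helW j a _ (smul_mem_movV (hel j b) hu)])
      rw [card_range_mul π, mul_comm (Nat.card ↥X)]
      refine Nat.mul_le_mul ?_ (Subgroup.card_le_card_group _)
      refine Nat.card_le_card_of_injective (fun a : ↥π.ker => (⟨((a : ↥A) : H), (a : ↥A).2,
        fun u hu => by
          have e : el j (a : ↥A) = 1 := congrArg Subtype.val (MonoidHom.mem_ker.1 a.2)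
          rw [helW j (a : ↥A) u hu, e, one_smul]⟩ : ↥(A ⊓ fixer (W j)))) fun a b e => ?_
      exact Subtype.ext (Subtype.ext (congrArg (fun z : ↥(A ⊓ fixer (W j)) => (z : H)) e))
    have h2 : Nat.card ↥(W j ⊓ fix A) ≤ Nat.card ↥(W j ⊓ fix X) := by
      refine AddSubgroup.card_le_of_le fun u hu => ⟨hu.1, ?_⟩
      rintro x ⟨hx, a, ha, h1⟩
      rw [← h1 u hu.1, hu.2 a ha]
    have h4 : Nat.card ↥(X ⊓ fixer (W j)) = 1 := by
      rw [show X ⊓ fixer (W j) = ⊥ from (Subgroup.eq_bot_iff_forall _).2 fun z hz =>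
        eq_one_of_fixer h.pm.faith (htop j) (hXE hz.1) hz.2, Subgroup.card_bot]
    rw [h4, one_mul]
    refine Nat.le_of_mul_le_mul_left ?_ (Nat.card_pos (α := ↥(A ⊓ fixer (W j))))
    calc Nat.card ↥(A ⊓ fixer (W j)) * Nat.card ↥(W j) ≤ Nat.card ↥A * Nat.card ↥(W j ⊓ fix A) :=
          heq j
      _ ≤ Nat.card ↥X * Nat.card ↥(A ⊓ fixer (W j)) * Nat.card ↥(W j ⊓ fix X) :=
          Nat.mul_le_mul h1 h2
      _ = _ := by ring)).2) hXE hXne
  exact ⟨B, hB, hBX.trans hXleA⟩

end Conf

theorem offender_aux : ∀ (n : ℕ) (V : Type*) [AddCommGroup V] [Finite V] [DistribMulAction H V],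
    Nat.card V ≤ n → ∀ (q : ℕ) {T : Sylow p H} {M : Subgroup H}, Conf V q T M →
    ∀ A : Subgroup H, IsPGroup p ↥A → Com A A → A ≠ ⊥ → Nat.card V ≤ mu V A →
    A ≤ lineSup V q T 1 ∧ lineSup V q T 1 ≤ Subgroup.normalClosure (A : Set H) ∧
      ∃ B, Mem V q B ∧ B ≤ A := by
  intro n
  induction n with
  | zero =>
    intro V _ _ _ hn
    have : 0 < Nat.card V := Nat.card_pos
    omega
  | succ n ih =>
    intro V _ _ _ hn q T M h A hAp hA hne hle
    obtain ⟨r, E, hC, hN, hmem, hT⟩ := h.exists_components'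
    set N := lineSup V q T 1 with hNdef
    set Z : AddSubgroup V := fix N with hZ
    by_cases hZ0 : Z = ⊥
    · obtain ⟨h1, B, hB, hBA⟩ := h.offender_free hC hN hmem hT hZ0 hAp hA hne hle
      exact ⟨h1, h.lineSup_le_normalClosure hB hBA, B, hB, hBA⟩
    have hNn : N.Normal := (h.lineSup_spec 1).1
    have hsm : ∀ (z : H), ∀ v ∈ Z, z • v ∈ Z := fun z v hv =>
      smul_fix_mem (by rw [Subgroup.normalizer_eq_top]; exact Subgroup.mem_top z) hv
    obtain ⟨inst, hq⟩ := exists_quotient' Z hsm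
    letI : DistribMulAction H (V ⧸ Z) := inst
    have hmk : ∀ v : V, (v : V ⧸ Z) = 0 ↔ v ∈ Z := fun v => QuotientAddGroup.eq_zero_iff v
    -- faithfulness
    set K : Subgroup H := moveIn Z with hK
    have hKn : K.Normal := ⟨fun x hx g v => by
      have h1 := hsm g _ (hx (g⁻¹ • v))
      rwa [smul_sub, smul_inv_smul, ← mul_smul, ← mul_smul] at h1⟩
    have hKN : K ⊓ N = ⊥ := by
      haveI : (K ⊓ N).Normal := ⟨fun x hx g => ⟨hKn.conj_mem x hx.1 g, hNn.conj_mem x hx.2 g⟩⟩
      exact h.pm.core _ inferInstance (isPGroup_of_quad h.pm.faith h.pm.exp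
        fun x hx v y hy => hx.1 v y hy.2)
    have hfq : ∀ z : H, (∀ v : V ⧸ Z, z • v = v) → z = 1 := by
      intro z hz
      have hzK : z ∈ K := fun v => by rw [← hmk, QuotientAddGroup.mk_sub, ← hq, hz, sub_self]
      refine h.eq_one_of_centralizer (g := 1) ?_ (Subgroup.mem_centralizer_iff.2 fun m hm => ?_)
      · have hsurj : Function.Surjective ((QuotientGroup.mk' N).comp (T : Subgroup H).subtype) := by
          intro x
          obtain ⟨y, rfl⟩ := QuotientGroup.mk'_surjective N x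
          have htop := (h.lineSup_spec 1).2
          rw [cj_one] at htop
          have hy : y ∈ N ⊔ (T : Subgroup H) := htop ▸ Subgroup.mem_top y
          rw [Subgroup.sup_eq_closure] at hy
          induction hy using Subgroup.closure_induction with
          | mem w hw =>
            rcases hw with hw | hw
            · exact ⟨1, by rw [map_one]; exact ((QuotientGroup.eq_one_iff w).2 hw).symm⟩
            · exact ⟨⟨w, hw⟩, rfl⟩
          | one => exact ⟨1, by rw [map_one, map_one]⟩
          | mul a b _ _ ha hb =>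
            obtain ⟨t, ht⟩ := ha
            obtain ⟨t', ht'⟩ := hb
            exact ⟨t * t', by rw [map_mul, ht, ht', map_mul]⟩
          | inv a _ ha =>
            obtain ⟨t, ht⟩ := ha
            exact ⟨t⁻¹, by rw [map_inv, ht, map_inv]⟩
        obtain ⟨k, hk⟩ := T.isPGroup'.of_surjective _ hsurj (QuotientGroup.mk' N z)
        rw [← map_pow, QuotientGroup.mk'_apply, QuotientGroup.eq_one_iff] at hk
        have h1 : z ^ p ^ k ∈ K ⊓ N := ⟨K.pow_mem hzK _, hk⟩
        rw [hKN, Subgroup.mem_bot] at h1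
        exact ⟨k, h1⟩
      · exact (Subgroup.commute_of_normal_of_disjoint K N hKn hNn (disjoint_iff.2 hKN) z m hzK hm).eq.symm
    have hpq : ∀ v : V ⧸ Z, p • v = 0 := fun v => by
      induction v using QuotientAddGroup.induction_on with
      | H v => rw [← QuotientAddGroup.mk_nsmul, h.pm.exp]; rfl
    have hmu : ∀ B : Subgroup H, Nat.card V ≤ mu V B → Nat.card (V ⧸ Z) ≤ mu (V ⧸ Z) B := by
      intro B hB
      have h1 := AddSubgroup.card_eq_card_quotient_mul_card_addSubgroup Z
      have h2 : Nat.card ↥(fix B : AddSubgroup V) ≤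
          Nat.card ↥(fix B : AddSubgroup (V ⧸ Z)) * Nat.card ↥Z := by
        rw [← Nat.card_prod]
        let sec : V ⧸ Z → V := fun w => (QuotientAddGroup.mk_surjective w).choose
        have hsec : ∀ w, (sec w : V ⧸ Z) = w := fun w => (QuotientAddGroup.mk_surjective w).choose_spec
        refine Nat.card_le_card_of_injective (fun v : ↥(fix B : AddSubgroup V) =>
          ((⟨((v : V) : V ⧸ Z), fun b hb => by rw [hq, v.2 b hb]⟩ :
              ↥(fix B : AddSubgroup (V ⧸ Z))),
            (⟨(v : V) - sec ((v : V) : V ⧸ Z), (hmk _).1 (by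
              rw [QuotientAddGroup.mk_sub, hsec, sub_self])⟩ : ↥Z))) fun v w e => ?_
        have e1 : ((v : V) : V ⧸ Z) = ((w : V) : V ⧸ Z) := congrArg (fun x => (x.1 : V ⧸ Z)) e
        have e2 : (v : V) - sec ((v : V) : V ⧸ Z) = (w : V) - sec ((w : V) : V ⧸ Z) :=
          congrArg (fun x => (x.2 : V)) e
        rw [e1, sub_left_inj] at e2
        exact Subtype.ext e2
      refine Nat.le_of_mul_le_mul_right ?_ (Nat.card_pos (α := ↥Z))
      rw [← h1, mu, mul_assoc]
      exact hB.trans (Nat.mul_le_mul_left _ h2)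
    obtain ⟨B, hB⟩ := h.exists_mem
    have hBq : Quad (V ⧸ Z) B := fun b hb v => by
      induction v using QuotientAddGroup.induction_on with
      | H v =>
        intro c hc
        rw [hq, ← QuotientAddGroup.mk_sub, hq, hB.quad b hb v c hc]
    have hBle := hmu B (by rw [mu, hB.card, hB.eq])
    have hpm : PM (V ⧸ Z) T M := ⟨h.pm.ne_top, h.pm.le_M, h.pm.uniq, h.pm.not_normal, h.pm.core, hfq,
      hpq, fix_T_not_le (H := H) _ (V ⧸ Z) le_rfl T M h.pm.ne_top h.pm.le_M h.pm.uniq h.pm.not_normal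
        h.pm.core hfq hpq ⟨B, hB.ne_bot, hBq, hBle⟩⟩
    obtain ⟨q', hconf⟩ := exists_conf hpm hB.ne_bot hBq hBle
    have hlt : Nat.card (V ⧸ Z) ≤ n := by
      have h1 := AddSubgroup.card_eq_card_quotient_mul_card_addSubgroup Z
      have h2 : 1 < Nat.card ↥Z := by
        haveI : Nontrivial ↥Z := AddSubgroup.nontrivial_iff_ne_bot Z |>.2 hZ0
        exact Finite.one_lt_card
      have h3 : 0 < Nat.card (V ⧸ Z) := Nat.card_pos
      have h4 : Nat.card (V ⧸ Z) * 2 ≤ Nat.card V := h1 ▸ Nat.mul_le_mul_left _ h2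
      omega
    obtain ⟨h1, h2, B₁, hB₁, hB₁A⟩ := ih (V ⧸ Z) hlt q' hconf A hAp hA hne (hmu A hle)
    obtain ⟨h3, h4, B₂, hB₂, hB₂B⟩ := ih (V ⧸ Z) hlt q' hconf B (isPGroup_of_quad h.pm.faith h.pm.exp hB.quad)
      (com_self h.pm.faith hB.quad) hB.ne_bot hBle
    have hBN : B ≤ N := h.le_lineSup 1 hB
    have hle1 : lineSup (V ⧸ Z) q' T 1 ≤ N :=
      h4.trans (Subgroup.normalClosure_le_normal hBN)
    have hle2 : N ≤ lineSup (V ⧸ Z) q' T 1 := by
      have := (hconf.lineSup_spec 1).1
      exact (h.lineSup_le_normalClosure hB le_rfl).trans (Subgroup.normalClosure_le_normal h3)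
    refine ⟨h1.trans hle1, hle2.trans h2, B₁, ?_, hB₁A⟩
    obtain ⟨i, hi⟩ := h.pm.exists_syl (isPGroup_of_quad h.pm.faith h.pm.exp hB.quad)
    have hBi : B ∈ mems V q T i := ⟨hB, hi⟩
    obtain ⟨F, _, _, ρ, ψ, -, hc⟩ := h.exists_coord hBi
    obtain ⟨b, hb, hb1⟩ := hB₂.exists_ne_one
    have hfix : ∀ v : V, b • (v : V ⧸ Z) = (v : V ⧸ Z) → v ∈ (fix B : AddSubgroup V) := by
      intro v hv
      rw [hq, ← sub_eq_zero, ← QuotientAddGroup.mk_sub, hmk] at hv
      rw [h.coord_fix_iff hBi hc (h.self_mem_line hBi) (hB₂B hb) hb1, ← hc.map, ← sub_eq_zero,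
        ← map_sub, hc.ker]
      exact fix_sSup _ fun X hX z hz => hv z (h.le_lineSup 1 hX.1 hz)
    have hZB : Z ≤ fix B := fun v hv z hz => hv z (hBN hz)
    have hcard : Nat.card ↥(fix B : AddSubgroup V) =
        Nat.card ↥(fix B₂ : AddSubgroup (V ⧸ Z)) * Nat.card ↥Z := by
      let f : ↥(fix B : AddSubgroup V) →+ V ⧸ Z :=
        (QuotientAddGroup.mk' Z).comp (fix B : AddSubgroup V).subtype
      have e1 : f.range = (fix B₂ : AddSubgroup (V ⧸ Z)) := by
        refine le_antisymm ?_ fun w hw => ?_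
        · rintro _ ⟨v, rfl⟩ z hz
          show z • ((v : V) : V ⧸ Z) = _
          rw [hq, v.2 z (hB₂B hz)]
          rfl
        · induction w using QuotientAddGroup.induction_on with
          | H v => exact ⟨⟨v, hfix v (hw b hb)⟩, rfl⟩
      have e2 : Nat.card ↥f.ker = Nat.card ↥Z := by
        refine Nat.card_congr
          { toFun := fun v => ⟨((v : ↥(fix B : AddSubgroup V)) : V), (hmk _).1 v.2⟩
            invFun := fun z => ⟨⟨(z : V), hZB z.2⟩, (hmk _).2 z.2⟩
            left_inv := fun _ => rfl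
            right_inv := fun _ => rfl }
      rw [AddSubgroup.card_eq_card_quotient_mul_card_addSubgroup f.ker,
        Nat.card_congr (QuotientAddGroup.quotientKerEquivRange f).toEquiv, e1, e2]
    have hqq : q' = q := by
      refine Nat.eq_of_mul_eq_mul_right (m := Nat.card ↥(fix B : AddSubgroup V)) Nat.card_pos ?_
      rw [hB.eq, AddSubgroup.card_eq_card_quotient_mul_card_addSubgroup Z, ← hB₂.eq, hcard, mul_assoc]
    have hBB : B₂ = B := Subgroup.eq_of_le_of_card_ge hB₂B (by rw [hB.card, hB₂.card, hqq])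
    obtain ⟨z, hz⟩ := hconf.exists_cj_mem hB₂ hB₁
    rw [← hz, hBB]
    exact hB.conj z

/-- Abelian offenders lie in the product of the components, and their normal closure is that product. -/
theorem Conf.offender_mem (h : Conf V q T M) {A : Subgroup H} (hAp : IsPGroup p ↥A) (hA : Com A A)
    (hne : A ≠ ⊥) (hle : Nat.card V ≤ mu V A) :
    A ≤ lineSup V q T 1 ∧ lineSup V q T 1 ≤ Subgroup.normalClosure (A : Set H) :=
  ⟨(offender_aux _ V le_rfl q h A hAp hA hne hle).1, (offender_aux _ V le_rfl q h A hAp hA hne hle).2.1⟩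

/-- An abelian offender contains a least offender. -/
theorem Conf.offender_exists (h : Conf V q T M) {A : Subgroup H} (hAp : IsPGroup p ↥A) (hA : Com A A)
    (hne : A ≠ ⊥) (hle : Nat.card V ≤ mu V A) : ∃ B, Mem V q B ∧ B ≤ A :=
  (offender_aux _ V le_rfl q h A hAp hA hne hle).2.2

end Cfsg.Agent.FFPM
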