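import Cfsg.Agent.Lib.Thompson.FFPM.Exact

/-!
Outside a largest common part each label belongs to exactly one member.
-/

set_option autoImplicit false
set_option linter.unusedSectionVars false

namespace Cfsg.Agent.FFSL2.Sys

open FFSL2
open scoped Pointwise

variable {H : Type*} [Group H] [Finite H] {V : Type*} [AddCommGroup V] [Finite V]
  [DistribMulAction H V] {q : ℕ} {ι : Type*}
  (S : Sys (H := H) (V := V) q ι) (hfaith : ∀ h : H, (∀ v : V, h • v = v) → h = 1)
include hfaith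

/-- All labels but that of `B` are moved to that of `A` by `B`. -/
theorem exists_cj_lab {A B E : Subgroup H} (hA : A ∈ S.fam) (hB : B ∈ S.fam) (hE : E ∈ S.fam)
    (hAB : S.lab A ≠ S.lab B) (hEB : S.lab E ≠ S.lab B) :
    ∃ b ∈ B, S.lab (cj b E) = S.lab A := by
  obtain ⟨v, hv, hvA⟩ := SetLike.not_le_iff_exists.1 (fun h : (fix B : AddSubgroup V) ≤ fix A =>
    S.fix_ne hfaith hA hB hAB (AddSubgroup.eq_of_le_of_card_ge h (by
      rw [(S.card_fix hfaith hA hB hAB).1, (S.card_fix hfaith hB hA hAB.symm).1,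
        inf_comm])).symm)
  obtain ⟨x, hx, hx1⟩ : ∃ x ∈ A, x ≠ 1 := by
    by_contra! h
    refine S.noncomm A hA B hB hAB fun a ha b _ => ?_
    rw [h a ha, one_mul, mul_one]
  obtain ⟨b, hb, hmem⟩ := S.cover hfaith hB hE hEB.symm
    (S.comm_not_mem hfaith hA hB hAB hv hvA hx hx1)
  have hA'm : cj b E ∈ S.fam := S.conj_mem B hB _ hE b hb
  refine ⟨b, hb, ?_⟩
  by_contra h
  obtain ⟨e, he, hve⟩ := S.cover hfaith hA hA'm (Ne.symm h) hvA
  have hm : x • v - v ∈ (fix A : AddSubgroup V) ⊓ fix (cj b E) := ⟨S.quad A hA x hx v, hmem⟩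
  rw [← S.inf_cj hfaith hA hA'm (Ne.symm h) he] at hm
  exact S.comm_not_mem hfaith hA (S.conj_mem A hA _ hA'm e he)
    (S.lab_cj_ne hfaith hA hA'm (Ne.symm h) he) hve hvA hx hx1 hm.2

/-- A vector of `C(A)` outside `C(B)` is moved by `B` over all of `C(B)`, modulo the common part. -/
theorem exists_line {A B : Subgroup H} (hA : A ∈ S.fam) (hB : B ∈ S.fam)
    (hAB : S.lab A ≠ S.lab B) {u : V} (hu : u ∈ (fix A : AddSubgroup V))
    (huB : u ∉ (fix B : AddSubgroup V)) {w : V} (hw : w ∈ (fix B : AddSubgroup V)) :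
    ∃ b ∈ B, ∃ z ∈ (fix A : AddSubgroup V) ⊓ fix B, w = b • u - u + z := by
  set C : AddSubgroup V := fix A ⊓ fix B with hC
  let f : ↥B × ↥C → ↥(fix B : AddSubgroup V) := fun x =>
    ⟨(x.1 : H) • u - u + (x.2 : V), add_mem (S.quad B hB _ x.1.2 u) x.2.2.2⟩
  have hf : Function.Injective f := by
    rintro ⟨a, c⟩ ⟨a', c'⟩ e
    have e0 : (a : H) • u - u + (c : V) = (a' : H) • u - u + (c' : V) := congrArg Subtype.val e
    set d : H := (a' : H)⁻¹ * (a : H) with hd
    have hdm : d ∈ B := B.mul_mem (B.inv_mem a'.2) a.2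
    have hcC : (c' : V) - c ∈ C := sub_mem c'.2 c.2
    have e1 : (a : H) • u = (a' : H) • u + ((c' : V) - c) := by
      linear_combination (norm := abel) e0
    have e2 : d • u - u = (c' : V) - c := by
      rw [hd, mul_smul, e1, smul_add, inv_smul_smul, hcC.2 _ (B.inv_mem a'.2)]
      abel
    have hd1 : d = 1 := by
      by_contra hd1
      exact S.comm_not_mem hfaith hB hA hAB.symm hu huB hdm hd1 (e2 ▸ hcC.1)
    rw [hd1, one_smul, sub_self, eq_comm, sub_eq_zero] at e2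
    have ha : a = a' := Subtype.ext (by
      rw [hd, inv_mul_eq_one] at hd1
      exact hd1.symm)
    subst ha
    exact Prod.ext rfl (Subtype.ext e2.symm)
  have hb := (Nat.bijective_iff_injective_and_card f).2 ⟨hf, by
    rw [Nat.card_prod, S.card B hB, (S.card_fix hfaith hB hA hAB.symm).1, hC, inf_comm]⟩
  obtain ⟨⟨a, c⟩, e⟩ := hb.2 ⟨w, hw⟩
  exact ⟨a, a.2, c, c.2, (congrArg Subtype.val e).symm⟩

end Cfsg.Agent.FFSL2.Sys

namespace Cfsg.Agent.FFPM

open FFSL2
open scoped Pointwise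

variable {H : Type*} [Group H] [Finite H] {V : Type*} [AddCommGroup V] [Finite V]
  [DistribMulAction H V] {p : ℕ} [hpp : Fact p.Prime] {q : ℕ}

theorem le_normalizer_of_cj {X Y : Subgroup H} (h : ∀ x ∈ X, cj x Y = Y) :
    X ≤ Subgroup.normalizer (Y : Set H) := by
  intro x hx
  rw [Subgroup.mem_normalizer_iff]
  intro z
  constructor
  · intro hz
    rw [← h x hx, mem_cj]
    simpa [mul_assoc] using hz
  · intro hz
    rw [← h x hx, mem_cj] at hz
    simpa [mul_assoc] using hz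

theorem cj_eq_of_mem_normalizer {X : Subgroup H} {x : H}
    (hx : x ∈ Subgroup.normalizer (X : Set H)) : cj x X = X := by
  ext z
  rw [mem_cj, (Subgroup.mem_normalizer_iff.1 hx) (x⁻¹ * z * x)]
  simp [mul_assoc]

theorem cj_eq_of_com {X Y : Subgroup H} (h : Com X Y) {x : H} (hx : x ∈ X) : cj x Y = Y := by
  refine le_antisymm (fun z hz => ?_) fun z hz => mem_cj.2 ?_
  · have h1 := mem_cj.1 hz
    have e := h x hx _ h1
    have e' : z = x⁻¹ * z * x := by
      conv_lhs => rw [show z = x * (x⁻¹ * z * x) * x⁻¹ by group, e]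
      group
    exact e' ▸ h1
  · have e := h x hx z hz
    rwa [mul_assoc, ← e, inv_mul_cancel_left]

/-- `p`-subgroups normalising one another generate a `p`-subgroup. -/
theorem isPGroup_sSup (s : Set (Subgroup H)) (hp : ∀ X ∈ s, IsPGroup p ↥X)
    (hn : ∀ X ∈ s, ∀ Y ∈ s, ∀ x ∈ X, cj x Y = Y) : IsPGroup p ↥(sSup s) := by
  induction s, Set.toFinite s using Set.Finite.induction_on with
  | empty => rw [sSup_empty]; exact IsPGroup.of_bot
  | @insert X s _ _ ih =>
    rw [sSup_insert]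
    refine (hp X (Set.mem_insert _ _)).to_sup_of_normal_right'
      (ih (fun Y hY => hp Y (Set.mem_insert_of_mem _ hY))
        fun Y hY Z hZ => hn Y (Set.mem_insert_of_mem _ hY) Z (Set.mem_insert_of_mem _ hZ))
      (le_normalizer_of_cj fun x hx => Subgroup.eq_of_le_of_card_ge ?_ (card_cj x _).ge)
    rw [le_cj_iff]
    refine sSup_le fun Y hY => ?_
    rw [← le_cj_iff, hn X (Set.mem_insert _ _) Y (Set.mem_insert_of_mem _ hY) x hx]
    exact le_sSup hY

/-- The members in a Sylow subgroup. -/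
def mems (V : Type*) [AddCommGroup V] [DistribMulAction H V] (q : ℕ) (T : Sylow p H) (g : H) :
    Set (Subgroup H) :=
  {A | Mem V q A ∧ A ≤ cj g (T : Subgroup H)}

/-- All members. -/
def allMem (H : Type*) [Group H] (V : Type*) [AddCommGroup V] [DistribMulAction H V] (q : ℕ) :
    Set (Subgroup H) :=
  {A | Mem V q A}

open scoped Classical in
/-- The conjugate of `M` above a member outside the common part. -/
noncomputable def labOf (T : Sylow p H) (M E X : Subgroup H) : Subgroup H :=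
  if e : ∃ i, X ⊔ E ≤ cj i (T : Subgroup H) then cj e.choose M else ⊥

namespace Conf

variable {T : Sylow p H} {M : Subgroup H} (h : Conf V q T M)
include h

theorem com_mems {g : H} {A B : Subgroup H} (hA : A ∈ mems V q T g) (hB : B ∈ mems V q T g) :
    Com A B :=
  Mem.com_of_isPGroup h.pm.faith h.no_over (isPGroup_cj g) hA.1 hB.1 hA.2 hB.2

theorem exists_max : ∃ g g', IsMax (allMem H V q) T M g g' :=
  h.pm.exists_isMax (fun A hA z => hA.conj z) h.exists_mem
    (fun A hA => isPGroup_of_quad h.pm.faith h.pm.exp hA.quad) (fun A hA => hA.ne_bot)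

variable {g g' : H} (hm : IsMax (allMem H V q) T M g g')
include hm

theorem com_comSup {X : Subgroup H} (hX : Mem V q X) {i : H}
    (hi : X ⊔ comSup (allMem H V q) T g g' ≤ cj i (T : Subgroup H)) :
    Com X (comSup (allMem H V q) T g g') := by
  intro x hx z hz
  have hle : comSup (allMem H V q) T g g' ≤ Subgroup.centralizer {x} := sSup_le fun Y hY y hy =>
    Subgroup.mem_centralizer_singleton_iff.2 (h.com_mems (g := i) ⟨hY.1,
      (le_sSup hY).trans (le_sup_right.trans hi)⟩ ⟨hX, le_sup_left.trans hi⟩ y hy x hx)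
  exact (Subgroup.mem_centralizer_singleton_iff.1 (hle hz)).symm

/-- The members normalising, but outside, the common part. -/
def fam (_h : Conf V q T M) (_hm : IsMax (allMem H V q) T M g g') : Set (Subgroup H) :=
  {X | Mem V q X ∧ X ≤ Subgroup.normalizer (comSup (allMem H V q) T g g' : Set H) ∧
    ¬ X ≤ comSup (allMem H V q) T g g'}

theorem fam_syl {X : Subgroup H} (hX : X ∈ h.fam hm) :
    ∃ i, X ⊔ comSup (allMem H V q) T g g' ≤ cj i (T : Subgroup H) :=
  h.pm.exists_lab hm hX.1 hX.2.1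

theorem lab_eq {X : Subgroup H} (hX : X ∈ h.fam hm) {i : H}
    (hi : X ⊔ comSup (allMem H V q) T g g' ≤ cj i (T : Subgroup H)) :
    labOf T M (comSup (allMem H V q) T g g') X = cj i M := by
  rw [labOf, dif_pos ⟨i, hi⟩]
  exact (h.pm.uniq_lab hm hX.1 hX.2.2 (Exists.choose_spec (p := fun i =>
    X ⊔ comSup (allMem H V q) T g g' ≤ cj i (T : Subgroup H)) ⟨i, hi⟩) hi).cj_eq

omit hm in
theorem rel_of_cj {i j : H} (e : cj i M = cj j M) : Rel M j i :=
  h.pm.rel_of_le ((Subgroup.map_mono h.pm.le_M).trans e.le)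

theorem cj_mem_fam {X : Subgroup H} (hX : X ∈ h.fam hm) {n : H}
    (hn : n ∈ Subgroup.normalizer (comSup (allMem H V q) T g g' : Set H)) :
    cj n X ∈ h.fam hm := by
  refine ⟨hX.1.conj n, fun z hz => ?_, fun e => hX.2.2 ?_⟩
  · have := Subgroup.mul_mem _ (Subgroup.mul_mem _ hn (hX.2.1 (mem_cj.1 hz)))
      (Subgroup.inv_mem _ hn)
    simpa [mul_assoc] using this
  · have h1 := le_cj_iff.1 e
    rwa [cj_eq_of_mem_normalizer (Subgroup.inv_mem _ hn)] at h1

theorem lab_cj {X : Subgroup H} (hX : X ∈ h.fam hm) {n : H}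
    (hn : n ∈ Subgroup.normalizer (comSup (allMem H V q) T g g' : Set H)) :
    labOf T M (comSup (allMem H V q) T g g') (cj n X) =
      cj n (labOf T M (comSup (allMem H V q) T g g') X) := by
  obtain ⟨i, hi⟩ := h.fam_syl hm hX
  rw [h.lab_eq hm hX hi, h.lab_eq hm (h.cj_mem_fam hm hX hn) (i := n * i), cj_mul]
  calc cj n X ⊔ comSup (allMem H V q) T g g'
      = cj n (X ⊔ comSup (allMem H V q) T g g') := by
        rw [cj, cj, Subgroup.map_sup]
        congr 1
        exact (cj_eq_of_mem_normalizer hn).symm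
    _ ≤ _ := by rw [cj_mul]; exact Subgroup.map_mono hi

theorem com_lab {A B : Subgroup H} (hA : A ∈ h.fam hm) (hB : B ∈ h.fam hm) (hAB : Com A B) :
    labOf T M (comSup (allMem H V q) T g g') A = labOf T M (comSup (allMem H V q) T g g') B := by
  obtain ⟨k, hk⟩ := h.pm.exists_syl (h.pm.isPGroup_sup hm
    ((isPGroup_of_quad h.pm.faith h.pm.exp hA.1.quad).to_sup_of_normal_right'
      (isPGroup_of_quad h.pm.faith h.pm.exp hB.1.quad)
      (le_normalizer_of_cj fun a ha => cj_eq_of_com hAB ha)) (sup_le hA.2.1 hB.2.1))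
  rw [h.lab_eq hm hA ((sup_le_sup_right le_sup_left _).trans hk),
    h.lab_eq hm hB ((sup_le_sup_right le_sup_right _).trans hk)]

/-- The system of outside members. -/
noncomputable def sys : Sys (H := H) (V := V) q (Subgroup H) where
  fam := h.fam hm
  lab := labOf T M (comSup (allMem H V q) T g g')
  card := fun A hA => hA.1.card
  quad := fun A hA => hA.1.quad
  le := fun A hA => hA.1.eq.ge
  conj_mem := fun A hA B hB a ha => h.cj_mem_fam hm hB (hA.2.1 ha)
  lab_conj := fun A hA B hB B' hB' a ha e => by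
    rw [h.lab_cj hm hB (hA.2.1 ha), h.lab_cj hm hB' (hA.2.1 ha), e]
  free := by
    intro A hA B hB hne a ha ha1 e
    obtain ⟨i, hi⟩ := h.fam_syl hm hA
    obtain ⟨j, hj⟩ := h.fam_syl hm hB
    rw [h.lab_cj hm hB (hA.2.1 ha), h.lab_eq hm hB hj, ← cj_mul] at e
    have haM : a ∈ cj j M := mem_cj_iff_rel.2 (h.rel_of_cj e)
    obtain ⟨y, hy, hle⟩ := h.pm.exists_syl_le
      ((isPGroup_of_quad h.pm.faith h.pm.exp hA.1.quad).to_inf_left (K := cj j M)) inf_le_right
    obtain ⟨w, hw, hwC⟩ := h.pm.exists_vec y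
    have hAw : A ≤ cj j M := fun b hb => hy.cj_eq ▸ h.pm.stab_le hw hwC
      (MulAction.mem_stabilizer_iff.2 (hA.1.elt a ha ha1 w (hw a (hle ⟨ha, haM⟩)) b hb))
    refine hne ?_
    rw [h.lab_eq hm hA hi, h.lab_eq hm hB hj]
    exact (h.pm.lab_le hm hA.1 hA.2.1 hA.2.2 hi
      (sup_le hAw ((le_sup_right.trans hj).trans (Subgroup.map_mono h.pm.le_M)))).cj_eq
  noncomm := fun A hA B hB hne hc => hne (h.com_lab hm hA hB hc)

theorem com_fam_comSup {X : Subgroup H} (hX : X ∈ h.fam hm) :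
    Com X (comSup (allMem H V q) T g g') := by
  obtain ⟨i, hi⟩ := h.fam_syl hm hX
  exact h.com_comSup hm hX.1 hi

theorem exists_opp {A : Subgroup H} (hA : A ∈ h.fam hm) :
    ∃ B ∈ h.fam hm, (h.sys hm).lab A ≠ (h.sys hm).lab B := by
  obtain ⟨i, hi⟩ := h.fam_syl hm hA
  obtain ⟨x, hx, hxi⟩ := h.pm.exists_move hm hA.1 hA.2.2 hi
  refine ⟨cj x A, h.cj_mem_fam hm hA hx, fun e => hxi (mem_cj_iff_rel.2 (h.rel_of_cj ?_))⟩
  have e' : labOf T M (comSup (allMem H V q) T g g') A =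
      labOf T M (comSup (allMem H V q) T g g') (cj x A) := e
  rw [h.lab_cj hm hA hx, h.lab_eq hm hA hi, ← cj_mul] at e'
  exact e'.symm

/-- The permutations of the members fixing every label. -/
noncomputable def labKer : Subgroup H where
  carrier := {n | n ∈ Subgroup.normalizer (comSup (allMem H V q) T g g' : Set H) ∧
    ∀ Z ∈ h.fam hm, (h.sys hm).lab (cj n Z) = (h.sys hm).lab Z}
  one_mem' := ⟨Subgroup.one_mem _, fun Z _ => by rw [cj_one]⟩
  mul_mem' := fun {a b} ha hb => ⟨Subgroup.mul_mem _ ha.1 hb.1, fun Z hZ => by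
    rw [cj_mul, ha.2 _ (h.cj_mem_fam hm hZ hb.1), hb.2 Z hZ]⟩
  inv_mem' := fun {a} ha => ⟨Subgroup.inv_mem _ ha.1, fun Z hZ => by
    have := ha.2 _ (h.cj_mem_fam hm hZ (Subgroup.inv_mem _ ha.1))
    rw [cj_cancel_inv] at this
    exact this.symm⟩

theorem com_of_lab {A B : Subgroup H} (hA : A ∈ h.fam hm) (hB : B ∈ h.fam hm)
    (e : (h.sys hm).lab A = (h.sys hm).lab B) : Com A B := by
  obtain ⟨C, hC, hne⟩ := h.exists_opp hm hA
  exact Mem.com_of_orth_left h.pm.faith h.no_over hA.1 hB.1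
    fun a ha v => (h.sys hm).comm_le h.pm.faith hA hC hB hne e ha v

/-- The members with the label of `Z`. -/
noncomputable def cls (Z : Subgroup H) : Subgroup H :=
  sSup {X | X ∈ h.fam hm ∧ (h.sys hm).lab X = (h.sys hm).lab Z}

theorem cj_cls {Z : Subgroup H} (hZ : Z ∈ h.fam hm) {n : H}
    (hn : n ∈ Subgroup.normalizer (comSup (allMem H V q) T g g' : Set H)) :
    cj n (h.cls hm Z) = h.cls hm (cj n Z) := by
  have key : ∀ {Z : Subgroup H}, Z ∈ h.fam hm → ∀ {n : H},
      n ∈ Subgroup.normalizer (comSup (allMem H V q) T g g' : Set H) →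
      cj n (h.cls hm Z) ≤ h.cls hm (cj n Z) := by
    intro Z hZ n hn
    rw [le_cj_iff]
    refine sSup_le fun X hX => le_cj_iff.1 (le_sSup ⟨h.cj_mem_fam hm hX.1 hn, ?_⟩)
    show labOf T M _ (cj n X) = labOf T M _ (cj n Z)
    rw [h.lab_cj hm hX.1 hn, h.lab_cj hm hZ hn]
    exact congrArg (cj n) hX.2
  refine le_antisymm (key hZ hn) ?_
  have h1 := key (h.cj_mem_fam hm hZ hn) (Subgroup.inv_mem _ hn)
  rw [cj_inv_cancel, le_cj_iff, inv_inv] at h1
  exact h1

/-- The elements of the classes fixing all labels. -/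
noncomputable def kerSup : Subgroup H :=
  sSup ((fun Z => h.cls hm Z ⊓ h.labKer hm) '' h.fam hm)

theorem kerSup_spec : IsPGroup p ↥(h.kerSup hm) ∧
    ∀ n ∈ Subgroup.normalizer (comSup (allMem H V q) T g g' : Set H),
      cj n (h.kerSup hm) = h.kerSup hm := by
  have hnorm : ∀ {n k : H}, n ∈ Subgroup.normalizer (comSup (allMem H V q) T g g' : Set H) →
      k ∈ h.labKer hm → n * k * n⁻¹ ∈ h.labKer hm := by
    intro n k hn hk
    refine ⟨Subgroup.mul_mem _ (Subgroup.mul_mem _ hn hk.1) (Subgroup.inv_mem _ hn), fun Z hZ => ?_⟩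
    have hZ' := h.cj_mem_fam hm hZ (Subgroup.inv_mem _ hn)
    have e := hk.2 _ hZ'
    show labOf T M _ _ = labOf T M _ _
    rw [cj_mul, cj_mul, h.lab_cj hm (h.cj_mem_fam hm hZ' hk.1) hn]
    rw [show labOf T M _ (cj k (cj n⁻¹ Z)) = labOf T M _ (cj n⁻¹ Z) from e,
      ← h.lab_cj hm hZ' hn, cj_cancel_inv]
  have hterm : ∀ Z ∈ h.fam hm, ∀ n ∈ Subgroup.normalizer (comSup (allMem H V q) T g g' : Set H),
      cj n (h.cls hm Z ⊓ h.labKer hm) = h.cls hm (cj n Z) ⊓ h.labKer hm := by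
    intro Z hZ n hn
    rw [cj, Subgroup.map_inf _ _ _ (MulAut.conj n).injective, ← cj, ← cj, h.cj_cls hm hZ hn]
    congr 1
    refine Subgroup.eq_of_le_of_card_ge (fun x hx => ?_) (card_cj n _).ge
    simpa [mul_assoc] using hnorm hn (mem_cj.1 hx)
  refine ⟨isPGroup_sSup _ ?_ ?_, fun n hn => ?_⟩
  · rintro _ ⟨Z, hZ, rfl⟩
    refine (isPGroup_sSup _ (fun X hX => isPGroup_of_quad h.pm.faith h.pm.exp hX.1.1.quad)
      fun X hX Y hY x hx => cj_eq_of_com (h.com_of_lab hm hX.1 hY.1 (hX.2.trans hY.2.symm)) hx).to_le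
      inf_le_left
  · rintro _ ⟨Z, hZ, rfl⟩ _ ⟨W, hW, rfl⟩ n hn
    show cj n (h.cls hm W ⊓ h.labKer hm) = h.cls hm W ⊓ h.labKer hm
    rw [hterm W hW n hn.2.1]
    congr 1
    show sSup _ = sSup _
    rw [hn.2.2 W hW]
  · refine Subgroup.eq_of_le_of_card_ge ?_ (card_cj n _).ge
    rw [le_cj_iff]
    refine sSup_le ?_
    rintro _ ⟨Z, hZ, rfl⟩
    show h.cls hm Z ⊓ h.labKer hm ≤ _
    rw [← le_cj_iff, hterm Z hZ n hn]
    exact le_sSup ⟨_, h.cj_mem_fam hm hZ hn, rfl⟩

/-- A member lies with the whole kernel in a Sylow subgroup having its label. -/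
theorem exists_syl_ker {A : Subgroup H} (hA : A ∈ h.fam hm) :
    ∃ k, A ⊔ comSup (allMem H V q) T g g' ≤ cj k (T : Subgroup H) ∧
      h.kerSup hm ≤ cj k (T : Subgroup H) := by
  have hkN : h.kerSup hm ≤ Subgroup.normalizer (comSup (allMem H V q) T g g' : Set H) :=
    sSup_le (by rintro _ ⟨Z, _, rfl⟩ x hx; exact hx.2.1)
  obtain ⟨k, hk⟩ := h.pm.exists_syl (h.pm.isPGroup_sup hm
    ((isPGroup_of_quad h.pm.faith h.pm.exp hA.1.quad).to_sup_of_normal_right' (h.kerSup_spec hm).1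
      (le_normalizer_of_cj fun a ha => (h.kerSup_spec hm).2 a (hA.2.1 ha)))
    (sup_le hA.2.1 hkN))
  exact ⟨k, (sup_le_sup_right le_sup_left _).trans hk,
    (le_sup_right.trans le_sup_left).trans hk⟩

/-- The vectors fixed by the kernel cover the module modulo each `C(A)`. -/
theorem sup_kerSup {A : Subgroup H} (hA : A ∈ h.fam hm) :
    (fix (h.kerSup hm) : AddSubgroup V) ⊔ fix A = ⊤ := by
  set S := h.sys hm
  have hf := h.pm.faith
  obtain ⟨B, hB, hne⟩ := h.exists_opp hm hA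
  obtain ⟨k, hk, hkQ⟩ := h.exists_syl_ker hm hA
  set Y : AddSubgroup V := fix (h.kerSup hm) with hY
  obtain ⟨u, hu, huC⟩ := h.pm.exists_vec k
  have huY : u ∈ Y := fun z hz => hu z (hkQ hz)
  have huA : u ∈ (fix A : AddSubgroup V) := fun z hz => hu z (le_sup_left.trans hk hz)
  have huB : u ∉ (fix B : AddSubgroup V) := fun hc => hne (by
    obtain ⟨j, hj⟩ := h.fam_syl hm hB
    show labOf T M _ A = labOf T M _ B
    rw [h.lab_eq hm hA hk, h.lab_eq hm hB hj]
    refine (h.pm.lab_le hm hB.1 hB.2.1 hB.2.2 hj (sup_le (fun b hb => ?_) ?_)).cj_eq.symm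
    · exact h.pm.stab_le hu huC (MulAction.mem_stabilizer_iff.2 (hc b hb))
    · exact (le_sup_right.trans hk).trans (Subgroup.map_mono h.pm.le_M))
  rw [eq_top_iff, ← (S.card_fix hf hA hB hne).2]
  refine sup_le le_sup_right fun w hw => ?_
  obtain ⟨b, hb, z, hz, rfl⟩ := S.exists_line hf hA hB hne huA huB hw
  refine add_mem ((le_sup_left : Y ≤ _) (sub_mem ?_ huY))
    ((le_sup_right : (fix A : AddSubgroup V) ≤ _) hz.1)
  rw [hY, ← (h.kerSup_spec hm).2 b (hB.2.1 hb), mem_fix_cj, inv_smul_smul]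
  exact huY

/-- Equally labelled members coincide. -/
theorem lab_inj {A X : Subgroup H} (hA : A ∈ h.fam hm) (hX : X ∈ h.fam hm)
    (e : (h.sys hm).lab A = (h.sys hm).lab X) : A = X := by
  classical
  by_contra hAX
  set S := h.sys hm with hS
  have hf := h.pm.faith
  obtain ⟨B, hB, hne⟩ := h.exists_opp hm hA
  have hneX : S.lab X ≠ S.lab B := fun e' => hne (e.trans e')
  have hAXc : Com A X := h.com_of_lab hm hA hX e
  obtain ⟨k, hk, hkQ⟩ := h.exists_syl_ker hm hA
  obtain ⟨k', hk', hkQ'⟩ := h.exists_syl_ker hm hB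
  -- the elements of `A X` fixing all labels
  set T₂ := (A ⊔ X) ⊓ h.labKer hm with hT₂
  have hAXN : A ⊔ X ≤ Subgroup.normalizer (comSup (allMem H V q) T g g' : Set H) :=
    sup_le hA.2.1 hX.2.1
  have hstep : ∀ x ∈ X, ∃ a ∈ A, a⁻¹ * x ∈ T₂ := by
    intro x hx
    have hxB := h.cj_mem_fam hm hB (hX.2.1 hx)
    have hnA : S.lab (cj x B) ≠ S.lab A := fun e' => hneX (by
      refine absurd (e'.trans e) ?_
      exact (S.lab_cj_ne hf hX hB hneX hx).symm)
    obtain ⟨a, ha, ea⟩ := S.exists_cj_lab hf hB hA hxB hne.symm hnA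
    have hat : a * x ∈ A ⊔ X := Subgroup.mul_mem _ (Subgroup.mem_sup_left ha) (Subgroup.mem_sup_right hx)
    refine ⟨a⁻¹, A.inv_mem ha, by rwa [inv_inv], ?_⟩
    rw [inv_inv]
    refine ⟨hAXN hat, fun Z hZ => ?_⟩
    have hcomA : cj (a * x) A = A := by
      rw [cj_mul, cj_eq_of_com hAXc.symm hx, cj_self ha]
    have hBt : S.lab (cj (a * x) B) = S.lab B := by rw [cj_mul]; exact ea
    by_cases hZA : S.lab Z = S.lab A
    · show labOf T M _ (cj (a * x) Z) = labOf T M _ Z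
      rw [h.lab_cj hm hZ (hAXN hat), show labOf T M _ Z = labOf T M _ A from hZA,
        ← h.lab_cj hm hA (hAXN hat), hcomA]
    · obtain ⟨a', ha', ea'⟩ := S.exists_cj_lab hf hB hA hZ hne.symm hZA
      show labOf T M _ (cj (a * x) Z) = labOf T M _ Z
      have e2 : labOf T M (comSup (allMem H V q) T g g') Z =
          cj a'⁻¹ (labOf T M (comSup (allMem H V q) T g g') B) := by
        rw [show labOf T M _ B = labOf T M _ (cj a' Z) from ea'.symm,
          h.lab_cj hm hZ (hA.2.1 ha'), cj_inv_cancel]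
      rw [h.lab_cj hm hZ (hAXN hat), e2, ← cj_mul,
        show a * x * a'⁻¹ = a'⁻¹ * (a * x) by
          rw [mul_assoc, ← hAXc _ (A.inv_mem ha') x hx, ← mul_assoc, ← mul_assoc,
            com_self hf hA.1.quad a ha _ (A.inv_mem ha')],
        cj_mul, ← h.lab_cj hm hB (hAXN hat)]
      exact congrArg (cj a'⁻¹) hBt
  have hT₂Q : T₂ ≤ h.kerSup hm := by
    refine le_trans ?_ (le_sSup ⟨A, hA, rfl⟩)
    exact inf_le_inf_right _ (sup_le (le_sSup ⟨hA, rfl⟩) (le_sSup ⟨hX, e.symm⟩))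
  have hAK : ∀ a ∈ A, a ∈ h.labKer hm → a = 1 := fun a ha hk' => by
    by_contra ha1
    exact S.free A hA B hB hne a ha ha1 (hk'.2 B hB)
  -- order of `T₂`
  have hprod : ∀ t ∈ A ⊔ X, ∃ a ∈ A, ∃ x ∈ X, t = a * x := by
    intro t ht
    have := Subgroup.coe_mul_of_left_le_normalizer_right A X
      (le_normalizer_of_cj fun a ha => cj_eq_of_com hAXc ha)
    have ht' : t ∈ ((A : Set H) * (X : Set H)) := by rw [← this] ; exact ht
    obtain ⟨a, ha, x, hx, rfl⟩ := ht'
    exact ⟨a, ha, x, hx, rfl⟩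
  choose φ hφA hφ using hstep
  have hle : Nat.card ↥T₂ ≤ q := by
    choose ψa hψa ψx hψx hψ using hprod
    let f : ↥T₂ → ↥X := fun t => ⟨ψx t t.2.1, hψx t t.2.1⟩
    rw [← hX.1.card]
    refine Nat.card_le_card_of_injective f fun t t' et => Subtype.ext ?_
    have ex : ψx t t.2.1 = ψx t' t'.2.1 := congrArg Subtype.val et
    have h1 : (t : H) * (t' : H)⁻¹ ∈ A := by
      rw [hψ t t.2.1, hψ t' t'.2.1, ex, mul_inv_rev, mul_assoc, mul_inv_cancel_left]
      exact A.mul_mem (hψa _ _) (A.inv_mem (hψa _ _))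
    exact mul_inv_eq_one.1 (hAK _ h1 ((h.labKer hm).mul_mem t.2.2 ((h.labKer hm).inv_mem t'.2.2)))
  have hge : q ≤ Nat.card ↥T₂ := by
    let f : ↥X → ↥T₂ := fun x => ⟨_, hφ x x.2⟩
    rw [← hX.1.card]
    refine Nat.card_le_card_of_injective f fun x x' et => Subtype.ext ?_
    have e' : (φ x x.2)⁻¹ * (x : H) = (φ x' x'.2)⁻¹ * (x' : H) := congrArg Subtype.val et
    have h1 : (x : H) * (x' : H)⁻¹ ∈ A ⊓ X := by
      refine ⟨?_, X.mul_mem x.2 (X.inv_mem x'.2)⟩
      rw [← eq_inv_mul_iff_mul_eq, inv_inv] at e'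
      rw [e', mul_assoc, mul_assoc, mul_inv_cancel, mul_one]
      exact A.mul_mem (hφA _ _) (A.inv_mem (hφA _ _))
    rw [Mem.inf_eq_bot hf h.no_over hA.1 hX.1 hAX, Subgroup.mem_bot] at h1
    exact mul_inv_eq_one.1 h1
  -- its fixed space
  set Y : AddSubgroup V := fix (h.kerSup hm) with hY
  have htop : Y ⊔ fix A = ⊤ := h.sup_kerSup hm hA
  have hXA : (fix A : AddSubgroup V) ⊔ fix X = ⊤ :=
    Mem.sup_of_com hf h.no_over hA.1 hX.1 hAX hAXc
  have hfixT : Y ⊔ ((fix A : AddSubgroup V) ⊓ fix X) ≤ fix T₂ := by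
    refine sup_le (fun v hv t ht => hv t (hT₂Q ht)) ?_
    rw [← fix_sup]
    exact fun v hv t ht => hv t ht.1
  have hmu : Nat.card V ≤ mu V T₂ := by
    set J : AddSubgroup V := fix A ⊓ fix X with hJ
    have c1 := card_sup_mul_card_inf Y J
    have c2 := card_sup_mul_card_inf Y (fix A : AddSubgroup V)
    have c3 := card_sup_mul_card_inf (fix A : AddSubgroup V) (fix X)
    rw [htop, AddSubgroup.card_top] at c2
    rw [hXA, AddSubgroup.card_top, ← hJ] at c3
    have c4 : Nat.card ↥(Y ⊓ J) ≤ Nat.card ↥(Y ⊓ (fix A : AddSubgroup V)) :=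
      AddSubgroup.card_le_of_le (inf_le_inf_left _ inf_le_left)
    have c5 : Nat.card ↥(Y ⊔ J) ≤ Nat.card ↥(fix T₂ : AddSubgroup V) :=
      AddSubgroup.card_le_of_le hfixT
    have cA := hA.1.eq
    have cX := hX.1.eq
    have pY : 0 < Nat.card ↥(Y ⊓ (fix A : AddSubgroup V)) := Nat.card_pos
    have pJ : 0 < Nat.card ↥(fix A : AddSubgroup V) := Nat.card_pos
    have pq : 0 < q := by have := hA.1.two_le; omega
    refine le_trans ?_ (Nat.mul_le_mul hge c5)
    refine Nat.le_of_mul_le_mul_right ?_ (Nat.mul_pos pY pJ)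
    calc Nat.card V * (Nat.card ↥(Y ⊓ (fix A : AddSubgroup V)) * Nat.card ↥(fix A : AddSubgroup V))
        = Nat.card ↥Y * Nat.card ↥(fix A : AddSubgroup V) * Nat.card ↥(fix A : AddSubgroup V) := by
          rw [← c2]; ring
      _ = q * (Nat.card ↥Y * Nat.card ↥J) * Nat.card ↥(fix A : AddSubgroup V) := by
          have e1 : Nat.card ↥(fix A : AddSubgroup V) = q * Nat.card ↥J := by
            refine Nat.eq_of_mul_eq_mul_right (Nat.card_pos (α := ↥(fix X : AddSubgroup V))) ?_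
            rw [← c3, ← cX]
            ring
          conv_lhs => arg 1; arg 2; rw [e1]
          ring
      _ = q * (Nat.card ↥(Y ⊔ J) * Nat.card ↥(Y ⊓ J)) * Nat.card ↥(fix A : AddSubgroup V) := by
          rw [c1]
      _ ≤ q * (Nat.card ↥(Y ⊔ J) * Nat.card ↥(Y ⊓ (fix A : AddSubgroup V))) *
            Nat.card ↥(fix A : AddSubgroup V) := by gcongr
      _ = _ := by ring
  have hquad : Quad V T₂ := quad_mono (quad_sup hA.1.quad hX.1.quad
    (Mem.orth_of_com hf h.no_over hA.1 hX.1 hAXc)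
    (Mem.orth_of_com hf h.no_over hX.1 hA.1 hAXc.symm)) inf_le_left
  have hbot : T₂ ≠ ⊥ := fun e' => by
    rw [e', Subgroup.card_bot] at hge
    have := hA.1.two_le
    omega
  have hTm : Mem V q T₂ := h.of_off T₂ hbot hquad hmu hle
  have hTE : T₂ ≤ comSup (allMem H V q) T g g' := by
    by_contra hTE
    refine hne ?_
    show labOf T M _ A = labOf T M _ B
    rw [h.lab_eq hm hA hk, h.lab_eq hm hB hk']
    exact (h.pm.uniq_lab hm hTm hTE (sup_le (hT₂Q.trans hkQ) (le_sup_right.trans hk))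
      (sup_le (hT₂Q.trans hkQ') (le_sup_right.trans hk'))).cj_eq
  have hTB : Orth V T₂ B := Mem.orth_of_com hf h.no_over hTm hB.1
    ((h.com_fam_comSup hm hB).mono le_rfl hTE).symm
  -- `X` fixes `C(A)`
  refine hAX (Mem.eq_of_fix_eq hf h.no_over hA.1 hX.1 (AddSubgroup.eq_of_le_of_card_ge
    (fun v hv x hx => ?_) (Nat.eq_of_mul_eq_mul_left
      (by have := hA.1.two_le; omega) (hX.1.eq.trans hA.1.eq.symm)).le))
  have htopX : Y ⊔ fix X = ⊤ := h.sup_kerSup hm hX
  obtain ⟨y, hy, c, hc, hyc⟩ := AddSubgroup.mem_sup.1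
    (htopX ▸ AddSubgroup.mem_top v : v ∈ Y ⊔ fix X)
  set a := φ x hx with ha
  have hty : (a⁻¹ * x) • y = y := hy _ (hT₂Q (hφ x hx))
  rw [mul_smul, inv_smul_eq_iff] at hty
  have ht : (a⁻¹ * x) • v - v = a • y - y := by
    have hav : ∀ w : V, x • w - w ∈ (fix A : AddSubgroup V) := fun w =>
      Mem.orth_of_com hf h.no_over hX.1 hA.1 hAXc.symm x hx w
    have e1 : a⁻¹ • (x • v - v) = x • v - v := hav v _ (A.inv_mem (hφA x hx))
    rw [smul_sub, sub_eq_iff_eq_add, hv _ (A.inv_mem (hφA x hx)), sub_add_cancel] at e1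
    rw [mul_smul, e1, ← hyc, smul_add, hty, hc x hx]
    abel
  have hmem : a • y - y ∈ (fix B : AddSubgroup V) := ht ▸ hTB _ (hφ x hx) v
  have hyA : a • y = y := by
    by_cases ha1 : a = 1
    · rw [ha1, one_smul]
    obtain ⟨c₁, hc₁, c₂, hc₂, e₁⟩ := AddSubgroup.mem_sup.1
      ((S.card_fix hf hA hB hne).2.symm ▸ AddSubgroup.mem_top y :
        y ∈ (fix A : AddSubgroup V) ⊔ fix B)
    rw [← e₁, smul_add, hc₁ a (hφA x hx), add_right_inj]
    rw [← e₁, smul_add, hc₁ a (hφA x hx), add_sub_add_left_eq_sub] at hmem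
    by_contra hne'
    refine S.comm_not_mem hf hA hB hne hc₂ (fun hh => hne' ?_) (hφA x hx) ha1 hmem
    exact hh a (hφA x hx)
  rw [← hyc, smul_add, hty, hyA, hc x hx]

end Conf

end Cfsg.Agent.FFPM
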