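import Cfsg.Agent.Lib.Thompson.FFPM.Label

/-!
Every member of a Sylow subgroup can be exchanged alone; the resulting pencils generate a normal
supplement of the Sylow subgroup, which permutes them transitively.
-/

set_option autoImplicit false
set_option linter.unusedSectionVars false

namespace Cfsg.Agent.FFPM

open FFSL2

variable {H : Type*} [Group H] [Finite H] {V : Type*} [AddCommGroup V] [Finite V]
  [DistribMulAction H V] {p : ℕ} [hpp : Fact p.Prime] {q : ℕ}

/-- `A` alone is exchanged on passing from the Sylow subgroup at `g` to that at `g'`. -/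
def Opp (V : Type*) [AddCommGroup V] [DistribMulAction H V] (q : ℕ) (T : Sylow p H) (M : Subgroup H)
    (g : H) (A : Subgroup H) (g' : H) : Prop :=
  ¬ Rel M g g' ∧ A ∈ mems V q T g ∧ ∀ X ∈ mems V q T g, X ≠ A → X ∈ mems V q T g'

/-- The members commuting with all members at `g` other than `A`. -/
def line (V : Type*) [AddCommGroup V] [DistribMulAction H V] (q : ℕ) (T : Sylow p H) (g : H)
    (A : Subgroup H) : Set (Subgroup H) :=
  {X | Mem V q X ∧ (∀ B ∈ mems V q T g, B ≠ A → Com X B) ∧ (X ∈ mems V q T g → X = A)}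

theorem mems_cj {T : Sylow p H} {g z : H} {A : Subgroup H} (hA : A ∈ mems V q T g) :
    cj z A ∈ mems V q T (z * g) :=
  ⟨hA.1.conj z, by rw [cj_mul]; exact Subgroup.map_mono hA.2⟩

theorem mems_cj_iff {T : Sylow p H} {g z : H} {A : Subgroup H} :
    cj z A ∈ mems V q T (z * g) ↔ A ∈ mems V q T g := by
  refine ⟨fun h => ?_, mems_cj⟩
  have := mems_cj (z := z⁻¹) h
  rwa [cj_inv_cancel, inv_mul_cancel_left] at this

theorem mems_mul_of_mem {T : Sylow p H} {g t : H} (ht : t ∈ cj g (T : Subgroup H)) :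
    mems V q T (t * g) = mems V q T g := by
  ext A
  rw [mems, mems, cj_mul, cj_self ht]

theorem mems_cj_of_mem {T : Sylow p H} {g t : H} {A : Subgroup H} (ht : t ∈ cj g (T : Subgroup H))
    (hA : A ∈ mems V q T g) : cj t A ∈ mems V q T g :=
  mems_mul_of_mem (V := V) (q := q) ht ▸ mems_cj hA

theorem cj_line {T : Sylow p H} {g t : H} {A X : Subgroup H} (ht : t ∈ cj g (T : Subgroup H))
    (hX : X ∈ line V q T g A) : cj t X ∈ line V q T g (cj t A) := by
  refine ⟨hX.1.conj t, fun B hB hne => ?_, fun h => ?_⟩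
  · have hB' := mems_cj_of_mem ((cj g (T : Subgroup H)).inv_mem ht) hB
    have := com_cj (g := t) (hX.2.1 _ hB' fun e => hne (by rw [← e, cj_cancel_inv]))
    rwa [cj_cancel_inv] at this
  · have h1 := mems_cj_of_mem ((cj g (T : Subgroup H)).inv_mem ht) h
    rw [cj_inv_cancel] at h1
    rw [hX.2.2 h1]

namespace Conf

variable {T : Sylow p H} {M : Subgroup H} (h : Conf V q T M)
include h

theorem exists_cand {A : Subgroup H} (hA : Mem V q A) : Cand V A := by
  have hmu : mu V A = Nat.card V := by rw [mu, hA.card]; exact hA.eq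
  refine ⟨hA.ne_bot, hA.quad, hmu.ge, fun B hB hB0 hBne => ?_⟩
  rw [hmu]
  by_contra hle
  have hBm := h.of_off B hB0 (quad_mono hA.quad hB) (not_lt.1 hle)
    ((Subgroup.card_le_of_le hB).trans hA.card.le)
  exact hBne (Subgroup.eq_of_le_of_card_ge hB (by rw [hA.card, hBm.card]))

theorem mems_eq_insert {g g' : H} (hm : IsMax (allMem H V q) T M g g') {A : Subgroup H}
    (hA : A ∈ allMem H V q) (hAS : A ≤ cj g (T : Subgroup H))
    (hAE : ¬ A ≤ comSup (allMem H V q) T g g') :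
    mems V q T g = insert A (common (allMem H V q) T g g') := by
  have hE : comSup (allMem H V q) T g g' ≤ cj g (T : Subgroup H) :=
    (comSup_le _ _ _ _).trans inf_le_left
  have hN : ∀ X ∈ mems V q T g, X ≤ Subgroup.normalizer
      (comSup (allMem H V q) T g g' : Set H) := fun X hX =>
    le_normalizer_of_cj fun x hx => cj_eq_of_com (h.com_comSup hm hX.1 (sup_le hX.2 hE)) hx
  ext X
  constructor
  · intro hX
    by_cases hXE : X ≤ comSup (allMem H V q) T g g'
    · exact Or.inr ⟨hX.1, hX.2, hXE.trans ((comSup_le _ _ _ _).trans inf_le_right)⟩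
    · refine Or.inl (h.lab_inj hm (A := X) (X := A) ⟨hX.1, hN X hX, hXE⟩
        ⟨hA, hN A ⟨hA, hAS⟩, hAE⟩ ?_)
      show labOf T M _ X = labOf T M _ A
      rw [h.lab_eq hm ⟨hX.1, hN X hX, hXE⟩ (sup_le hX.2 hE),
        h.lab_eq hm ⟨hA, hN A ⟨hA, hAS⟩, hAE⟩ (sup_le hAS hE)]
  · rintro (rfl | hX)
    · exact ⟨hA, hAS⟩
    · exact ⟨hX.1, hX.2.1⟩

omit h in
theorem ncard_mems_mul (g z : H) :
    (mems V q T g).ncard = (mems V q T (z * g)).ncard := by
  refine le_antisymm
    (Set.ncard_le_ncard_of_injOn (cj z) (fun A hA => mems_cj hA) (cj_injective z).injOn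
      (Set.toFinite _))
    (Set.ncard_le_ncard_of_injOn (cj z⁻¹) (fun A hA => ?_) (cj_injective _).injOn (Set.toFinite _))
  have := mems_cj (z := z⁻¹) hA
  rwa [inv_mul_cancel_left] at this

theorem exists_opp_pair (g : H) : ∃ A g', Opp V q T M g A g' := by
  obtain ⟨i, j, hm⟩ := h.exists_max
  obtain ⟨A, hA, hAS, -, hAE⟩ := h.pm.exists_outside hm
  have e := h.mems_eq_insert hm hA hAS hAE
  set z := g * i⁻¹ with hz
  have hzi : z * i = g := inv_mul_cancel_right g i
  refine ⟨cj z A, z * j, fun hr => hm.not_rel ?_, hzi ▸ mems_cj ⟨hA, hAS⟩, fun X hX hne => ?_⟩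
  · have := hr.mul_left z⁻¹
    rwa [← hzi, inv_mul_cancel_left, inv_mul_cancel_left] at this
  · rw [← hzi, ← cj_cancel_inv z X, mems_cj_iff] at hX
    rw [← cj_cancel_inv z X, mems_cj_iff]
    rw [e] at hX
    rcases hX with hX | hX
    · exact absurd (by rw [← hX, cj_cancel_inv]) hne
    · exact ⟨hX.1, hX.2.2⟩

variable {g g' : H} {A : Subgroup H} (ho : Opp V q T M g A g')
include ho

theorem opp_spec : IsMax (allMem H V q) T M g g' ∧
    common (allMem H V q) T g g' = mems V q T g \ {A} ∧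
    ¬ A ≤ comSup (allMem H V q) T g g' := by
  obtain ⟨i, j, hm⟩ := h.exists_max
  obtain ⟨A', hA', hAS', -, hAE'⟩ := h.pm.exists_outside hm
  have e := h.mems_eq_insert hm hA' hAS' hAE'
  have hn : (mems V q T i).ncard = (common (allMem H V q) T i j).ncard + 1 := by
    rw [e, Set.ncard_insert_of_notMem (fun hh => hAE' (le_sSup hh)) (Set.toFinite _)]
  have hk : (mems V q T g).ncard = (common (allMem H V q) T i j).ncard + 1 := by
    rw [← hn, ncard_mems_mul i (g * i⁻¹), inv_mul_cancel_right]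
  have hsub : mems V q T g \ {A} ⊆ common (allMem H V q) T g g' := fun X hX =>
    ⟨hX.1.1, hX.1.2, (ho.2.2 X hX.1 hX.2).2⟩
  have hc : (mems V q T g \ {A}).ncard = (common (allMem H V q) T i j).ncard := by
    rw [Set.ncard_sdiff_singleton_of_mem ho.2.1, hk, Nat.add_sub_cancel]
  have heq : mems V q T g \ {A} = common (allMem H V q) T g g' :=
    Set.eq_of_subset_of_ncard_le hsub (hc ▸ hm.le g g' ho.1) (Set.toFinite _)
  have hm' : IsMax (allMem H V q) T M g g' :=
    ⟨hm.conj_mem, hm.nonempty, hm.pgroup, hm.ne_bot, ho.1, fun a b hab =>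
      (hm.le a b hab).trans (by rw [← heq, hc])⟩
  refine ⟨hm', heq.symm, fun hAE => ?_⟩
  have : A ∈ common (allMem H V q) T g g' :=
    ⟨ho.2.1.1, ho.2.1.2, hAE.trans ((comSup_le _ _ _ _).trans inf_le_right)⟩
  rw [← heq] at this
  exact this.2 rfl

theorem fam_eq_line : h.fam (h.opp_spec ho).1 = line V q T g A := by
  obtain ⟨hm, hc, hAE⟩ := h.opp_spec ho
  ext X
  constructor
  · intro hX
    refine ⟨hX.1, fun B hB hne => (h.com_fam_comSup hm hX).mono le_rfl (le_sSup ?_), fun hXm => ?_⟩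
    · rw [hc]; exact ⟨hB, hne⟩
    · by_contra hne
      refine hX.2.2 (le_sSup ?_)
      rw [hc]; exact ⟨hXm, hne⟩
  · intro hX
    refine ⟨hX.1, le_normalizer_of_cj fun x hx => cj_eq_of_com ?_ hx, fun hXE => ?_⟩
    · intro x hx z hz
      have hle : comSup (allMem H V q) T g g' ≤ Subgroup.centralizer {x} := sSup_le fun Y hY y hy => by
        rw [hc] at hY
        exact Subgroup.mem_centralizer_singleton_iff.2 (hX.2.1 Y hY.1 hY.2 x hx y hy).symm
      exact (Subgroup.mem_centralizer_singleton_iff.1 (hle hz)).symm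
    · have hXS : X ∈ mems V q T g := ⟨hX.1, hXE.trans ((comSup_le _ _ _ _).trans inf_le_left)⟩
      exact hAE (hX.2.2 hXS ▸ hXE)

theorem exists_sys_opp : ∃ S : Sys (H := H) (V := V) q (Subgroup H), S.fam = line V q T g A ∧
    Set.InjOn S.lab S.fam :=
  ⟨h.sys (h.opp_spec ho).1, h.fam_eq_line ho, fun _ hX _ hY e => h.lab_inj _ hX hY e⟩

theorem exists_not_le_opp : A ∈ line V q T g A ∧
    ∃ B ∈ line V q T g A, ¬ B ≤ cj g M := by
  obtain ⟨hm, hc, hAE⟩ := h.opp_spec ho
  have hA : A ∈ h.fam hm := by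
    rw [h.fam_eq_line ho]
    exact ⟨ho.2.1.1, fun B hB _ => h.com_mems ho.2.1 hB, fun _ => rfl⟩
  have hle : A ⊔ comSup (allMem H V q) T g g' ≤ cj g (T : Subgroup H) :=
    sup_le ho.2.1.2 ((comSup_le _ _ _ _).trans inf_le_left)
  obtain ⟨x, hx, hxg⟩ := h.pm.exists_move hm hA.1 hA.2.2 hle
  rw [← h.fam_eq_line ho]
  exact ⟨hA, cj x A, h.cj_mem_fam hm hA hx, h.pm.not_le_lab hm hA.1 hA.2.1 hA.2.2 hle hx hxg⟩

omit ho

/-- An invariant set of exchangeable members is everything. -/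
theorem eq_mems_of_invariant {g : H} {O : Set (Subgroup H)} (hO : O ⊆ mems V q T g)
    (hne : O.Nonempty) (hfree : ∀ A ∈ O, ∃ g', Opp V q T M g A g')
    (hinv : ∀ t ∈ cj g (T : Subgroup H), ∀ A ∈ O, cj t A ∈ O) : O = mems V q T g := by
  refine Set.Subset.antisymm hO fun B hB => ?_
  by_contra hBO
  set S := cj g (T : Subgroup H) with hS
  set N := sSup {X | ∃ A ∈ O, X ∈ line V q T g A} with hN
  have hSN : S ≤ Subgroup.normalizer (N : Set H) := le_normalizer_of_cj fun t ht =>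
    Subgroup.eq_of_le_of_card_ge (by
      rw [le_cj_iff]
      refine sSup_le ?_
      rintro X ⟨A, hA, hX⟩
      exact le_cj_iff.1 (le_sSup ⟨_, hinv t ht A hA, cj_line ht hX⟩)) (card_cj t N).ge
  have hNle : ¬ N ≤ cj g M := by
    obtain ⟨A, hA⟩ := hne
    obtain ⟨g', hg'⟩ := hfree A hA
    obtain ⟨-, X, hX, hXg⟩ := h.exists_not_le_opp hg'
    exact fun e => hXg ((show X ≤ N from le_sSup ⟨A, hA, hX⟩).trans e)
  have htop : ∀ K : Subgroup H, S ≤ K → N ≤ K → K = ⊤ := by
    intro K hSK hNK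
    by_contra hK
    refine hNle (hNK.trans ?_)
    rw [← cj_cancel_inv g K]
    refine Subgroup.map_mono (h.pm.uniq _ (by rwa [← le_cj_iff]) fun e => hK ?_)
    rw [← cj_cancel_inv g K, e]
    exact Subgroup.map_top_of_surjective _ (MulAut.conj g).surjective
  have hnN : Subgroup.normalizer (N : Set H) = ⊤ := htop _ hSN Subgroup.le_normalizer
  set C := Subgroup.centralizer (N : Set H) with hC
  have hBC : B ≤ C := fun b hb => by
    have hle : N ≤ Subgroup.centralizer {b} := sSup_le (by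
      rintro X ⟨A, hA, hX⟩ x hx
      exact Subgroup.mem_centralizer_singleton_iff.2
        (hX.2.1 B hB (fun e => hBO (e ▸ hA)) x hx b hb))
    exact Subgroup.mem_centralizer_iff.2 fun n hn =>
      Subgroup.mem_centralizer_singleton_iff.1 (hle hn)
  have hbot : C ⊓ S = ⊥ := by
    refine h.pm.core _ (Subgroup.normalizer_eq_top_iff.1 (htop _ ?_ ?_))
      ((isPGroup_cj g).to_le inf_le_right)
    · intro t ht
      rw [Subgroup.mem_normalizer_iff]
      intro z
      have hn := Subgroup.mem_normalizer_iff.1 (hnN ▸ Subgroup.mem_top t :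
        t ∈ Subgroup.normalizer (N : Set H))
      have key : ∀ {t z : H}, t ∈ S → (∀ n, n ∈ N ↔ t * n * t⁻¹ ∈ N) → z ∈ C ⊓ S →
          t * z * t⁻¹ ∈ C ⊓ S := by
        intro t z ht hn hz
        refine ⟨Subgroup.mem_centralizer_iff.2 fun n hn' => ?_,
          S.mul_mem (S.mul_mem ht hz.2) (S.inv_mem ht)⟩
        have h1 := Subgroup.mem_centralizer_iff.1 hz.1 (t⁻¹ * n * t)
          ((hn _).2 (by simpa [mul_assoc] using hn'))
        have h2 := congrArg (fun w => t * w * t⁻¹) h1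
        simpa [mul_assoc] using h2
      refine ⟨key ht hn, fun hz => ?_⟩
      have := key (S.inv_mem ht) (Subgroup.mem_normalizer_iff.1 (hnN ▸ Subgroup.mem_top t⁻¹ :
        t⁻¹ ∈ Subgroup.normalizer (N : Set H))) hz
      simpa [mul_assoc] using this
    · exact le_normalizer_of_cj fun n hn => cj_eq_of_com (X := N) (Y := C ⊓ S)
        (fun a ha b hb => Subgroup.mem_centralizer_iff.1 hb.1 a ha) hn
  exact hB.1.ne_bot (le_bot_iff.1 ((le_inf hBC hB.2).trans hbot.le))

/-- Every member is exchangeable. -/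
theorem exists_opp_of_mem {g : H} {A : Subgroup H} (hA : A ∈ mems V q T g) :
    ∃ g', Opp V q T M g A g' := by
  obtain ⟨A₀, g₀, h₀⟩ := h.exists_opp_pair g
  have e := h.eq_mems_of_invariant (g := g)
    (O := {A | A ∈ mems V q T g ∧ ∃ g', Opp V q T M g A g'}) (fun A hA => hA.1)
    ⟨A₀, h₀.2.1, g₀, h₀⟩ (fun A hA => hA.2) fun t ht A hA => by
      obtain ⟨hAm, g', hn, -, hall⟩ := hA
      refine ⟨mems_cj_of_mem ht hAm, t * g', fun hr => hn ?_, mems_cj_of_mem ht hAm,
        fun X hX hne => ?_⟩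
      · have hself : Rel M g (t * g) := mem_cj_iff_rel.1 (Subgroup.map_mono h.pm.le_M ht)
        have := (hself.symm.trans hr).mul_left t⁻¹
        rwa [inv_mul_cancel_left, inv_mul_cancel_left] at this
      · rw [← cj_cancel_inv t X]
        refine mems_cj (hall _ (mems_cj_of_mem ((cj g (T : Subgroup H)).inv_mem ht) hX) fun e => ?_)
        exact hne (by rw [← e, cj_cancel_inv])
  exact (e.ge hA).2

theorem self_mem_line {g : H} {A : Subgroup H} (hA : A ∈ mems V q T g) : A ∈ line V q T g A :=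
  ⟨hA.1, fun _ hB _ => h.com_mems hA hB, fun _ => rfl⟩

theorem exists_sys {g : H} {A : Subgroup H} (hA : A ∈ mems V q T g) :
    ∃ S : Sys (H := H) (V := V) q (Subgroup H), S.fam = line V q T g A ∧
      Set.InjOn S.lab S.fam :=
  let ⟨_, ho⟩ := h.exists_opp_of_mem hA
  h.exists_sys_opp ho

theorem exists_not_le {g : H} {A : Subgroup H} (hA : A ∈ mems V q T g) :
    ∃ B ∈ line V q T g A, ¬ B ≤ cj g M :=
  let ⟨_, ho⟩ := h.exists_opp_of_mem hA
  (h.exists_not_le_opp ho).2

/-- A line contains a minimal configuration. -/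
theorem exists_minconf_line {g : H} {A : Subgroup H} (hA : A ∈ mems V q T g) :
    ∃ B ∈ line V q T g A, B ≠ A ∧ ∃ (TL : Sylow p ↥(A ⊔ B)) (ML : Subgroup ↥(A ⊔ B)),
      MinConf V TL ML (A.subgroupOf (A ⊔ B)) := by
  obtain ⟨g', ho⟩ := h.exists_opp_of_mem hA
  obtain ⟨hm, -, -⟩ := h.opp_spec ho
  have hAf : A ∈ h.fam hm := by rw [h.fam_eq_line ho]; exact h.self_mem_line hA
  have hle : A ⊔ comSup (allMem H V q) T g g' ≤ cj g (T : Subgroup H) :=
    sup_le hA.2 ((comSup_le _ _ _ _).trans inf_le_left)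
  obtain ⟨x, hx, hxg, hconf⟩ := h.pm.exists_minconf hm hAf.1 (h.exists_cand hA.1) hAf.2.1 hAf.2.2 hle
  refine ⟨cj x A, h.fam_eq_line ho ▸ h.cj_mem_fam hm hAf hx, fun e => ?_, hconf⟩
  exact h.pm.not_le_lab hm hAf.1 hAf.2.1 hAf.2.2 hle hx hxg
    (e.symm ▸ hA.2.trans (Subgroup.map_mono h.pm.le_M))

/-- The Sylow subgroup is transitive on its members. -/
theorem exists_cj_mems {g : H} {A B : Subgroup H} (hA : A ∈ mems V q T g) (hB : B ∈ mems V q T g) :
    ∃ t ∈ cj g (T : Subgroup H), cj t A = B := by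
  set S := cj g (T : Subgroup H)
  have e := h.eq_mems_of_invariant (g := g) (O := {X | ∃ t ∈ S, cj t A = X})
    (by rintro _ ⟨t, ht, rfl⟩; exact mems_cj_of_mem ht hA) ⟨A, 1, S.one_mem, cj_one A⟩
    (by rintro _ ⟨t, ht, rfl⟩; exact h.exists_opp_of_mem (mems_cj_of_mem ht hA))
    (by rintro s hs _ ⟨t, ht, rfl⟩; exact ⟨s * t, S.mul_mem hs ht, cj_mul s t A⟩)
  exact e.ge hB

end Conf

/-- The subgroup generated by all pencils at `g`. -/
def lineSup (V : Type*) [AddCommGroup V] [DistribMulAction H V] (q : ℕ) (T : Sylow p H) (g : H) :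
    Subgroup H :=
  sSup {X | ∃ A ∈ mems V q T g, X ∈ line V q T g A}

namespace Conf

variable {T : Sylow p H} {M : Subgroup H} (h : Conf V q T M)
include h

theorem mems_nonempty (g : H) : (mems V q T g).Nonempty := by
  obtain ⟨A, g', hA⟩ := h.exists_opp_pair g
  exact ⟨A, hA.2.1⟩

theorem lineSup_spec (g : H) :
    (lineSup V q T g).Normal ∧ lineSup V q T g ⊔ cj g (T : Subgroup H) = ⊤ := by
  set S := cj g (T : Subgroup H) with hS
  set N := lineSup V q T g with hN
  have hSN : S ≤ Subgroup.normalizer (N : Set H) := le_normalizer_of_cj fun t ht =>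
    Subgroup.eq_of_le_of_card_ge (by
      rw [le_cj_iff]
      refine sSup_le ?_
      rintro X ⟨A, hA, hX⟩
      exact le_cj_iff.1 (le_sSup ⟨_, mems_cj_of_mem ht hA, cj_line ht hX⟩)) (card_cj t N).ge
  have htop : ∀ K : Subgroup H, S ≤ K → N ≤ K → K = ⊤ := by
    intro K hSK hNK
    by_contra hK
    obtain ⟨A, hA⟩ := h.mems_nonempty g
    obtain ⟨X, hX, hXg⟩ := h.exists_not_le hA
    refine hXg ((show X ≤ N from le_sSup ⟨A, hA, hX⟩).trans (hNK.trans ?_))
    rw [← cj_cancel_inv g K]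
    refine Subgroup.map_mono (h.pm.uniq _ (by rwa [← le_cj_iff]) fun e => hK ?_)
    rw [← cj_cancel_inv g K, e]
    exact Subgroup.map_top_of_surjective _ (MulAut.conj g).surjective
  exact ⟨Subgroup.normalizer_eq_top_iff.1 (htop _ hSN Subgroup.le_normalizer),
    htop _ le_sup_right le_sup_left⟩

theorem le_lineSup (g : H) {X : Subgroup H} (hX : Mem V q X) : X ≤ lineSup V q T g := by
  obtain ⟨i, hi⟩ := h.pm.exists_syl (isPGroup_of_quad h.pm.faith h.pm.exp hX.quad)
  have hm := mems_cj (z := g * i⁻¹) (show X ∈ mems V q T i from ⟨hX, hi⟩)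
  rw [inv_mul_cancel_right] at hm
  have h1 : cj (g * i⁻¹) X ≤ lineSup V q T g := le_sSup ⟨_, hm, h.self_mem_line hm⟩
  intro x hx
  have hn := (h.lineSup_spec g).1
  have h2 := hn.conj_mem _ (h1 (show (g * i⁻¹) * x * (g * i⁻¹)⁻¹ ∈ _ from
    mem_cj.2 (by simpa [mul_assoc] using hx))) (g * i⁻¹)⁻¹
  simpa [mul_assoc] using h2

/-- Nothing but the identity of `p`-power order centralises the pencils. -/
theorem eq_one_of_centralizer {g z : H} (hz : ∃ k, z ^ p ^ k = 1)
    (hc : z ∈ Subgroup.centralizer (lineSup V q T g : Set H)) : z = 1 := by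
  obtain ⟨hn, htop⟩ := h.lineSup_spec g
  set N := lineSup V q T g with hN
  set C := Subgroup.centralizer (N : Set H) with hC
  have := hn
  have hCn : C.Normal := Subgroup.normal_centralizer
  obtain ⟨k, hk⟩ := hz
  have hP : IsPGroup p ↥(Subgroup.zpowers z) := IsPGroup.of_card_dvd_pow (n := k)
    (by rw [Nat.card_zpowers]; exact orderOf_dvd_of_pow_eq_one hk)
  obtain ⟨i, hi⟩ := h.pm.exists_syl hP
  set w := (g * i⁻¹) * z * (g * i⁻¹)⁻¹ with hw
  have hwC : w ∈ C := hCn.conj_mem z hc _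
  have hwS : w ∈ cj g (T : Subgroup H) := by
    rw [show g = g * i⁻¹ * i by group, cj_mul, mem_cj]
    simpa [hw, mul_assoc] using hi (Subgroup.mem_zpowers z)
  have hbot : C ⊓ cj g (T : Subgroup H) = ⊥ := by
    refine h.pm.core _ (Subgroup.normalizer_eq_top_iff.1 (top_le_iff.1 ?_))
      ((isPGroup_cj g).to_le inf_le_right)
    rw [← htop]
    refine sup_le (le_normalizer_of_cj fun n hn' => cj_eq_of_com (X := N) (Y := C ⊓ cj g (T : Subgroup H))
      (fun a ha b hb => Subgroup.mem_centralizer_iff.1 hb.1 a ha) hn')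
      (le_normalizer_of_cj fun t ht => ?_)
    rw [cj, Subgroup.map_inf _ _ _ (MulAut.conj t).injective, ← cj, ← cj, cj_self ht,
      cj_eq_of_mem_normalizer (Subgroup.normalizer_eq_top (H := C) ▸ Subgroup.mem_top t)]
  have : w ∈ C ⊓ cj g (T : Subgroup H) := ⟨hwC, hwS⟩
  rw [hbot, Subgroup.mem_bot, hw, conj_eq_one_iff] at this
  exact this

theorem ncard_mems_pow (g : H) : ∃ n, (mems V q T g).ncard = p ^ n := by
  set S := cj g (T : Subgroup H) with hS
  letI : MulAction ↥S ↥(mems V q T g) :=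
    { smul := fun t A => ⟨cj (t : H) A, mems_cj_of_mem t.2 A.2⟩
      one_smul := fun A => Subtype.ext (cj_one _)
      mul_smul := fun t u A => Subtype.ext (cj_mul _ _ _) }
  obtain ⟨A, hA⟩ := h.mems_nonempty g
  obtain ⟨n, hn⟩ := (isPGroup_cj (T := T) g).card_orbit (⟨A, hA⟩ : ↥(mems V q T g))
  refine ⟨n, ?_⟩
  rw [← hn]
  have e : MulAction.orbit ↥S (⟨A, hA⟩ : ↥(mems V q T g)) = Set.univ :=
    Set.eq_univ_of_forall fun B => by
      obtain ⟨t, ht, e⟩ := h.exists_cj_mems hA B.2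
      exact ⟨⟨t, ht⟩, Subtype.ext e⟩
  rw [e, Nat.card_univ]
  exact (Nat.card_coe_set_eq _).symm

end Conf

end Cfsg.Agent.FFPM
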