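import Cfsg.Agent.Lib.Thompson.FFPM.Lines

/-!
Elementary properties of the pencils, and the linkage relation between them.
-/

set_option autoImplicit false
set_option linter.unusedSectionVars false

namespace Cfsg.Agent.FFPM

open FFSL2

variable {H : Type*} [Group H] [Finite H] {V : Type*} [AddCommGroup V] [Finite V]
  [DistribMulAction H V] {p : ℕ} [hpp : Fact p.Prime] {q : ℕ}

theorem fix_sSup (s : Set (Subgroup H)) {v : V}
    (hv : ∀ X ∈ s, v ∈ (fix X : AddSubgroup V)) : v ∈ (fix (sSup s) : AddSubgroup V) := by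
  intro z hz
  have h : sSup s ≤ MulAction.stabilizer H v := sSup_le fun X hX a ha => hv X hX a ha
  exact h hz

theorem com_sSup {s : Set (Subgroup H)} {Y : Subgroup H} (h : ∀ X ∈ s, Com X Y) :
    Com (sSup s) Y := by
  intro z hz y hy
  have hle : sSup s ≤ Subgroup.centralizer {y} := sSup_le fun X hX x hx =>
    Subgroup.mem_centralizer_singleton_iff.2 (h X hX x hx y hy)
  exact Subgroup.mem_centralizer_singleton_iff.1 (hle hz)

/-- Two pencils are linked if some of their members do not commute. -/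
def Lk (V : Type*) [AddCommGroup V] [DistribMulAction H V] (q : ℕ) (T : Sylow p H) (g : H)
    (A B : Subgroup H) : Prop :=
  A = B ∨ ∃ X ∈ line V q T g A, ∃ Y ∈ line V q T g B, ¬ Com X Y

/-- The group generated by the pencils linked to `A`. -/
def clsSup (V : Type*) [AddCommGroup V] [DistribMulAction H V] (q : ℕ) (T : Sylow p H) (g : H)
    (A : Subgroup H) : Subgroup H :=
  sSup {X | ∃ B ∈ mems V q T g, Lk V q T g A B ∧ X ∈ line V q T g B}

theorem Lk.symm {T : Sylow p H} {g : H} {A B : Subgroup H} (h : Lk V q T g A B) :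
    Lk V q T g B A := by
  rcases h with rfl | ⟨X, hX, Y, hY, hc⟩
  · exact Or.inl rfl
  · exact Or.inr ⟨Y, hY, X, hX, fun e => hc e.symm⟩

theorem Lk.cj {T : Sylow p H} {g t : H} {A B : Subgroup H} (ht : t ∈ cj g (T : Subgroup H))
    (h : Lk V q T g A B) : Lk V q T g (FFSL2.cj t A) (FFSL2.cj t B) := by
  rcases h with rfl | ⟨X, hX, Y, hY, hc⟩
  · exact Or.inl rfl
  · refine Or.inr ⟨_, cj_line ht hX, _, cj_line ht hY, fun e => hc ?_⟩
    have := com_cj (g := t⁻¹) e
    rwa [cj_inv_cancel, cj_inv_cancel] at this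

namespace Conf

variable {T : Sylow p H} {M : Subgroup H} (h : Conf V q T M) {g : H} {A : Subgroup H}
  (hA : A ∈ mems V q T g)
include h hA

theorem line_conj {X Y : Subgroup H} (hX : X ∈ line V q T g A) (hY : Y ∈ line V q T g A) {x : H}
    (hx : x ∈ X) : cj x Y ∈ line V q T g A := by
  obtain ⟨S, hS, -⟩ := h.exists_sys hA
  rw [← hS] at hX hY ⊢
  exact S.conj_mem X hX Y hY x hx

theorem not_com_line {X Y : Subgroup H} (hX : X ∈ line V q T g A) (hY : Y ∈ line V q T g A)
    (hne : X ≠ Y) : ¬ Com X Y := by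
  obtain ⟨S, hS, hinj⟩ := h.exists_sys hA
  rw [← hS] at hX hY
  exact S.noncomm X hX Y hY fun e => hne (hinj hX hY e)

theorem sup_line {X Y : Subgroup H} (hX : X ∈ line V q T g A) (hY : Y ∈ line V q T g A)
    (hne : X ≠ Y) : (fix X : AddSubgroup V) ⊔ fix Y = ⊤ := by
  obtain ⟨S, hS, hinj⟩ := h.exists_sys hA
  rw [← hS] at hX hY
  exact (S.card_fix h.pm.faith hX hY fun e => hne (hinj hX hY e)).2

theorem orbit_line {X Y Z : Subgroup H} (hX : X ∈ line V q T g A) (hY : Y ∈ line V q T g A)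
    (hZ : Z ∈ line V q T g A) (hne : X ≠ Y) (hne' : Z ≠ X) : ∃ x ∈ X, Z = cj x Y := by
  obtain ⟨S, hS, hinj⟩ := h.exists_sys hA
  rw [← hS] at hX hY hZ
  obtain ⟨x, hx, e⟩ := S.exists_cj_lab h.pm.faith hY hX hZ (fun e => hne (hinj hX hY e.symm))
    fun e => hne' (hinj hZ hX e)
  refine ⟨x⁻¹, X.inv_mem hx, ?_⟩
  rw [← hinj (S.conj_mem X hX Z hZ x hx) hY e, cj_inv_cancel]

theorem free_line {X Y : Subgroup H} (hX : X ∈ line V q T g A) (hY : Y ∈ line V q T g A)
    (hne : X ≠ Y) {x : H} (hx : x ∈ X) (he : cj x Y = Y) : x = 1 := by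
  obtain ⟨S, hS, hinj⟩ := h.exists_sys hA
  rw [← hS] at hX hY
  by_contra hx1
  exact S.free X hX Y hY (fun e => hne (hinj hX hY e)) x hx hx1 (by rw [he])

theorem line_eq_image {X Y : Subgroup H} (hX : X ∈ line V q T g A) (hY : Y ∈ line V q T g A)
    (hne : X ≠ Y) : line V q T g A \ {X} = (fun x => cj x Y) '' (X : Set H) := by
  ext Z
  constructor
  · rintro ⟨hZ, hZX⟩
    obtain ⟨x, hx, rfl⟩ := h.orbit_line hA hX hY hZ hne hZX
    exact ⟨x, hx, rfl⟩
  · rintro ⟨x, hx, rfl⟩
    refine ⟨h.line_conj hA hX hY hx, fun e => hne ?_⟩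
    have e' : cj x Y = X := e
    rw [← cj_inv_cancel x Y, e', cj_self (X.inv_mem hx)]

theorem ncard_line_sdiff {X : Subgroup H} (hX : X ∈ line V q T g A) :
    (line V q T g A \ {X}).ncard = q := by
  obtain ⟨Y, hY, hne⟩ : ∃ Y ∈ line V q T g A, X ≠ Y := by
    obtain ⟨B, hB, hBM⟩ := h.exists_not_le hA
    by_cases e : X = A
    · exact ⟨B, hB, fun e' => hBM ((e'.symm.trans e) ▸ hA.2.trans (Subgroup.map_mono h.pm.le_M))⟩
    · exact ⟨A, h.self_mem_line hA, e⟩
  rw [h.line_eq_image hA hX hY hne, Set.ncard_image_of_injOn, ← Nat.card_coe_set_eq]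
  · exact hX.1.card
  · intro x hx x' hx' e
    have e' : cj x Y = cj x' Y := e
    have := h.free_line hA hX hY hne (X.mul_mem (X.inv_mem hx') hx)
      (by rw [cj_mul, e', cj_inv_cancel])
    exact (inv_mul_eq_one.1 this).symm

theorem exists_third {X Y : Subgroup H} (hX : X ∈ line V q T g A) :
    ∃ Z ∈ line V q T g A, Z ≠ X ∧ Z ≠ Y := by
  by_contra! hh
  have h1 : line V q T g A \ {X} ⊆ {Y} := fun Z hZ => hh Z hZ.1 hZ.2
  have h2 := Set.ncard_le_ncard h1 (Set.toFinite _)
  rw [h.ncard_line_sdiff hA hX, Set.ncard_singleton] at h2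
  have := hA.1.two_le
  omega

theorem sSup_line {X Y : Subgroup H} (hX : X ∈ line V q T g A) (hY : Y ∈ line V q T g A)
    (hne : X ≠ Y) : sSup (line V q T g A) = X ⊔ Y := by
  refine le_antisymm (sSup_le fun Z hZ => ?_) (sup_le (le_sSup hX) (le_sSup hY))
  by_cases e : Z = X
  · exact e ▸ le_sup_left
  obtain ⟨x, hx, rfl⟩ := h.orbit_line hA hX hY hZ hne e
  intro z hz
  have hx' : x ∈ X ⊔ Y := Subgroup.mem_sup_left hx
  have := Subgroup.mul_mem _ (Subgroup.mul_mem _ hx' (Subgroup.mem_sup_right (S := X) (mem_cj.1 hz)))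
    (Subgroup.inv_mem _ hx')
  simpa [mul_assoc] using this

theorem com_line_mem {B X : Subgroup H} (hB : B ∈ mems V q T g) (hne : B ≠ A)
    (hX : X ∈ line V q T g A) : Com X B := hX.2.1 B hB hne

/-- Unlinked pencils commute. -/
theorem com_of_not_lk {B : Subgroup H} (hl : ¬ Lk V q T g A B) :
    Com (sSup (line V q T g A)) (sSup (line V q T g B)) :=
  com_sSup fun X hX => (com_sSup fun Y hY => by
    by_contra hc
    exact hl (Or.inr ⟨X, hX, Y, hY, fun e => hc e.symm⟩)).symm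

/-- An element fixing all members of the Sylow subgroup permutes each pencil. -/
theorem cj_line_fix {z : H} (hz : ∀ D ∈ mems V q T g, cj z D = D) {X : Subgroup H}
    (hX : X ∈ line V q T g A) : cj z X ∈ line V q T g A := by
  refine ⟨hX.1.conj z, fun D hD hne => ?_, fun hm => ?_⟩
  · rw [← hz D hD]
    exact com_cj (hX.2.1 D hD hne)
  · have e : X = cj z X := cj_injective z (hz _ hm).symm
    rw [← e] at hm ⊢
    exact hX.2.2 hm

end Conf

end Cfsg.Agent.FFPM
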