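import Mathlib

/-!
Abelian two-groups of permutations of an odd set and even vectors; maps permuting pair vectors.
-/

set_option autoImplicit false

namespace Cfsg.Agent.FFPM.Even

variable {ι : Type*} [Fintype ι] [DecidableEq ι]

theorem two_cases (a : ZMod 2) : a = 0 ∨ a = 1 := by
  revert a
  decide

/-- The pair vector. -/
def pr (i j : ι) : ι → ZMod 2 := Pi.single i 1 + Pi.single j 1

theorem pr_comm (i j : ι) : pr i j = pr j i := add_comm _ _

theorem pr_left {i j : ι} (h : i ≠ j) : pr i j i = 1 := by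
  simp [pr, h]

theorem pr_other {i j l : ι} (h1 : l ≠ i) (h2 : l ≠ j) : pr i j l = 0 := by
  simp [pr, h1, h2]

theorem sum_pr (i j : ι) : ∑ l, pr i j l = 0 := by
  simp [pr, Finset.sum_add_distrib, CharTwo.add_self_eq_zero]

theorem eq_of_pr_ne {i j l : ι} (h : pr i j l ≠ 0) : l = i ∨ l = j := by
  by_contra! hh
  exact h (pr_other hh.1 hh.2)

theorem eq_of_pr_eq {i j k l : ι} (hij : i ≠ j) (h : pr i j = pr k l) : i = k ∨ i = l :=
  eq_of_pr_ne (by rw [← h, pr_left hij]; exact one_ne_zero)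

/-- Even vectors are sums of pairs through a point. -/
theorem eq_sum_pr {w : ι → ZMod 2} (hw : ∑ i, w i = 0) (k : ι) :
    w = ∑ i ∈ Finset.univ.erase k, w i • pr i k := by
  funext l
  rw [Finset.sum_apply]
  by_cases hl : l = k
  · subst hl
    have h1 : ∀ i ∈ Finset.univ.erase l, (w i • pr i l) l = w i := fun i hi => by
      rw [Pi.smul_apply, pr_comm, pr_left (Finset.ne_of_mem_erase hi).symm, smul_eq_mul, mul_one]
    rw [Finset.sum_congr rfl h1, ← CharTwo.add_eq_zero]
    rw [← Finset.add_sum_erase Finset.univ w (Finset.mem_univ l)] at hw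
    exact hw
  · rw [Finset.sum_eq_single_of_mem l (Finset.mem_erase.2 ⟨hl, Finset.mem_univ l⟩)
      fun i _ hi => by rw [Pi.smul_apply, pr_other (Ne.symm hi) hl, smul_zero]]
    rw [Pi.smul_apply, pr_left hl, smul_eq_mul, mul_one]

/-- A linear map permuting the pair vectors permutes the points. -/
theorem exists_perm_of_pairs (hodd : Odd (Fintype.card ι)) (h3 : 3 ≤ Fintype.card ι)
    (b : (ι → ZMod 2) → (ι → ZMod 2))
    (hadd : ∀ v w, ∑ i, v i = 0 → ∑ i, w i = 0 → b (v + w) = b v + b w)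
    (hinj : ∀ v w, ∑ i, v i = 0 → ∑ i, w i = 0 → b v = b w → v = w)
    (hb : ∀ i j, i ≠ j → ∃ k l, k ≠ l ∧ b (pr i j) = pr k l) :
    ∃ σ : Equiv.Perm ι, ∀ w, ∑ i, w i = 0 → ∀ i, b w i = w (σ⁻¹ i) := by
  classical
  have hb0 : b 0 = 0 := by
    have := hadd 0 0 (by simp) (by simp)
    rw [add_zero] at this
    exact left_eq_add.1 this
  -- a third pair through `i`
  have hinj' : ∀ {i j i' j'}, i ≠ j → b (pr i j) = b (pr i' j') → i = i' ∨ i = j' :=
    fun hij e => eq_of_pr_eq hij (hinj _ _ (sum_pr _ _) (sum_pr _ _) e)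
  have htri : ∀ {i j j'}, i ≠ j → i ≠ j' → j ≠ j' → ∃ a c c', a ≠ c ∧ a ≠ c' ∧ c ≠ c' ∧
      b (pr i j) = pr a c ∧ b (pr i j') = pr a c' := by
    intro i j j' hij hij' hjj
    obtain ⟨k, l, hkl, e⟩ := hb i j hij
    obtain ⟨k', l', hkl', e'⟩ := hb i j' hij'
    obtain ⟨u, v, huv, e''⟩ := hb j j' hjj
    have hsum : pr j j' = pr i j + pr i j' := by
      funext x
      simp only [pr, Pi.add_apply]
      linear_combination -(CharTwo.add_self_eq_zero ((Pi.single i (1 : ZMod 2) : ι → ZMod 2) x))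
    have h1 : pr u v = pr k l + pr k' l' := by
      rw [← e'', hsum, hadd _ _ (sum_pr _ _) (sum_pr _ _), e, e']
    have hne : pr k l ≠ pr k' l' := fun hh => by
      have h2 := congrFun (hinj _ _ (sum_pr i j) (sum_pr i j') (e.trans (hh.trans e'.symm))) j
      rw [pr_comm i j, pr_left (Ne.symm hij), pr_other (Ne.symm hij) hjj] at h2
      exact one_ne_zero h2
    have hmeet : k = k' ∨ k = l' ∨ l = k' ∨ l = l' := by
      by_contra! hh
      obtain ⟨a1, a2, a3, a4⟩ := hh
      have f : ∀ x, x = k ∨ x = l ∨ x = k' → pr u v x ≠ 0 := by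
        rintro x (rfl | rfl | rfl) <;> rw [h1, Pi.add_apply]
        · rw [pr_left hkl, pr_other a1 a2, add_zero]; exact one_ne_zero
        · rw [pr_comm k x, pr_left hkl.symm, pr_other a3 a4, add_zero]; exact one_ne_zero
        · rw [pr_other (Ne.symm a1) (Ne.symm a3), pr_left hkl', zero_add]; exact one_ne_zero
      rcases eq_of_pr_ne (f k (Or.inl rfl)) with h | h <;>
        rcases eq_of_pr_ne (f l (Or.inr (Or.inl rfl))) with h' | h' <;>
        rcases eq_of_pr_ne (f k' (Or.inr (Or.inr rfl))) with h'' | h'' <;>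
        first
          | exact hkl (h.trans h'.symm)
          | exact a1 (h.trans h''.symm)
          | exact a3 (h'.trans h''.symm)
    rcases hmeet with rfl | rfl | rfl | rfl
    · exact ⟨k, l, l', hkl, hkl', fun h => hne (by rw [h]), e, e'⟩
    · exact ⟨k, l, k', hkl, hkl'.symm, fun h => hne (by rw [h, pr_comm]), e, by rw [e', pr_comm]⟩
    · exact ⟨l, k, l', hkl.symm, hkl', fun h => hne (by rw [h, pr_comm]), by rw [e, pr_comm], e'⟩
    · exact ⟨l, k, k', hkl.symm, hkl'.symm, fun h => hne (by rw [h]), by rw [e, pr_comm],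
        by rw [e', pr_comm]⟩
  -- the common point of the pairs through `i`
  have hpt : ∀ i, ∃ a, ∀ j, j ≠ i → ∃ c, c ≠ a ∧ b (pr i j) = pr a c := by
    intro i
    obtain ⟨j₁, -, hj₁⟩ := Finset.exists_mem_notMem_of_card_lt_card (s := {i}) (t := Finset.univ)
      (by rw [Finset.card_univ, Finset.card_singleton]; omega)
    rw [Finset.mem_singleton] at hj₁
    obtain ⟨j₂, -, hj₂⟩ := Finset.exists_mem_notMem_of_card_lt_card (s := {i, j₁}) (t := Finset.univ)
      (by rw [Finset.card_univ, Finset.card_pair (Ne.symm hj₁)]; omega)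
    simp only [Finset.mem_insert, Finset.mem_singleton, not_or] at hj₂
    obtain ⟨a, c, c', hac, hac', hcc, e1, e2⟩ := htri (Ne.symm hj₁) (Ne.symm hj₂.1) (Ne.symm hj₂.2)
    refine ⟨a, fun j hj => ?_⟩
    by_cases h1 : j = j₁
    · subst h1; exact ⟨c, hac.symm, e1⟩
    by_cases h2 : j = j₂
    · subst h2; exact ⟨c', hac'.symm, e2⟩
    obtain ⟨k, l, hkl, e3⟩ := hb i j (Ne.symm hj)
    by_cases hk : k = a
    · subst hk; exact ⟨l, hkl.symm, e3⟩
    by_cases hl : l = a
    · subst hl; exact ⟨k, hkl, by rw [e3, pr_comm]⟩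
    exfalso
    have hpa : pr k l a = 0 := pr_other (Ne.symm hk) (Ne.symm hl)
    have hmem : ∀ {j' d}, i ≠ j' → j ≠ j' → b (pr i j') = pr a d → pr k l d ≠ 0 := by
      intro j' d hij' hjj e
      obtain ⟨x, y, y', hxy, hxy', -, f1, f2⟩ := htri (Ne.symm hj) hij' hjj
      have h1' : pr k l x ≠ 0 := by rw [← e3, f1, pr_left hxy]; exact one_ne_zero
      have h2' : pr a d x ≠ 0 := by rw [← e, f2, pr_left hxy']; exact one_ne_zero
      rcases eq_of_pr_ne h2' with rfl | rfl
      · exact absurd hpa h1'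
      · exact h1'
    -- the pair meets both `{a, c}` and `{a, c'}`, so it is `{c, c'}`
    have hx : pr k l c ≠ 0 := hmem (Ne.symm hj₁) h1 e1
    have hx' : pr k l c' ≠ 0 := hmem (Ne.symm hj₂.1) h2 e2
    -- so `b (pr i j) = b (pr j₁ j₂)`
    have hkl' : pr k l = pr c c' := by
      rcases eq_of_pr_ne hx with e | e <;> rcases eq_of_pr_ne hx' with e' | e'
      · exact absurd (e.trans e'.symm) hcc
      · rw [e, e']
      · rw [e, e', pr_comm]
      · exact absurd (e.trans e'.symm) hcc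
    have h3 : b (pr j₁ j₂) = pr c c' := by
      have : pr j₁ j₂ = pr i j₁ + pr i j₂ := by
        funext x
        simp only [pr, Pi.add_apply]
        linear_combination -(CharTwo.add_self_eq_zero ((Pi.single i (1 : ZMod 2) : ι → ZMod 2) x))
      rw [this, hadd _ _ (sum_pr _ _) (sum_pr _ _), e1, e2]
      funext x
      simp only [pr, Pi.add_apply]
      linear_combination CharTwo.add_self_eq_zero ((Pi.single a (1 : ZMod 2) : ι → ZMod 2) x)
    rcases hinj' (Ne.symm hj) (e3.trans (hkl'.trans h3.symm)) with h | h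
    · exact hj₁ h.symm
    · exact hj₂.1 h.symm
  choose π hπ using hpt
  have hπi : Function.Injective π := by
    intro i i' e
    by_contra hne
    obtain ⟨j, -, hj⟩ := Finset.exists_mem_notMem_of_card_lt_card (s := {i, i'}) (t := Finset.univ)
      (by rw [Finset.card_univ, Finset.card_pair hne]; omega)
    simp only [Finset.mem_insert, Finset.mem_singleton, not_or] at hj
    obtain ⟨c₁, h₁, e₁⟩ := hπ i i' (Ne.symm hne)
    obtain ⟨c₂, h₂, e₂⟩ := hπ i j hj.1
    obtain ⟨c₃, h₃, e₃⟩ := hπ i' j hj.2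
    rw [← e] at h₃ e₃
    have hs : pr i i' + pr i j = pr i' j := by
      funext x
      simp only [pr, Pi.add_apply]
      linear_combination CharTwo.add_self_eq_zero ((Pi.single i (1 : ZMod 2) : ι → ZMod 2) x)
    have := congrArg b hs
    rw [hadd _ _ (sum_pr _ _) (sum_pr _ _), e₁, e₂, e₃] at this
    have h4 := congrFun this (π i)
    rw [Pi.add_apply, pr_left h₁.symm, pr_left h₂.symm, pr_left h₃.symm,
      CharTwo.add_self_eq_zero] at h4
    exact zero_ne_one h4
  let σ : Equiv.Perm ι := Equiv.ofBijective π (Finite.injective_iff_bijective.1 hπi)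
  have hpair : ∀ i j, i ≠ j → b (pr i j) = pr (π i) (π j) := by
    intro i j hij
    obtain ⟨c, hc, e⟩ := hπ i j (Ne.symm hij)
    obtain ⟨c', hc', e'⟩ := hπ j i hij
    rw [pr_comm, e] at e'
    rcases eq_of_pr_eq hc'.symm e'.symm with h | h
    · exact absurd (hπi h.symm) hij
    · rw [e, h]
  refine ⟨σ, fun w hw i => ?_⟩
  obtain ⟨k⟩ : Nonempty ι := Fintype.card_pos_iff.1 (by omega)
  have h1 : ∀ t : Finset ι, k ∉ t → ∑ i, (∑ x ∈ t, w x • pr x k) i = 0 ∧
      b (∑ x ∈ t, w x • pr x k) = (∑ x ∈ t, w x • pr x k) ∘ σ.symm := by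
    intro t
    induction t using Finset.induction_on with
    | empty => intro _; simp [hb0]
    | @insert x t hx ih =>
      intro hk
      rw [Finset.mem_insert, not_or] at hk
      obtain ⟨ih1, ih2⟩ := ih hk.2
      rw [Finset.sum_insert hx]
      have h3 : ∑ i, (w x • pr x k) i = 0 := by
        simp only [Pi.smul_apply, ← Finset.smul_sum, sum_pr, smul_zero]
      refine ⟨by simp only [Pi.add_apply, Finset.sum_add_distrib, h3, ih1, add_zero], ?_⟩
      rw [hadd _ _ h3 ih1, ih2]
      rcases two_cases (w x) with e | e <;> rw [e]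
      · simp [hb0]
      · rw [one_smul, hpair x k (Ne.symm hk.1)]
        funext l
        simp only [Pi.add_apply, Function.comp_apply, pr, Pi.single_apply, σ,
          Equiv.symm_apply_eq]
        rfl
  obtain ⟨-, h2⟩ := h1 (Finset.univ.erase k) (Finset.notMem_erase k _)
  rw [← eq_sum_pr hw k] at h2
  exact congrFun h2 i

/-- An involution moving even vectors by multiples of one vector is a transposition. -/
theorem isSwap_of_rank_one (hodd : Odd (Fintype.card ι)) (σ : Equiv.Perm ι) (h2 : σ * σ = 1)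
    (h1 : σ ≠ 1) (w₀ : ι → ZMod 2)
    (hr : ∀ v : ι → ZMod 2, ∑ i, v i = 0 → (∀ i, v (σ i) + v i = 0) ∨ ∀ i, v (σ i) + v i = w₀ i) :
    σ.IsSwap := by
  have hinv : ∀ i, σ (σ i) = i := fun i => by rw [← Equiv.Perm.mul_apply, h2, Equiv.Perm.one_apply]
  obtain ⟨i, hi⟩ : ∃ i, σ i ≠ i := by
    by_contra! h
    exact h1 (Equiv.ext h)
  obtain ⟨k, hk⟩ : ∃ k, σ k = k := by
    by_contra! h
    have := Equiv.Perm.card_compl_support_modEq (p := 2) (n := 1) (σ := σ) (by rw [pow_one, pow_two, h2])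
    rw [show σ.support = Finset.univ from Finset.eq_univ_of_forall fun x =>
      Equiv.Perm.mem_support.2 (h x), Finset.compl_univ, Finset.card_empty] at this
    obtain ⟨m, hm⟩ := hodd
    have : Fintype.card ι % 2 = 0 := this.symm
    omega
  refine ⟨i, σ i, Ne.symm hi, Equiv.ext fun j => ?_⟩
  by_cases hji : j = i
  · subst hji; rw [Equiv.swap_apply_left]
  by_cases hjs : j = σ i
  · subst hjs; rw [Equiv.swap_apply_right, hinv]
  rw [Equiv.swap_apply_of_ne_of_ne hji hjs]
  by_contra hj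
  have hik : k ≠ i := fun h => hi (h ▸ hk)
  have hjk : k ≠ j := fun h => hj (h ▸ hk)
  have hw : ∀ x, σ x ≠ x → ∀ l, w₀ l = pr x k (σ l) + pr x k l := by
    intro x hx l
    have hxk : x ≠ k := fun h => hx (h ▸ hk)
    refine ((hr (pr x k) (sum_pr x k)).resolve_left (fun h => ?_) l).symm
    have := h x
    rw [pr_left hxk, pr_other hx (fun e => hxk ((hinv x).symm.trans (by rw [e, hk]))),
      zero_add] at this
    exact one_ne_zero this
  have e1 := hw i hi j
  have e2 := hw j hj j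
  rw [pr_other (fun e => hjs (by rw [← hinv j, e])) (fun e => hjk (by rw [← hinv j, e, hk])),
    pr_other hji (Ne.symm hjk), add_zero] at e1
  rw [pr_left (Ne.symm hjk), pr_other hj (fun e => hjk (by rw [← hinv j, e, hk])), zero_add,
    e1] at e2
  exact zero_ne_one e2

/-- `|X| |C_W(X)| ≤ |W|` for abelian two-groups on an odd set, with equality only if a transposition
lies in `X`. -/
theorem card_mul_le (hodd : Odd (Fintype.card ι)) (X : Subgroup (Equiv.Perm ι))
    (hX : IsPGroup 2 ↥X) (hc : ∀ x ∈ X, ∀ y ∈ X, x * y = y * x) :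
    Nat.card ↥X * {w : ι → ZMod 2 | ∑ i, w i = 0 ∧ ∀ x ∈ X, ∀ i, w (x i) = w i}.ncard ≤
        {w : ι → ZMod 2 | ∑ i, w i = 0}.ncard ∧
      (X ≠ ⊥ → {w : ι → ZMod 2 | ∑ i, w i = 0}.ncard ≤
        Nat.card ↥X * {w : ι → ZMod 2 | ∑ i, w i = 0 ∧ ∀ x ∈ X, ∀ i, w (x i) = w i}.ncard →
        ∃ x ∈ X, x.IsSwap) := by
  classical
  set W : Set (ι → ZMod 2) := {w | ∑ i, w i = 0} with hW
  set C : Set (ι → ZMod 2) := {w | ∑ i, w i = 0 ∧ ∀ x ∈ X, ∀ i, w (x i) = w i} with hC
  have hsmul : ∀ (x : ↥X) (i : ι), x • i = (x : Equiv.Perm ι) i := fun _ _ => rfl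
  obtain ⟨k, hk⟩ : ∃ k, ∀ x ∈ X, x k = k := by
    by_contra! h
    have h0 : Nat.card ↥(MulAction.fixedPoints ↥X ι) = 0 := by
      rw [Nat.card_eq_zero]
      exact Or.inl ⟨fun ⟨a, ha⟩ => by
        obtain ⟨x, hx, hne⟩ := h a
        exact hne (ha ⟨x, hx⟩)⟩
    have := hX.card_modEq_card_fixedPoints ι
    rw [h0, Nat.card_eq_fintype_card] at this
    obtain ⟨m, hm⟩ := hodd
    have : Fintype.card ι % 2 = 0 := this
    omega
  let o : ι → ι := fun i => (Quotient.mk (MulAction.orbitRel ↥X ι) i).out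
  have ho : ∀ i, ∃ x ∈ X, x (o i) = i := by
    intro i
    obtain ⟨x, hx⟩ : o i ∈ MulAction.orbit ↥X i :=
      MulAction.orbitRel_apply.1 (Quotient.mk_out (s := MulAction.orbitRel ↥X ι) i)
    refine ⟨(x : Equiv.Perm ι)⁻¹, X.inv_mem x.2, ?_⟩
    rw [← hx]
    exact (x : Equiv.Perm ι).symm_apply_apply i
  have horb : ∀ x ∈ X, ∀ i, o (x i) = o i := fun x hx i =>
    congrArg Quotient.out (Quotient.sound (s := MulAction.orbitRel ↥X ι)
      (MulAction.orbitRel_apply.2 ⟨⟨x, hx⟩, rfl⟩))
  have hoo : ∀ i, o (o i) = o i := fun i => by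
    obtain ⟨x, hx, e⟩ := ho i
    conv_rhs => rw [← e]
    rw [horb x hx]
  have hok : o k = k := by
    obtain ⟨x, hx, e⟩ := ho k
    exact (x.injective ((hk x hx).trans e.symm)).symm
  -- vectors vanishing at the representatives other than `k`
  set Y : Set (ι → ZMod 2) := {w | ∑ i, w i = 0 ∧ ∀ i, i ≠ k → o i = i → w i = 0} with hY
  have hpar : ∀ w w' : ι → ZMod 2, ∑ i, w i = ∑ i, w' i → (∀ i, i ≠ k → w i = w' i) → w = w' := by
    intro w w' hs he
    funext i
    by_cases hik : i = k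
    · subst hik
      rw [← Finset.add_sum_erase _ w (Finset.mem_univ i),
        ← Finset.add_sum_erase _ w' (Finset.mem_univ i),
        Finset.sum_congr rfl fun l hl => he l (Finset.ne_of_mem_erase hl)] at hs
      exact add_right_cancel hs
    · exact he i hik
  have hCY : C.ncard * Y.ncard ≤ W.ncard := by
    rw [← Set.ncard_prod]
    refine Set.ncard_le_ncard_of_injOn (fun q => q.1 + q.2) (fun q hq => ?_) ?_ (Set.toFinite _)
    · show ∑ i, (q.1 + q.2) i = 0
      simp only [Pi.add_apply, Finset.sum_add_distrib, hq.1.1, hq.2.1, add_zero]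
    · rintro ⟨c, y⟩ ⟨hc', hy⟩ ⟨c', y'⟩ ⟨hc'', hy'⟩ e
      have e' : ∀ i, c i + y i = c' i + y' i := congrFun e
      have hcc : c = c' := by
        refine hpar c c' (hc'.1.trans hc''.1.symm) fun i hi => ?_
        obtain ⟨x, hx, ei⟩ := ho i
        by_cases hoik : o i = k
        · exact absurd (ei.symm.trans (by rw [hoik, hk x hx])) hi
        · have := e' (o i)
          dsimp only at this hy hy' hc' hc''
          rw [hy.2 _ hoik (hoo i), hy'.2 _ hoik (hoo i), add_zero, add_zero,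
            ← hc'.2 x hx, ← hc''.2 x hx, ei] at this
          exact this
      subst hcc
      rw [Prod.mk.injEq]
      exact ⟨rfl, funext fun i => add_left_cancel (e' i)⟩
  -- one point per orbit
  let g : ↥X → ι → ZMod 2 := fun x i => if o i ≠ i ∧ (x : Equiv.Perm ι) (o i) = i then 1 else 0
  let f : ↥X → ι → ZMod 2 := fun x => g x + Pi.single k (∑ i, g x i)
  have hfne : ∀ x i, i ≠ k → f x i = g x i := fun x i hi => by simp [f, hi]
  have hfY : ∀ x, f x ∈ Y := fun x => by
    refine ⟨?_, fun i hi hoi => ?_⟩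
    · simp [f, Finset.sum_add_distrib, CharTwo.add_self_eq_zero]
    · rw [hfne x i hi]
      simp [g, hoi]
  have hkg : ∀ x, g x k = 0 := fun x => by simp [g, hok]
  have hfi : Function.Injective f := by
    intro x y e
    have hg : g x = g y := funext fun i => by
      by_cases hi : i = k
      · subst hi; rw [hkg, hkg]
      · rw [← hfne x i hi, ← hfne y i hi, e]
    have key : ∀ x y : ↥X, g x = g y → ∀ r, o r = r → (x : Equiv.Perm ι) r ≠ r →
        (y : Equiv.Perm ι) r = (x : Equiv.Perm ι) r := by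
      intro x y hg r hr hne
      have h1 : g x ((x : Equiv.Perm ι) r) = 1 := by
        simp [g, horb _ x.2, hr, Ne.symm hne]
      rw [hg] at h1
      by_contra hh
      simp [g, horb _ x.2, hr, hh] at h1
    apply Subtype.ext
    refine Equiv.ext fun i => ?_
    obtain ⟨z, hz, ei⟩ := ho i
    have hxy : (x : Equiv.Perm ι) (o i) = (y : Equiv.Perm ι) (o i) := by
      by_cases h1 : (x : Equiv.Perm ι) (o i) = o i
      · by_cases h2 : (y : Equiv.Perm ι) (o i) = o i
        · rw [h1, h2]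
        · exact key y x hg.symm _ (hoo i) h2
      · exact (key x y hg _ (hoo i) h1).symm
    rw [← ei, ← Equiv.Perm.mul_apply, hc _ x.2 _ hz, Equiv.Perm.mul_apply, hxy,
      ← Equiv.Perm.mul_apply, hc _ hz _ y.2, Equiv.Perm.mul_apply]
  have hle : Nat.card ↥X ≤ Y.ncard := by
    rw [← Nat.card_coe_set_eq]
    exact Nat.card_le_card_of_injective (fun x => (⟨f x, hfY x⟩ : ↥Y))
      fun x y e => hfi (congrArg Subtype.val e)
  refine ⟨le_trans (Nat.mul_le_mul_right _ hle) (mul_comm C.ncard Y.ncard ▸ hCY), fun hne hge => ?_⟩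
  have hCpos : 0 < C.ncard := (Set.ncard_pos (Set.toFinite _)).2 ⟨0, by simp [hC]⟩
  have hYX : Y.ncard ≤ Nat.card ↥X := by
    exact Nat.le_of_mul_le_mul_left (hCY.trans (hge.trans (mul_comm _ _).le)) hCpos
  have hsurj : ∀ y ∈ Y, ∃ x, f x = y := by
    intro y hy
    have hinjY : Function.Injective (fun x => (⟨f x, hfY x⟩ : ↥Y)) :=
      fun x y e => hfi (congrArg Subtype.val e)
    obtain ⟨x, hx⟩ := ((Nat.bijective_iff_injective_and_card _).2 ⟨hinjY,
      le_antisymm (Nat.card_le_card_of_injective _ hinjY) (by rwa [Nat.card_coe_set_eq])⟩).2 ⟨y, hy⟩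
    exact ⟨x, congrArg Subtype.val hx⟩
  obtain ⟨z, hz, hz1⟩ : ∃ z ∈ X, z ≠ 1 := by
    by_contra! h
    exact hne ((Subgroup.eq_bot_iff_forall _).2 h)
  obtain ⟨i₀, hi₀⟩ : ∃ i, z i ≠ i := by
    by_contra! h
    exact hz1 (Equiv.ext h)
  obtain ⟨j, hj⟩ : ∃ j, o j ≠ j := by
    by_contra! h
    exact hi₀ ((h (z i₀)).symm.trans ((horb z hz i₀).trans (h i₀)))
  have hjk : j ≠ k := fun e => hj (e ▸ hok)
  -- the element of the orbit vector of `j`
  obtain ⟨x, hx⟩ := hsurj (pr j k) ⟨sum_pr j k, fun i hi hoi =>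
    pr_other (fun e => hj (e ▸ hoi)) hi⟩
  have hgx : ∀ i, i ≠ k → g x i = pr j k i := fun i hi => by rw [← hfne x i hi, hx]
  have hxj : (x : Equiv.Perm ι) (o j) = j := by
    have := hgx j hjk
    rw [pr_left hjk] at this
    simp [g] at this
    exact this.2
  have hxfix : ∀ i, o i ≠ o j → (x : Equiv.Perm ι) i = i := by
    intro i hi
    obtain ⟨w, hw, ei⟩ := ho i
    have h0 : (x : Equiv.Perm ι) (o i) = o i := by
      by_contra hh
      set l := (x : Equiv.Perm ι) (o i) with hl
      have hlo : o l = o i := by rw [hl, horb _ x.2, hoo]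
      have hlk : l ≠ k := fun e => hh (by
        have : o i = k := by rw [← hlo, e, hok]
        rw [e, this])
      have := hgx l hlk
      rw [pr_other (fun e => hi (by rw [← hlo, e])) hlk] at this
      have h9 : g x l = 1 := if_pos ⟨by rw [hlo]; exact Ne.symm hh, by rw [hlo]⟩
      rw [h9] at this
      exact one_ne_zero this
    conv_lhs => rw [← ei]
    rw [← Equiv.Perm.mul_apply, hc _ x.2 _ hw, Equiv.Perm.mul_apply, h0, ei]
  -- the orbit of `j` has two points
  have horbit : ∀ i, o i = o j → i = o j ∨ i = j := by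
    intro i hi
    by_contra! hh
    have hik : i ≠ k := fun e => hh.1 (by rw [← hi, e, hok])
    obtain ⟨y, hy⟩ := hsurj (pr i j) ⟨sum_pr i j, fun l _ hol =>
      pr_other (fun e => hh.1 (by rw [← hi, ← e, hol, e])) (fun e => hj (e ▸ hol))⟩
    have hi' := (hfne y i hik).symm.trans (congrFun hy i)
    have hj' := (hfne y j hjk).symm.trans (congrFun hy j)
    rw [pr_left hh.2] at hi'
    rw [pr_comm, pr_left (Ne.symm hh.2)] at hj'
    simp [g, hi] at hi' hj'
    exact hh.2 (hi'.2.symm.trans hj'.2)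
  refine ⟨x, x.2, o j, j, hj, Equiv.ext fun i => ?_⟩
  by_cases h1 : i = o j
  · subst h1; rw [Equiv.swap_apply_left, hxj]
  by_cases h2 : i = j
  · subst h2
    rw [Equiv.swap_apply_right]
    refine ((horbit _ (horb _ x.2 i)).resolve_right fun e => h1 ?_)
    exact ((x : Equiv.Perm ι).injective (hxj.trans e.symm)).symm
  rw [Equiv.swap_apply_of_ne_of_ne h1 h2]
  exact hxfix i fun e => (horbit i e).elim h1 h2

end Cfsg.Agent.FFPM.Even
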