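import Mathlib

/-!
Abelian `p`-groups of semilinear maps of a plane: `|X| |C(X)| ≤ q²`.
-/

set_option autoImplicit false
set_option linter.style.haveILetI false

namespace Cfsg.Agent.FFPM.Semi

open scoped MatrixGroups

variable {F : Type*} [Field F]

/-- An additive map commuting with the transvections is a scalar. -/
theorem scalar_of_comm (g : (Fin 2 → F) →+ (Fin 2 → F))
    (hg : ∀ (s : SL(2, F)) (w : Fin 2 → F),
      g ((s : Matrix (Fin 2) (Fin 2) F).mulVec w) = (s : Matrix (Fin 2) (Fin 2) F).mulVec (g w)) :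
    ∃ c : F, ∀ w, g w = c • w := by
  let P : F → SL(2, F) := fun u => ⟨!![1, u; 0, 1], by rw [Matrix.det_fin_two_of]; ring⟩
  let Q : F → SL(2, F) := fun u => ⟨!![1, 0; u, 1], by rw [Matrix.det_fin_two_of]; ring⟩
  have hP : ∀ (u : F) (w : Fin 2 → F), (P u : Matrix (Fin 2) (Fin 2) F).mulVec w =
      ![w 0 + u * w 1, w 1] := fun u w => by
    funext i; fin_cases i <;> simp [P, Matrix.mulVec, dotProduct, Fin.sum_univ_two]
  have hQ : ∀ (u : F) (w : Fin 2 → F), (Q u : Matrix (Fin 2) (Fin 2) F).mulVec w =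
      ![w 0, u * w 0 + w 1] := fun u w => by
    funext i; fin_cases i <;> simp [Q, Matrix.mulVec, dotProduct, Fin.sum_univ_two]
  have h0 : ∀ x : F, (g ![x, 0]) 1 = 0 := fun x => by
    have h := congrFun (hg (P 1) ![x, 0]) 0
    rw [hP, hP] at h
    simp at h
    exact h
  have h1 : ∀ y : F, (g ![0, y]) 0 = 0 := fun y => by
    have h := congrFun (hg (Q 1) ![0, y]) 1
    rw [hQ, hQ] at h
    simp at h
    exact h
  have hsplit : ∀ w : Fin 2 → F, w = ![w 0, 0] + ![0, w 1] := fun w => by
    funext i; fin_cases i <;> simp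
  have e : ∀ u y : F, (g ![u * y, 0]) 0 = u * (g ![0, y]) 1 := fun u y => by
    have h := congrFun (hg (P u) ![0, y]) 0
    rw [hP, hP] at h
    simp at h
    rw [hsplit ![u * y, y], map_add, Pi.add_apply] at h
    simp [h1] at h
    exact h
  refine ⟨(g ![0, 1]) 1, fun w => ?_⟩
  have ha : ∀ x, (g ![x, 0]) 0 = (g ![0, 1]) 1 * x := fun x => by
    have := e x 1
    rwa [mul_one, mul_comm] at this
  have hb : ∀ y, (g ![0, y]) 1 = (g ![0, 1]) 1 * y := fun y => by
    have := e 1 y
    rw [one_mul, one_mul, ha] at this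
    exact this.symm
  conv_lhs => rw [hsplit w, map_add]
  funext i
  fin_cases i
  · show (g ![w 0, 0]) 0 + (g ![0, w 1]) 0 = (g ![0, 1]) 1 * w 0
    rw [h1, ha, add_zero]
  · show (g ![w 0, 0]) 1 + (g ![0, w 1]) 1 = (g ![0, 1]) 1 * w 1
    rw [h0, hb, zero_add]

/-- An additive bijection normalising `SL₂` is semilinear. -/
theorem semilinear_of_normalises (b : (Fin 2 → F) →+ (Fin 2 → F)) (hb : Function.Bijective b)
    (hn' : ∀ s' : SL(2, F), ∃ s : SL(2, F), ∀ w,
      b ((s : Matrix (Fin 2) (Fin 2) F).mulVec w) = (s' : Matrix (Fin 2) (Fin 2) F).mulVec (b w))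
    (l : F) : ∃ c : F, ∀ w, b (l • w) = c • b w := by
  let e := AddEquiv.ofBijective b hb
  let g : (Fin 2 → F) →+ (Fin 2 → F) :=
    b.comp ((DistribSMul.toAddMonoidHom (Fin 2 → F) l).comp e.symm.toAddMonoidHom)
  have hg : ∀ w, g w = b (l • e.symm w) := fun _ => rfl
  obtain ⟨c, hc⟩ := scalar_of_comm g fun s' w => by
    obtain ⟨s, hs⟩ := hn' s'
    have h1 : e.symm ((s' : Matrix (Fin 2) (Fin 2) F).mulVec w) =
        (s : Matrix (Fin 2) (Fin 2) F).mulVec (e.symm w) := by
      rw [AddEquiv.symm_apply_eq]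
      show _ = b _
      rw [hs]
      congr 1
      exact (e.apply_symm_apply w).symm
    rw [hg, hg, h1, ← Matrix.mulVec_smul, hs]
  refine ⟨c, fun w => ?_⟩
  rw [← hc, hg, show e.symm (b w) = w from e.symm_apply_apply w]

variable [Fintype F] {p : ℕ} [hpp : Fact p.Prime] [CharP F p]

/-- Order count for abelian `p`-groups of semilinear maps. -/
theorem card_mul_le {K : Type*} [Group K] [Finite K] (hK : IsPGroup p K)
    (hcomm : ∀ x y : K, x * y = y * x) (act : K →* AddMonoid.End (Fin 2 → F))
    (hinj : Function.Injective act)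
    (hsemi : ∀ (x : K) (l : F), ∃ c : F, ∀ w, act x (l • w) = c • act x w) :
    Nat.card K * {w : Fin 2 → F | ∀ x, act x w = w}.ncard ≤ Fintype.card F ^ 2 ∧
      (Fintype.card F ^ 2 ≤ Nat.card K * {w : Fin 2 → F | ∀ x, act x w = w}.ncard →
        (∀ x, ∃ s : SL(2, F), ∀ w, act x w = (s : Matrix (Fin 2) (Fin 2) F).mulVec w) ∧
        (Nontrivial K → Nat.card K = Fintype.card F ∧ ∃ w₀, w₀ ≠ 0 ∧
          (∀ x y w, act y (act x w - w) = act x w - w) ∧ ∀ s : SL(2, F),
          (s : Matrix (Fin 2) (Fin 2) F).mulVec w₀ = w₀ →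
          ∃ x, ∀ w, act x w = (s : Matrix (Fin 2) (Fin 2) F).mulVec w)) := by
  classical
  set C : Set (Fin 2 → F) := {w | ∀ x, act x w = w} with hC
  have hinv : ∀ x w, act x⁻¹ (act x w) = w := fun x w => by
    show (act x⁻¹ * act x) w = w
    rw [← map_mul, inv_mul_cancel, map_one]
    rfl
  have hinj' : ∀ x, Function.Injective (act x) := fun x => Function.LeftInverse.injective (hinv x)
  -- a fixed vector
  obtain ⟨w₀, hw₀, hw0⟩ : ∃ w₀ ∈ C, w₀ ≠ 0 := by
    letI : MulAction K (Fin 2 → F) := MulAction.ofEndHom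
      ({ toFun := fun x => (act x : (Fin 2 → F) → Fin 2 → F)
         map_one' := by rw [map_one]; rfl
         map_mul' := fun x y => by rw [map_mul]; rfl } : K →* Function.End (Fin 2 → F))
    have hd : p ∣ Nat.card (Fin 2 → F) := by
      rw [Nat.card_eq_fintype_card, Fintype.card_fun]
      obtain ⟨n, -, hn⟩ := FiniteField.card F p
      rw [hn, Fintype.card_fin, ← pow_mul]
      exact dvd_pow_self p (by positivity)
    obtain ⟨w, hw, hne⟩ := hK.exists_fixed_point_of_prime_dvd_card_of_fixed_point (Fin 2 → F) hd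
      (a := 0) (fun x => map_zero (act x))
    exact ⟨w, fun x => hw x, Ne.symm hne⟩
  -- the field automorphisms
  choose τ hτ using hsemi
  have htau : ∀ x l c, (∀ w, act x (l • w) = c • act x w) → τ x l = c := by
    intro x l c h
    have := (hτ x l w₀).symm.trans (h w₀)
    rw [hw₀ x] at this
    exact smul_left_injective F hw0 this
  have hτw : ∀ x l, act x (l • w₀) = τ x l • w₀ := fun x l => by rw [hτ x l, hw₀ x]
  have hτmul : ∀ x l m, τ x (l * m) = τ x l * τ x m := fun x l m =>
    htau x _ _ fun w => by rw [mul_smul, hτ, hτ, smul_smul]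
  have hτadd : ∀ x l m, τ x (l + m) = τ x l + τ x m := fun x l m =>
    htau x _ _ fun w => by rw [add_smul, map_add, hτ, hτ, add_smul]
  have hτcomp : ∀ x y l, τ (x * y) l = τ x (τ y l) := fun x y l =>
    htau _ _ _ fun w => by
      show act (x * y) _ = _
      rw [map_mul]
      show act x (act y (l • w)) = τ x (τ y l) • act x (act y w)
      rw [hτ y, hτ x]
  have hτone : ∀ l, τ 1 l = l := fun l => htau _ _ _ fun w => by rw [map_one]; rfl
  let σ : K →* RingAut F :=
    { toFun := fun x =>
        { toFun := τ x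
          invFun := τ x⁻¹
          left_inv := fun l => by rw [← hτcomp, inv_mul_cancel, hτone]
          right_inv := fun l => by rw [← hτcomp, mul_inv_cancel, hτone]
          map_mul' := hτmul x
          map_add' := hτadd x }
      map_one' := RingEquiv.ext hτone
      map_mul' := fun x y => RingEquiv.ext (hτcomp x y) }
  have hσ : ∀ x l, σ x l = τ x l := fun _ _ => rfl
  haveI : Finite (RingAut F) := Finite.of_injective (fun e : RingAut F => (e : F → F)) DFunLike.coe_injective
  letI : Fintype ↥σ.range := Fintype.ofFinite _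
  haveI : FaithfulSMul ↥σ.range F :=
    ⟨fun {a b} h => Subtype.ext (RingEquiv.ext h)⟩
  set F₀ := FixedPoints.subfield ↥σ.range F with hF₀
  have hfix : ∀ {l : F}, (∀ x, τ x l = l) → l ∈ F₀ := fun {l} h => by
    rintro ⟨_, x, rfl⟩
    exact h x
  set P := Nat.card ↥σ.range with hP
  set q₀ := Nat.card ↥F₀ with hq₀
  have hq : Fintype.card F = q₀ ^ P := by
    rw [← Nat.card_eq_fintype_card, Module.natCard_eq_pow_finrank (K := ↥F₀),
      FixedPoints.finrank_eq_card ↥σ.range F]
    simp only [hP, hq₀, Nat.card_eq_fintype_card]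
  have hq₀2 : 2 ≤ q₀ := Finite.one_lt_card
  have hP1 : 1 ≤ P := Nat.card_pos
  have hnum : P * q₀ * q₀ ≤ (q₀ ^ P) ^ 2 ∧ ((q₀ ^ P) ^ 2 ≤ P * q₀ * q₀ → P = 1) := by
    rcases eq_or_lt_of_le hP1 with e | e
    · rw [← e]; exact ⟨le_of_eq (by ring), fun _ => rfl⟩
    · have h1 : P < 2 ^ (2 * P - 2) := lt_of_le_of_lt (by omega) (Nat.lt_two_pow_self)
      have h2 : 2 ^ (2 * P - 2) ≤ q₀ ^ (2 * P - 2) := Nat.pow_le_pow_left hq₀2 _
      have h3 : P * q₀ * q₀ < (q₀ ^ P) ^ 2 := by
        rw [← pow_mul, show P * 2 = (2 * P - 2) + 2 by omega, pow_add, pow_two, mul_assoc]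
        exact Nat.mul_lt_mul_of_pos_right (h1.trans_le h2) (by positivity)
      exact ⟨h3.le, fun h => absurd h (not_le.2 h3)⟩
  -- a complement of the fixed line
  obtain ⟨u, hu⟩ : ∃ u : Fin 2 → F, ∀ w, ∃ a c : F, w = a • u + c • w₀ := by
    by_cases h0 : w₀ 0 = 0
    · have h1 : w₀ 1 ≠ 0 := fun h => hw0 (by funext i; fin_cases i <;> simp [h0, h])
      exact ⟨![1, 0], fun w => ⟨w 0, w 1 / w₀ 1, by funext i; fin_cases i <;> simp [h0, h1]⟩⟩
    · refine ⟨![0, 1], fun w => ⟨w 1 - w 0 / w₀ 0 * w₀ 1, w 0 / w₀ 0, ?_⟩⟩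
      funext i; fin_cases i <;> simp [h0]
  have huw : ∀ a c : F, a • u + c • w₀ = 0 → a = 0 ∧ c = 0 := by
    have hs : Function.Surjective (fun ac : F × F => ac.1 • u + ac.2 • w₀) := fun w => by
      obtain ⟨a, c, e⟩ := hu w
      exact ⟨(a, c), e.symm⟩
    have hb : Function.Bijective (fun ac : F × F => ac.1 • u + ac.2 • w₀) :=
      (Fintype.bijective_iff_surjective_and_card _).2 ⟨hs, by simp [Fintype.card_prod, pow_two]⟩
    intro a c h
    have := hb.1 (a₁ := (a, c)) (a₂ := (0, 0)) (by simpa using h)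
    exact ⟨congrArg Prod.fst this, congrArg Prod.snd this⟩
  have hco : ∀ {a c a' c' : F}, a • u + c • w₀ = a' • u + c' • w₀ → a = a' ∧ c = c' := by
    intro a c a' c' h
    obtain ⟨h1, h2⟩ := huw (a - a') (c - c') (by rw [sub_smul, sub_smul, ← sub_eq_zero.2 h]; abel)
    exact ⟨sub_eq_zero.1 h1, sub_eq_zero.1 h2⟩
  choose A B hAB using fun x => hu (act x u)
  have hgen : ∀ x a c, act x (a • u + c • w₀) = τ x a • act x u + τ x c • w₀ := fun x a c => by
    rw [map_add, hτ x, hτw]
  -- linear elements are transvections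
  have hlin : ∀ {x}, (∀ l, τ x l = l) → A x = 1 := by
    intro x hx
    obtain ⟨k, hk⟩ := hK x
    have key : ∀ j : ℕ, ∃ c : F, act (x ^ j) u = A x ^ j • u + c • w₀ := by
      intro j
      induction j with
      | zero => exact ⟨0, by rw [pow_zero, map_one]; simp⟩
      | succ j ih =>
        obtain ⟨c, hc⟩ := ih
        refine ⟨A x ^ j * B x + c, ?_⟩
        rw [pow_succ', map_mul]
        show act x (act (x ^ j) u) = _
        rw [hc, hgen, hx, hx, hAB, smul_add, smul_smul, smul_smul, ← pow_succ, add_smul]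
        abel
    obtain ⟨c, hc⟩ := key (p ^ k)
    rw [hk, map_one] at hc
    have h1 : (A x) ^ p ^ k = 1 :=
      (hco (a := (1 : F)) (c := 0) (a' := A x ^ p ^ k) (c' := c) (by simpa using hc)).1.symm
    have h2 : (A x - 1) ^ p ^ k = 0 := by rw [sub_pow_char_pow, h1, one_pow, sub_self]
    exact sub_eq_zero.1 (pow_eq_zero_iff (pow_ne_zero k hpp.out.ne_zero) |>.1 h2)
  have hker : ∀ {x}, x ∈ σ.ker → ∀ l, τ x l = l := fun {x} hx l => by
    rw [← hσ, MonoidHom.mem_ker.1 hx]; rfl
  have hactker : ∀ {x}, x ∈ σ.ker → ∀ a c, act x (a • u + c • w₀) = a • u + (a * B x + c) • w₀ := by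
    intro x hx a c
    rw [hgen, hker hx, hker hx, hAB, hlin (hker hx), one_smul, smul_add, smul_smul, add_smul]
    abel
  have hker1 : ∀ {x}, x ∈ σ.ker → B x = 0 → x = 1 := fun {x} hx hB => hinj (by
    rw [map_one]
    refine AddMonoidHom.ext fun w => ?_
    obtain ⟨a, c, rfl⟩ := hu w
    show act x _ = _
    rw [hactker hx, hB, mul_zero, zero_add]
    rfl)
  have htwist : ∀ {l}, l ∈ σ.ker → ∀ x, τ x (B l) = A x * B l := by
    intro l hl x
    have h1 : act x (act l u) = act l (act x u) := by
      show (act x * act l) u = (act l * act x) u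
      rw [← map_mul, hcomm, map_mul]
    rw [hAB l, hlin (hker hl), hgen, show τ x 1 = 1 from (σ x).map_one, one_smul, hAB x, hactker hl,
      add_assoc, ← add_smul] at h1
    have := (hco h1).2
    linear_combination this
  have hKcard : Nat.card K = Nat.card ↥σ.ker * P := by
    rw [hP, Subgroup.card_eq_card_quotient_mul_card_subgroup σ.ker,
      Nat.card_congr (QuotientGroup.quotientKerEquivRange σ).toEquiv, mul_comm]
  by_cases hL : σ.ker = ⊥
  · have hKP : Nat.card K = P := by rw [hKcard, hL, Subgroup.card_bot, one_mul]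
    have hC2 : C.ncard ≤ q₀ * q₀ := by
      by_cases hind : ∀ w ∈ C, ∃ c : F, w = c • w₀
      · refine le_trans ?_ (Nat.le_mul_of_pos_left q₀ (by omega))
        rw [hq₀, ← Nat.card_coe_set_eq C]
        refine Nat.card_le_card_of_surjective (fun c : ↥F₀ => (⟨(c : F) • w₀, fun x => by
          rw [hτw, show τ x c = c from c.2 ⟨σ x, x, rfl⟩]⟩ : ↥C)) fun w => ?_
        obtain ⟨c, hc⟩ := hind w w.2
        refine ⟨⟨c, hfix fun x => smul_left_injective F hw0 ?_⟩, Subtype.ext hc.symm⟩
        show τ x c • w₀ = c • w₀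
        rw [← hτw, ← hc, w.2 x]
      · push Not at hind
        obtain ⟨v, hv, hvn⟩ := hind
        obtain ⟨a₀, c₀, hv'⟩ := hu v
        have ha0 : a₀ ≠ 0 := fun e => hvn c₀ (by rw [hv', e, zero_smul, zero_add])
        have hrep : ∀ w, ∃ a c : F, w = a • v + c • w₀ := fun w => by
          obtain ⟨a, c, rfl⟩ := hu w
          refine ⟨a / a₀, c - a / a₀ * c₀, ?_⟩
          rw [hv', smul_add, smul_smul, smul_smul, div_mul_cancel₀ _ ha0, sub_smul]
          abel
        rw [hq₀, ← Nat.card_prod, ← Nat.card_coe_set_eq C]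
        refine Nat.card_le_card_of_surjective (fun ac : ↥F₀ × ↥F₀ =>
          (⟨(ac.1 : F) • v + (ac.2 : F) • w₀, fun x => by
            rw [map_add, hτ x, hv x, hτw, show τ x (ac.1 : F) = ac.1 from ac.1.2 ⟨σ x, x, rfl⟩,
              show τ x (ac.2 : F) = ac.2 from ac.2.2 ⟨σ x, x, rfl⟩]⟩ : ↥C)) fun w => ?_
        obtain ⟨a, c, hw⟩ := hrep w
        have hfx : ∀ x, τ x a = a ∧ τ x c = c := by
          intro x
          have h1 : τ x a • v + τ x c • w₀ = a • v + c • w₀ := by
            rw [← hw, ← hτw]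
            conv_rhs => rw [← w.2 x, hw, map_add, hτ x, hv x]
          rw [hv', smul_add, smul_add, smul_smul, smul_smul, smul_smul, smul_smul, add_assoc,
            add_assoc, ← add_smul, ← add_smul] at h1
          obtain ⟨e1, e2⟩ := hco h1
          have e1' := mul_right_cancel₀ ha0 e1
          exact ⟨e1', by rw [e1'] at e2; exact add_left_cancel e2⟩
        exact ⟨(⟨a, hfix fun x => (hfx x).1⟩, ⟨c, hfix fun x => (hfx x).2⟩), Subtype.ext hw.symm⟩
    have hmul : Nat.card K * C.ncard ≤ P * q₀ * q₀ := by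
      rw [hKP, mul_assoc]; exact Nat.mul_le_mul_left P hC2
    refine ⟨hmul.trans (hnum.1.trans_eq (by rw [hq])), fun hge => ?_⟩
    have hP' : P = 1 := hnum.2 (((congrArg (· ^ 2) hq).symm.trans_le hge).trans hmul)
    have hsub : Subsingleton K := (Nat.card_eq_one_iff_unique.1 (hKP.trans hP')).1
    refine ⟨fun x => ⟨1, fun w => ?_⟩, fun hn => absurd hn (not_nontrivial K)⟩
    rw [Subsingleton.elim x 1, map_one]
    simp
  · obtain ⟨l₀, hl₀, hl1⟩ : ∃ l ∈ σ.ker, l ≠ 1 := by
      by_contra! h
      exact hL ((Subgroup.eq_bot_iff_forall _).2 h)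
    have hB0 : B l₀ ≠ 0 := fun e => hl1 (hker1 hl₀ e)
    have hLle : Nat.card ↥σ.ker ≤ q₀ := by
      rw [hq₀]
      refine Nat.card_le_card_of_injective (fun l : ↥σ.ker =>
        (⟨B l / B l₀, hfix fun x => ?_⟩ : ↥F₀)) fun l m e => ?_
      · have hA : A x ≠ 0 := fun e => hB0 (by
          have := htwist hl₀ x
          rw [e, zero_mul, ← hσ, map_eq_zero_iff _ (σ x).injective] at this
          exact this)
        rw [← hσ, map_div₀, hσ, hσ, htwist l.2, htwist hl₀, mul_div_mul_left _ _ hA]
      · have e' : B (l : K) = B (m : K) := by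
          have := congrArg (fun z : ↥F₀ => (z : F) * B l₀) e
          simpa [div_mul_cancel₀ _ hB0] using this
        refine Subtype.ext (hinj (AddMonoidHom.ext fun w => ?_))
        obtain ⟨a, c, rfl⟩ := hu w
        show act _ _ = act _ _
        rw [hactker l.2, hactker m.2, e']
    have hCq : C.ncard ≤ q₀ := by
      rw [hq₀, ← Nat.card_coe_set_eq C]
      refine Nat.card_le_card_of_surjective (fun c : ↥F₀ => (⟨(c : F) • w₀, fun x => by
        rw [hτw, show τ x c = c from c.2 ⟨σ x, x, rfl⟩]⟩ : ↥C)) fun w => ?_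
      obtain ⟨a, c, hw⟩ := hu w
      have h1 := w.2 l₀
      rw [hw, hactker hl₀] at h1
      have ha : a = 0 := by
        have := (hco h1).2
        exact (mul_eq_zero.1 (add_eq_right.1 this)).resolve_right hB0
      rw [ha, zero_smul, zero_add] at hw
      refine ⟨⟨c, hfix fun x => smul_left_injective F hw0 ?_⟩, Subtype.ext hw.symm⟩
      show τ x c • w₀ = c • w₀
      rw [← hτw, ← hw, w.2 x]
    have hmul : Nat.card K * C.ncard ≤ P * q₀ * q₀ := by
      rw [hKcard, mul_comm _ P]
      exact Nat.mul_le_mul (Nat.mul_le_mul_left P hLle) hCq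
    refine ⟨hmul.trans (hnum.1.trans_eq (by rw [hq])), fun hge => ?_⟩
    have hP' : P = 1 := hnum.2 (((congrArg (· ^ 2) hq).symm.trans_le hge).trans hmul)
    have hall : ∀ x : K, x ∈ σ.ker := fun x => by
      haveI := (Nat.card_eq_one_iff_unique.1 hP').1
      exact MonoidHom.mem_ker.2 (congrArg Subtype.val
        (Subsingleton.elim (⟨σ x, x, rfl⟩ : ↥σ.range) ⟨1, one_mem _⟩))
    have hqq : Fintype.card F = q₀ := by rw [hq, hP', pow_one]
    have hKq : Nat.card K = Fintype.card F := by
      refine le_antisymm ?_ ?_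
      · rw [hKcard, hP', mul_one, hqq]; exact hLle
      · rw [pow_two] at hge
        refine Nat.le_of_mul_le_mul_right (hge.trans ?_) Fintype.card_pos
        rw [hqq]
        exact Nat.mul_le_mul_left _ hCq
    have hbij : Function.Bijective B := by
      have hinjB : Function.Injective B := fun x y e => hinj (AddMonoidHom.ext fun w => by
        obtain ⟨a, c, rfl⟩ := hu w
        show act _ _ = act _ _
        rw [hactker (hall x), hactker (hall y), e])
      exact (Nat.bijective_iff_injective_and_card _).2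
        ⟨hinjB, by rw [hKq, Nat.card_eq_fintype_card]⟩
    -- the transvection with parameter `B x`
    let L : F → ((Fin 2 → F) →ₗ[F] (Fin 2 → F)) := fun b =>
      { toFun := fun w => w + ((hu w).choose * b) • w₀
        map_add' := fun v w => by
          have ev := (hu v).choose_spec.choose_spec
          have ew := (hu w).choose_spec.choose_spec
          have evw := (hu (v + w)).choose_spec.choose_spec
          have h := (hco (a := (hu (v + w)).choose) (c := (hu (v + w)).choose_spec.choose)
            (a' := (hu v).choose + (hu w).choose)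
            (c' := (hu v).choose_spec.choose + (hu w).choose_spec.choose) (by
              rw [← evw, add_smul, add_smul]
              nth_rewrite 1 [ev]
              nth_rewrite 1 [ew]
              abel)).1
          rw [h, add_mul, add_smul]
          abel
        map_smul' := fun r w => by
          have ew := (hu w).choose_spec.choose_spec
          have erw := (hu (r • w)).choose_spec.choose_spec
          have h := (hco (a := (hu (r • w)).choose) (c := (hu (r • w)).choose_spec.choose)
            (a' := r * (hu w).choose) (c' := r * (hu w).choose_spec.choose) (by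
              rw [← erw]
              nth_rewrite 1 [ew]
              rw [smul_add, smul_smul, smul_smul])).1
          rw [h, RingHom.id_apply, smul_add, smul_smul, mul_assoc] }
    have hLact : ∀ x w, act x w = L (B x) w := fun x w => by
      show _ = w + _
      have ew := (hu w).choose_spec.choose_spec
      conv_lhs => rw [ew, hactker (hall x), add_smul, ← add_assoc, add_right_comm, ← ew]
    have hdet : ∀ b, (LinearMap.toMatrix' (L b)).det = 1 := fun b => by
      obtain ⟨x, rfl⟩ := hbij.2 b
      obtain ⟨k, hk⟩ := hK x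
      have hpow : ∀ j : ℕ, ∀ w, act (x ^ j) w = (LinearMap.toMatrix' (L (B x)) ^ j).mulVec w := by
        intro j
        induction j with
        | zero => intro w; rw [pow_zero, pow_zero, map_one, Matrix.one_mulVec]; rfl
        | succ j ih =>
          intro w
          rw [pow_succ', pow_succ', map_mul, ← Matrix.mulVec_mulVec, ← ih,
            LinearMap.toMatrix'_mulVec, ← hLact]
          rfl
      have h1 : LinearMap.toMatrix' (L (B x)) ^ p ^ k = 1 := Matrix.toLin'.injective (by
        refine LinearMap.ext fun w => ?_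
        rw [Matrix.toLin'_apply, ← hpow, hk, map_one, Matrix.toLin'_one]
        rfl)
      have h2 : ((LinearMap.toMatrix' (L (B x))).det - 1) ^ p ^ k = 0 := by
        rw [sub_pow_char_pow, one_pow, ← Matrix.det_pow, h1, Matrix.det_one, sub_self]
      exact sub_eq_zero.1 (pow_eq_zero_iff (pow_ne_zero k hpp.out.ne_zero) |>.1 h2)
    refine ⟨fun x => ⟨⟨_, hdet (B x)⟩, fun w => by rw [hLact]; simp⟩,
      fun _ => ⟨hKq, w₀, hw0, fun x y w => ?_, fun s hs => ?_⟩⟩
    · obtain ⟨a, c, rfl⟩ := hu w
      have e : act x (a • u + c • w₀) - (a • u + c • w₀) = (a * B x) • w₀ := by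
        rw [hactker (hall x), add_smul]; abel
      rw [e, hτw, hker (hall y)]
    obtain ⟨α, β, hsu⟩ := hu ((s : Matrix (Fin 2) (Fin 2) F).mulVec u)
    have hα : α = 1 := by
      let Bm : Matrix (Fin 2) (Fin 2) F := Matrix.of fun i j => if j = 0 then u i else w₀ i
      have hBm : Bm.det ≠ 0 := by
        intro h0
        obtain ⟨v, hv, hv0⟩ := (Matrix.exists_mulVec_eq_zero_iff).2 h0
        have : v 0 • u + v 1 • w₀ = 0 := by
          rw [← hv0]
          funext i
          simp [Bm, Matrix.mulVec, dotProduct, Fin.sum_univ_two, mul_comm]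
        obtain ⟨h1, h2⟩ := huw _ _ this
        exact hv (by funext i; fin_cases i <;> assumption)
      have hmul : (s : Matrix (Fin 2) (Fin 2) F) * Bm = Bm * !![α, 0; β, 1] := by
        ext i j
        have h1 := congrFun hsu i
        have h2 := congrFun hs i
        simp [Matrix.mulVec, dotProduct, Fin.sum_univ_two] at h1 h2
        fin_cases j <;> simp [Bm, Matrix.mul_apply, Fin.sum_univ_two] <;>
          first | linear_combination h2 | linear_combination h1
      have := congrArg Matrix.det hmul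
      rw [Matrix.det_mul, Matrix.det_mul, s.2, one_mul, Matrix.det_fin_two_of] at this
      exact (mul_left_cancel₀ hBm (by linear_combination -this) : α = 1)
    obtain ⟨x, hx⟩ := hbij.2 β
    refine ⟨x, fun w => ?_⟩
    obtain ⟨a, c, rfl⟩ := hu w
    rw [hactker (hall x), hx, Matrix.mulVec_add, Matrix.mulVec_smul, Matrix.mulVec_smul, hsu, hs,
      hα, one_smul, smul_add, smul_smul, add_smul]
    abel

end Cfsg.Agent.FFPM.Semi
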