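import Cfsg.Agent.Lib.Thompson.FFPM.Comp
import Cfsg.Agent.Lib.Thompson.FFPM.PermBound
import Cfsg.Agent.Lib.Thompson.FFPM.SemiBound

/-!
Abelian `p`-groups normalising one component that splits off.
-/

set_option autoImplicit false
set_option linter.unusedSectionVars false
set_option linter.style.haveILetI false

namespace Cfsg.Agent.FFPM

open FFSL2
open scoped MatrixGroups

variable {H : Type*} [Group H] [Finite H] {V : Type*} [AddCommGroup V] [Finite V]
  [DistribMulAction H V] {p q : ℕ} [hpp : Fact p.Prime] {T : Sylow p H} {M : Subgroup H}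

/-- The elements fixing every vector of `U`. -/
def fixer (U : AddSubgroup V) : Subgroup H where
  carrier := {z | ∀ u ∈ U, z • u = u}
  one_mem' := fun u _ => one_smul H u
  mul_mem' := fun {a b} ha hb u hu => by rw [mul_smul, hb u hu, ha u hu]
  inv_mem' := fun {a} ha u hu => by rw [inv_smul_eq_iff, ha u hu]

theorem mem_fixer {U : AddSubgroup V} {z : H} :
    z ∈ (fixer U : Subgroup H) ↔ ∀ u ∈ U, z • u = u := Iff.rfl

theorem smul_movV_mem {E : Subgroup H} {x : H} (hx : x ∈ Subgroup.normalizer (E : Set H)) {u : V}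
    (hu : u ∈ movV V E) : x • u ∈ movV V E := by
  induction hu using AddSubgroup.closure_induction with
  | mem u hu =>
    obtain ⟨z, hz, v, rfl⟩ := hu
    have e : x • (z • v - v) = (x * z * x⁻¹) • (x • v) - x • v := by
      rw [smul_sub, mul_smul, mul_smul, inv_smul_smul]
    rw [e]
    exact sub_mem_movV ((Subgroup.mem_normalizer_iff.1 hx z).1 hz) _
  | zero => rw [smul_zero]; exact zero_mem _
  | add a b _ _ ha hb => rw [smul_add]; exact add_mem ha hb
  | neg a _ ha => rw [smul_neg]; exact neg_mem ha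

theorem conj_mem_of_normalizer {E : Subgroup H} {x e : H}
    (hx : x ∈ Subgroup.normalizer (E : Set H)) (he : e ∈ E) : x * e * x⁻¹ ∈ E :=
  (Subgroup.mem_normalizer_iff.1 hx e).1 he

/-- Fixed points split along the component. -/
theorem card_fix_split {E : Subgroup H} (hdis : movV V E ⊓ fix E = ⊥) (htop : movV V E ⊔ fix E = ⊤)
    {X : Subgroup H} (hX : X ≤ E) :
    Nat.card ↥(fix X : AddSubgroup V) =
      Nat.card ↥(fix E : AddSubgroup V) * Nat.card ↥(movV V E ⊓ fix X) := by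
  have h1 : (fix E : AddSubgroup V) ⊔ (movV V E ⊓ fix X) = fix X := by
    refine le_antisymm (sup_le (fun v hv a ha => hv a (hX ha)) inf_le_right) fun v hv => ?_
    obtain ⟨u, hu, f, hf, rfl⟩ := AddSubgroup.mem_sup.1
      (show v ∈ movV V E ⊔ fix E from htop ▸ AddSubgroup.mem_top v)
    refine AddSubgroup.mem_sup.2 ⟨f, hf, u, ⟨hu, fun a ha => ?_⟩, add_comm f u⟩
    have := hv a ha
    rwa [smul_add, hf a (hX ha), add_left_inj] at this
  have h2 : (fix E : AddSubgroup V) ⊓ (movV V E ⊓ fix X) = ⊥ := by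
    rw [← inf_assoc, inf_comm (fix E) (movV V E), hdis, bot_inf_eq]
  have := card_sup_mul_card_inf (fix E : AddSubgroup V) (movV V E ⊓ fix X)
  rwa [h1, h2, AddSubgroup.card_bot, mul_one] at this

theorem card_split {E : Subgroup H} (hdis : movV V E ⊓ fix E = ⊥) (htop : movV V E ⊔ fix E = ⊤) :
    Nat.card V = Nat.card ↥(fix E : AddSubgroup V) * Nat.card ↥(movV V E) := by
  have := card_sup_mul_card_inf (fix E : AddSubgroup V) (movV V E)
  rwa [sup_comm, htop, inf_comm, hdis, AddSubgroup.card_bot, mul_one, AddSubgroup.card_top] at this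

theorem eq_one_of_fixer (hf : ∀ z : H, (∀ v : V, z • v = v) → z = 1) {E : Subgroup H}
    (htop : movV V E ⊔ fix E = ⊤) {z : H} (hz : z ∈ E)
    (hzW : z ∈ (fixer (movV V E) : Subgroup H)) : z = 1 := hf z fun v => by
  obtain ⟨u, hu, f, hf', rfl⟩ := AddSubgroup.mem_sup.1
    (show v ∈ movV V E ⊔ fix E from htop ▸ AddSubgroup.mem_top v)
  rw [smul_add, hzW u hu, hf' z hz]

/-- The conclusions for one component. -/
def PieceGoal (V : Type*) [AddCommGroup V] [DistribMulAction H V] (q : ℕ) (E X : Subgroup H) : Prop :=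
  Nat.card ↥X * Nat.card ↥(movV V E ⊓ fix X) ≤
      Nat.card ↥(X ⊓ fixer (movV V E)) * Nat.card ↥(movV V E) ∧
    (Nat.card ↥(X ⊓ fixer (movV V E)) * Nat.card ↥(movV V E) ≤
        Nat.card ↥X * Nat.card ↥(movV V E ⊓ fix X) →
      (∀ x ∈ X, ∃ e ∈ E, ∀ u ∈ movV V E, x • u = e • u) ∧
        (X ≤ E → X ≠ ⊥ → ∃ B, Mem V q B ∧ B ≤ X))

theorem card_range_mul {G G' : Type*} [Group G] [Group G'] (π : G →* G') :
    Nat.card G = Nat.card ↥π.ker * Nat.card ↥π.range := by
  rw [Subgroup.card_eq_card_quotient_mul_card_subgroup π.ker,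
    Nat.card_congr (QuotientGroup.quotientKerEquivRange π).toEquiv, mul_comm]

namespace Conf

variable (h : Conf V q T M) {E : Subgroup H}
include h

/-- A symmetric component. -/
theorem piece_perm (hdis : movV V E ⊓ fix E = ⊥) (htop : movV V E ⊔ fix E = ⊤) {n : ℕ} (hn : 1 ≤ n)
    (hp2 : p = 2) (ρ : ↥E ≃* Equiv.Perm (Fin (2 ^ n + 1)))
    (ψ : ↥(movV V E) →+ (Fin (2 ^ n + 1) → ZMod 2)) (hsum : ∀ u, ∑ i, ψ u i = 0)
    (honto : ∀ w, ∑ i, w i = 0 → ∃ u, ψ u = w)
    (hker : ∀ u : ↥(movV V E), ψ u = 0 ↔ (u : V) ∈ (fix E : AddSubgroup V))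
    (hψ : ∀ (z : ↥E) (u : ↥(movV V E)) (i : Fin (2 ^ n + 1)),
      ψ ⟨(z : H) • (u : V), smul_mem_movV z.2 u.2⟩ i = ψ u ((ρ z)⁻¹ i))
    {X : Subgroup H} (hXn : X ≤ Subgroup.normalizer (E : Set H)) (hXp : IsPGroup p ↥X)
    (hXc : Com X X) : PieceGoal V q E X := by
  classical
  subst hp2
  have h3 : 3 ≤ Fintype.card (Fin (2 ^ n + 1)) := by
    rw [Fintype.card_fin]
    have : 2 ^ 1 ≤ 2 ^ n := Nat.pow_le_pow_right two_pos hn
    omega
  have hodd : Odd (Fintype.card (Fin (2 ^ n + 1))) := by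
    rw [Fintype.card_fin]
    exact ⟨2 ^ (n - 1), by rw [← pow_succ', Nat.sub_add_cancel hn]⟩
  have hinj : Function.Injective ψ := (injective_iff_map_eq_zero ψ).2 fun u hu => Subtype.ext (by
    have h1 : (u : V) ∈ (movV V E) ⊓ fix E := ⟨u.2, (hker u).1 hu⟩
    rw [hdis, AddSubgroup.mem_bot] at h1
    exact h1)
  let pre : ∀ w : Fin (2 ^ n + 1) → ZMod 2, (∑ i, w i = 0) → ↥(movV V E) := fun w hw => (honto w hw).choose
  have hpre : ∀ w hw, ψ (pre w hw) = w := fun w hw => (honto w hw).choose_spec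
  -- elements of the normaliser permute the points
  let mv : ↥X → ↥(movV V E) → ↥(movV V E) := fun x u => ⟨(x : H) • (u : V), smul_movV_mem (hXn x.2) u.2⟩
  have hperm : ∀ x : ↥X, ∃ σ : Equiv.Perm (Fin (2 ^ n + 1)), ∀ u i,
      ψ (mv x u) i = ψ u (σ⁻¹ i) := by
    intro x
    let b : (Fin (2 ^ n + 1) → ZMod 2) → (Fin (2 ^ n + 1) → ZMod 2) := fun w =>
      if hw : ∑ i, w i = 0 then ψ (mv x (pre w hw)) else 0
    have hb : ∀ u, b (ψ u) = ψ (mv x u) := fun u => by
      simp only [b, dif_pos (hsum u)]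
      rw [hinj (hpre (ψ u) (hsum u))]
    have hmv_add : ∀ u u', mv x (u + u') = mv x u + mv x u' := fun u u' =>
      Subtype.ext (smul_add _ _ _)
    have hmv_sub : ∀ u u', mv x (u - u') = mv x u - mv x u' := fun u u' =>
      Subtype.ext (smul_sub _ _ _)
    have hmv_inj : Function.Injective (mv x) := fun u u' e =>
      Subtype.ext (MulAction.injective (x : H) (congrArg Subtype.val e))
    obtain ⟨σ, hσ⟩ := Even.exists_perm_of_pairs hodd h3 b
      (fun v w hv hw => by
        obtain ⟨u, rfl⟩ := honto v hv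
        obtain ⟨u', rfl⟩ := honto w hw
        rw [← map_add, hb, hb, hb, hmv_add, map_add])
      (fun v w hv hw e => by
        obtain ⟨u, rfl⟩ := honto v hv
        obtain ⟨u', rfl⟩ := honto w hw
        rw [hb, hb] at e
        rw [hmv_inj (hinj e)])
      (fun i j hij => by
        obtain ⟨c, hc⟩ := honto (Even.pr i j) (Even.sum_pr i j)
        set t : ↥E := ρ.symm (Equiv.swap i j) with ht
        let t' : ↥E := ⟨(x : H) * t * (x : H)⁻¹, conj_mem_of_normalizer (hXn x.2) t.2⟩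
        have htt : t * t = 1 := by rw [ht, ← map_mul, Equiv.swap_mul_self, map_one]
        have ht2 : ρ t' * ρ t' = 1 := by
          rw [← map_mul, show t' * t' = 1 from Subtype.ext (by
            show (x : H) * t * (x : H)⁻¹ * ((x : H) * t * (x : H)⁻¹) = 1
            rw [show (x : H) * t * (x : H)⁻¹ * ((x : H) * t * (x : H)⁻¹) =
              (x : H) * ((t : H) * t) * (x : H)⁻¹ by group, ← Subgroup.coe_mul, htt]
            simp), map_one]
        have ht1 : ρ t' ≠ 1 := fun e => hij (by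
          have e1 : (x : H) * t * (x : H)⁻¹ = 1 :=
            congrArg Subtype.val ((MulEquiv.map_eq_one_iff ρ).1 e)
          rw [conj_eq_one_iff] at e1
          have e2 : t = 1 := Subtype.ext e1
          rw [ht, MulEquiv.map_eq_one_iff] at e2
          exact Equiv.swap_eq_one_iff.1 e2)
        have hsw : ∀ w : Fin (2 ^ n + 1) → ZMod 2, ∀ l,
            w (Equiv.swap i j l) + w l = (w i + w j) * Even.pr i j l := by
          intro w l
          by_cases h1 : l = i
          · subst h1; rw [Equiv.swap_apply_left, Even.pr_left hij, mul_one, add_comm]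
          by_cases h2 : l = j
          · subst h2
            rw [Equiv.swap_apply_right, Even.pr_comm, Even.pr_left (Ne.symm hij), mul_one]
          rw [Equiv.swap_apply_of_ne_of_ne h1 h2, Even.pr_other h1 h2, mul_zero,
            CharTwo.add_self_eq_zero]
        have hmov : ∀ u : ↥(movV V E), (∀ l, ψ (mv x u) ((ρ t') l) + ψ (mv x u) l = 0) ∧
              ψ u i + ψ u j = 0 ∨
            (∀ l, ψ (mv x u) ((ρ t') l) + ψ (mv x u) l = b (Even.pr i j) l) ∧
              ψ u i + ψ u j = 1 := by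
          intro u
          have hinv : (ρ t')⁻¹ = ρ t' := inv_eq_of_mul_eq_one_right ht2
          have e1 : ψ (⟨(t : H) • (u : V), smul_mem_movV t.2 u.2⟩ + u) =
              (ψ u i + ψ u j) • Even.pr i j := by
            funext l
            rw [map_add, Pi.add_apply, hψ, ht, MulEquiv.apply_symm_apply, Equiv.swap_inv, hsw]
            rfl
          have e2 : ∀ l, ψ (mv x u) ((ρ t') l) + ψ (mv x u) l =
              ψ (mv x (⟨(t : H) • (u : V), smul_mem_movV t.2 u.2⟩ + u)) l := by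
            intro l
            rw [← hinv, ← hψ t', hmv_add, map_add, Pi.add_apply]
            congr 1
            refine congrArg (fun z => ψ z l) (Subtype.ext ?_)
            show ((x : H) * t * (x : H)⁻¹) • ((x : H) • (u : V)) = (x : H) • (t : H) • (u : V)
            rw [mul_smul, mul_smul, inv_smul_smul]
          rcases Even.two_cases (ψ u i + ψ u j) with e | e
          · refine Or.inl ⟨fun l => ?_, e⟩
            rw [e2, ← hb, e1, e, zero_smul]
            have : b 0 = 0 := by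
              rw [← map_zero ψ, hb, show mv x 0 = 0 from Subtype.ext (smul_zero _), map_zero]
            rw [this]; rfl
          · refine Or.inr ⟨fun l => ?_, e⟩
            rw [e2, ← hb, e1, e, one_smul]
        have hr : ∀ v : Fin (2 ^ n + 1) → ZMod 2, ∑ l, v l = 0 →
            (∀ l, v ((ρ t') l) + v l = 0) ∨ ∀ l, v ((ρ t') l) + v l = b (Even.pr i j) l := by
          intro v hv
          obtain ⟨u', rfl⟩ := honto v hv
          obtain ⟨u, rfl⟩ : ∃ u, mv x u = u' := (Finite.surjective_of_injective hmv_inj) u'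
          rcases hmov u with ⟨e, -⟩ | ⟨e, -⟩
          · exact Or.inl e
          · exact Or.inr e
        obtain ⟨k, l, hkl, hswap⟩ := Even.isSwap_of_rank_one hodd _ ht2 ht1 _ hr
        refine ⟨k, l, hkl, ?_⟩
        obtain ⟨m, -, hm⟩ := Finset.exists_mem_notMem_of_card_lt_card (s := {i, j})
          (t := Finset.univ) (by rw [Finset.card_univ, Finset.card_pair hij]; omega)
        simp only [Finset.mem_insert, Finset.mem_singleton, not_or] at hm
        obtain ⟨u, hu⟩ := honto (Even.pr i m) (Even.sum_pr i m)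
        have hu1 : ψ u i + ψ u j = 1 := by
          rw [hu, Even.pr_left (Ne.symm hm.1), Even.pr_other (Ne.symm hij) (Ne.symm hm.2), add_zero]
        rcases hmov u with ⟨-, e⟩ | ⟨e, -⟩
        · rw [hu1] at e; exact absurd e one_ne_zero
        set w := ψ (mv x u) with hw
        have h5 : ∀ z, b (Even.pr i j) z = (w k + w l) * Even.pr k l z := by
          intro z
          rw [← e z, hswap]
          by_cases h1 : z = k
          · subst h1; rw [Equiv.swap_apply_left, Even.pr_left hkl, mul_one, add_comm]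
          by_cases h2 : z = l
          · subst h2
            rw [Equiv.swap_apply_right, Even.pr_comm, Even.pr_left (Ne.symm hkl), mul_one]
          rw [Equiv.swap_apply_of_ne_of_ne h1 h2, Even.pr_other h1 h2, mul_zero,
            CharTwo.add_self_eq_zero]
        rcases Even.two_cases (w k + w l) with e6 | e6
        · exfalso
          have h7 : b (Even.pr i j) = 0 := funext fun z => by rw [h5, e6, zero_mul]; rfl
          rw [← hc, hb, map_eq_zero_iff ψ hinj] at h7
          have h8 : c = 0 := hmv_inj (h7.trans (Subtype.ext (smul_zero _)).symm)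
          have h9 := congrFun hc i
          rw [h8, map_zero, Even.pr_left hij] at h9
          exact zero_ne_one h9
        · funext z
          rw [h5, e6, one_mul])
    exact ⟨σ, fun u i => by rw [← hb]; exact hσ _ (hsum u) i⟩
  choose π hπ using hperm
  have huniq : ∀ σ τ : Equiv.Perm (Fin (2 ^ n + 1)),
      (∀ u i, ψ u (σ⁻¹ i) = ψ u (τ⁻¹ i)) → σ = τ := by
    intro σ τ hστ
    refine inv_injective (Equiv.ext fun i => ?_)
    by_contra hne
    obtain ⟨m, -, hm⟩ := Finset.exists_mem_notMem_of_card_lt_card (s := {σ⁻¹ i, τ⁻¹ i})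
      (t := Finset.univ) (by rw [Finset.card_univ, Finset.card_pair hne]; omega)
    simp only [Finset.mem_insert, Finset.mem_singleton, not_or] at hm
    obtain ⟨u, hu⟩ := honto (Even.pr (σ⁻¹ i) m) (Even.sum_pr _ _)
    have h1 := hστ u i
    rw [hu, Even.pr_left (Ne.symm hm.1), Even.pr_other (Ne.symm hne) (Ne.symm hm.2)] at h1
    exact one_ne_zero h1
  let P : ↥X →* Equiv.Perm (Fin (2 ^ n + 1)) := MonoidHom.mk' π fun x y => huniq _ _ fun u i => by
    rw [← hπ, mul_inv_rev, Equiv.Perm.mul_apply, ← hπ y, ← hπ x]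
    exact congrArg (fun z => ψ z i) (Subtype.ext (mul_smul (x : H) (y : H) (u : V)))
  have hP : ∀ x u i, ψ (mv x u) i = ψ u ((P x)⁻¹ i) := hπ
  have hcardker : Nat.card ↥P.ker = Nat.card ↥(X ⊓ fixer (movV V E)) := by
    have e : P.ker.map X.subtype = X ⊓ fixer (movV V E) := by
      ext z
      constructor
      · rintro ⟨x, hx, rfl⟩
        refine ⟨x.2, fun u hu => ?_⟩
        have e1 : mv x ⟨u, hu⟩ = ⟨u, hu⟩ := hinj (funext fun i => by
          rw [hP, MonoidHom.mem_ker.1 hx]; simp)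
        exact congrArg Subtype.val e1
      · rintro ⟨hz, hzW⟩
        refine ⟨⟨z, hz⟩, MonoidHom.mem_ker.2 (huniq _ _ fun u i => ?_), rfl⟩
        rw [← hP, show mv ⟨z, hz⟩ u = u from Subtype.ext (hzW _ u.2)]
        simp
    rw [← e, Subgroup.card_map_of_injective X.subtype_injective]
  have hRp : IsPGroup 2 ↥P.range := hXp.of_surjective P.rangeRestrict P.rangeRestrict_surjective
  have hRc : ∀ a ∈ P.range, ∀ b ∈ P.range, a * b = b * a := by
    rintro _ ⟨a, rfl⟩ _ ⟨b, rfl⟩
    rw [← map_mul, ← map_mul, show a * b = b * a from Subtype.ext (hXc a a.2 b b.2)]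
  obtain ⟨hle, heq⟩ := Even.card_mul_le hodd P.range hRp hRc
  have hWc : {w : Fin (2 ^ n + 1) → ZMod 2 | ∑ i, w i = 0}.ncard = Nat.card ↥(movV V E) := by
    rw [← Nat.card_coe_set_eq]
    exact (Nat.card_congr (Equiv.ofBijective
      (fun u => (⟨ψ u, hsum u⟩ : ↥{w : Fin (2 ^ n + 1) → ZMod 2 | ∑ i, w i = 0}))
      ⟨fun a b e => hinj (congrArg Subtype.val e),
        fun w => ⟨pre w.1 w.2, Subtype.ext (hpre w.1 w.2)⟩⟩)).symm
  have hCc : {w : Fin (2 ^ n + 1) → ZMod 2 | ∑ i, w i = 0 ∧ ∀ x ∈ P.range, ∀ i, w (x i) = w i}.ncard =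
      Nat.card ↥((movV V E) ⊓ fix X) := by
    have hfwd : ∀ u : ↥((movV V E) ⊓ fix X), ∀ x ∈ P.range, ∀ i,
        ψ ⟨u, u.2.1⟩ (x i) = ψ ⟨u, u.2.1⟩ i := by
      rintro u _ ⟨x, rfl⟩ i
      conv_rhs => rw [show i = (P x)⁻¹ ((P x) i) by simp, ← hP,
        show mv x ⟨u, u.2.1⟩ = ⟨u, u.2.1⟩ from Subtype.ext (u.2.2 _ x.2)]
    rw [← Nat.card_coe_set_eq]
    refine (Nat.card_congr (Equiv.ofBijective
      (fun u : ↥((movV V E) ⊓ fix X) => (⟨ψ ⟨u, u.2.1⟩, hsum _, hfwd u⟩ : ↥{w : Fin (2 ^ n + 1) → ZMod 2 |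
        ∑ i, w i = 0 ∧ ∀ x ∈ P.range, ∀ i, w (x i) = w i}))
      ⟨fun a b e => Subtype.ext (congrArg (fun z : ↥(movV V E) => (z : V))
        (hinj (congrArg Subtype.val e))), fun w => ?_⟩)).symm
    refine ⟨⟨pre w.1 w.2.1, (pre w.1 w.2.1).2, fun a ha => ?_⟩, Subtype.ext (hpre w.1 w.2.1)⟩
    have e : mv ⟨a, ha⟩ (pre w.1 w.2.1) = pre w.1 w.2.1 := hinj (funext fun i => by
      rw [hP, hpre w.1 w.2.1, ← w.2.2 (P ⟨a, ha⟩) ⟨_, rfl⟩, Equiv.Perm.coe_inv, Equiv.apply_symm_apply])
    exact congrArg Subtype.val e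
  rw [hWc, hCc] at hle heq
  have hXcard := card_range_mul P
  rw [hcardker] at hXcard
  refine ⟨?_, fun hge => ?_⟩
  · rw [hXcard, mul_assoc]
    exact Nat.mul_le_mul_left _ hle
  rw [hXcard, mul_assoc] at hge
  have hge' := Nat.le_of_mul_le_mul_left hge Nat.card_pos
  refine ⟨fun x hx => ⟨ρ.symm (P ⟨x, hx⟩), (ρ.symm _).2, fun u hu => ?_⟩, fun hXE hne => ?_⟩
  · have e : mv ⟨x, hx⟩ ⟨u, hu⟩ =
        ⟨((ρ.symm (P ⟨x, hx⟩) : ↥E) : H) • u, smul_mem_movV (ρ.symm _).2 hu⟩ :=
      hinj (funext fun i => by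
        rw [hP, hψ (ρ.symm (P ⟨x, hx⟩)) ⟨u, hu⟩, MulEquiv.apply_symm_apply])
    exact congrArg Subtype.val e
  obtain ⟨s, ⟨x, rfl⟩, i, j, hij, hs⟩ := heq (fun e => hne (by
    rw [Subgroup.eq_bot_iff_forall]
    intro x hx
    refine eq_one_of_fixer h.pm.faith htop (hXE hx) fun u hu => ?_
    have h1 : P ⟨x, hx⟩ = 1 := Subgroup.mem_bot.1 (e ▸ ⟨⟨x, hx⟩, rfl⟩)
    have e1 : mv ⟨x, hx⟩ ⟨u, hu⟩ = ⟨u, hu⟩ := hinj (funext fun l => by rw [hP, h1]; simp)
    exact congrArg Subtype.val e1)) hge'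
  -- the transposition moves everything by multiples of one vector
  obtain ⟨c, hc⟩ := honto (Even.pr i j) (Even.sum_pr i j)
  have htwo : ∀ v : V, v + v = 0 := fun v => by
    have := h.pm.exp v
    rwa [two_nsmul] at this
  have hmove : ∀ v : V, (x : H) • v - v = 0 ∨ (x : H) • v - v = (c : V) := by
    intro v
    obtain ⟨u, hu, f, hf, rfl⟩ := AddSubgroup.mem_sup.1
      (show v ∈ (movV V E) ⊔ fix E from htop ▸ AddSubgroup.mem_top v)
    rw [smul_add, hf _ (hXE x.2), add_sub_add_right_eq_sub]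
    have hrew : (x : H) • u - u = ((mv x ⟨u, hu⟩ - ⟨u, hu⟩ : ↥(movV V E)) : V) := rfl
    have hval : ∀ l, ψ (mv x ⟨u, hu⟩ - ⟨u, hu⟩) l =
        (ψ ⟨u, hu⟩ i + ψ ⟨u, hu⟩ j) * Even.pr i j l := by
      intro l
      rw [map_sub, Pi.sub_apply, hP, hs, Equiv.swap_inv, CharTwo.sub_eq_add]
      by_cases h1 : l = i
      · subst h1; rw [Equiv.swap_apply_left, Even.pr_left hij, mul_one, add_comm]
      by_cases h2 : l = j
      · subst h2
        rw [Equiv.swap_apply_right, Even.pr_comm, Even.pr_left (Ne.symm hij), mul_one]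
      rw [Equiv.swap_apply_of_ne_of_ne h1 h2, Even.pr_other h1 h2, mul_zero,
        CharTwo.add_self_eq_zero]
    rcases Even.two_cases (ψ ⟨u, hu⟩ i + ψ ⟨u, hu⟩ j) with e | e
    · left
      rw [hrew, show mv x ⟨u, hu⟩ - ⟨u, hu⟩ = 0 from hinj (by
        rw [map_zero]; funext l; rw [hval, e, zero_mul]; rfl)]
      rfl
    · right
      rw [hrew, show mv x ⟨u, hu⟩ - ⟨u, hu⟩ = c from hinj (by
        rw [hc]; funext l; rw [hval, e, one_mul])]
  have hx1 : (x : H) ≠ 1 := fun e => hij (by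
    have : P x = 1 := by rw [show x = 1 from Subtype.ext e, map_one]
    rw [hs] at this
    exact Equiv.swap_eq_one_iff.1 this)
  have hx2 : (x : H) * x = 1 := eq_one_of_fixer h.pm.faith htop (E.mul_mem (hXE x.2) (hXE x.2))
    fun u hu => by
      have e : mv (x * x) ⟨u, hu⟩ = ⟨u, hu⟩ := hinj (funext fun l => by
        rw [hP, map_mul, hs, Equiv.swap_mul_self]; simp)
      exact congrArg Subtype.val e
  have hcard : Nat.card ↥(Subgroup.zpowers (x : H)) = 2 := by
    rw [Nat.card_zpowers, orderOf_eq_prime (p := 2) (by rw [pow_two]; exact hx2) hx1]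
  have hmem2 : ∀ z ∈ Subgroup.zpowers (x : H), z = 1 ∨ z = (x : H) := by
    intro z hz
    rw [← mem_powers_iff_mem_zpowers] at hz
    obtain ⟨k, rfl⟩ := hz
    rcases Nat.even_or_odd' k with ⟨m, rfl | rfl⟩
    · left; show (x : H) ^ (2 * m) = 1; rw [pow_mul, pow_two, hx2, one_pow]
    · right; show (x : H) ^ (2 * m + 1) = x; rw [pow_succ, pow_mul, pow_two, hx2, one_pow, one_mul]
  have hfixc : ∀ v : V, (x : H) • ((x : H) • v - v) = (x : H) • v - v := fun v => by
    rw [smul_sub, ← mul_smul, hx2, one_smul]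
    linear_combination (norm := abel) htwo v - htwo ((x : H) • v)
  refine ⟨Subgroup.zpowers (x : H), h.of_off _ (fun e => hx1 ?_) (fun z hz v w hw => ?_) ?_ ?_,
    Subgroup.zpowers_le.2 x.2⟩
  · exact Subgroup.mem_bot.1 (e ▸ Subgroup.mem_zpowers (x : H))
  · rcases hmem2 z hz with rfl | rfl
    · rw [one_smul, sub_self, smul_zero]
    · rcases hmem2 w hw with rfl | rfl
      · rw [one_smul]
      · exact hfixc v
  · rw [mu, hcard]
    let D : V →+ V := DistribSMul.toAddMonoidHom V (x : H) - AddMonoidHom.id V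
    have h1 := AddSubgroup.card_eq_card_quotient_mul_card_addSubgroup D.ker
    rw [Nat.card_congr (QuotientAddGroup.quotientKerEquivRange D).toEquiv] at h1
    rw [h1]
    refine Nat.mul_le_mul ?_ (AddSubgroup.card_le_of_le fun v hv z hz => ?_)
    · have hsub : (D.range : Set V) ⊆ {0, (c : V)} := by
        rintro _ ⟨v, rfl⟩
        rcases hmove v with e | e
        · exact Or.inl e
        · exact Or.inr e
      show Nat.card ↥(D.range : Set V) ≤ 2
      rw [Nat.card_coe_set_eq]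
      exact (Set.ncard_le_ncard hsub (Set.toFinite _)).trans (by
        refine (Set.ncard_insert_le _ _).trans ?_
        rw [Set.ncard_singleton])
    · rcases hmem2 z hz with rfl | rfl
      · exact one_smul H v
      · exact sub_eq_zero.1 hv
  · rw [hcard]
    obtain ⟨A, hA⟩ := h.exists_mem
    exact hA.two_le

/-- A linear component. -/
theorem piece_sl2 (hdis : movV V E ⊓ fix E = ⊥) (htop : movV V E ⊔ fix E = ⊤)
    (hmem : ∃ B, Mem V q B ∧ B ≤ E) {F : Type} [Field F] [Fintype F] (ρ : ↥E ≃* SL(2, F))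
    (ψ : V →+ (Fin 2 → F)) (hsurj : Function.Surjective ψ)
    (hker : ∀ v, ψ v = 0 ↔ v ∈ (fix E : AddSubgroup V))
    (hψ : ∀ (z : ↥E) (v : V), ψ ((z : H) • v) = (ρ z : Matrix (Fin 2) (Fin 2) F).mulVec (ψ v))
    {X : Subgroup H} (hXn : X ≤ Subgroup.normalizer (E : Set H)) (hXp : IsPGroup p ↥X)
    (hXc : Com X X) : PieceGoal V q E X := by
  classical
  haveI : CharP F p := by
    obtain ⟨v, hv⟩ := hsurj ![1, 0]
    have h1 := congrArg ψ (h.pm.exp v)
    rw [map_nsmul, hv, map_zero] at h1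
    have h2 : (p : F) = 0 := by simpa using congrFun h1 0
    have h3 : ringChar F = p :=
      ((Nat.prime_dvd_prime_iff_eq (CharP.char_is_prime F (ringChar F)) hpp.out).1
        (ringChar.dvd h2))
    exact h3 ▸ ringChar.charP F
  have hdec : ∀ v : V, ∃ u ∈ movV V E, v - u ∈ (fix E : AddSubgroup V) := fun v => by
    obtain ⟨u, hu, f, hf, rfl⟩ := AddSubgroup.mem_sup.1
      (show v ∈ movV V E ⊔ fix E from htop ▸ AddSubgroup.mem_top v)
    exact ⟨u, hu, by rwa [add_sub_cancel_left]⟩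
  have hbij : Function.Bijective (ψ.comp (movV V E).subtype) := by
    refine ⟨(injective_iff_map_eq_zero _).2 fun u hu => Subtype.ext ?_, fun w => ?_⟩
    · have h1 : (u : V) ∈ movV V E ⊓ fix E := ⟨u.2, (hker _).1 hu⟩
      rw [hdis, AddSubgroup.mem_bot] at h1
      exact h1
    · obtain ⟨v, rfl⟩ := hsurj w
      obtain ⟨u, hu, hvu⟩ := hdec v
      refine ⟨⟨u, hu⟩, ?_⟩
      have := (hker _).2 hvu
      rw [map_sub, sub_eq_zero] at this
      exact this.symm
  let e : ↥(movV V E) ≃+ (Fin 2 → F) := AddEquiv.ofBijective _ hbij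
  have he : ∀ u : ↥(movV V E), e u = ψ u := fun _ => rfl
  -- the coordinates of the normaliser
  let co : ↥(Subgroup.normalizer (E : Set H)) →* AddMonoid.End (Fin 2 → F) :=
    { toFun := fun x =>
        { toFun := fun w => ψ ((x : H) • (e.symm w : V))
          map_zero' := by rw [map_zero, ZeroMemClass.coe_zero, smul_zero, map_zero]
          map_add' := fun a b => by rw [map_add, AddSubgroup.coe_add, smul_add, map_add] }
      map_one' := AddMonoidHom.ext fun w => by
        show ψ ((1 : H) • (e.symm w : V)) = w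
        rw [one_smul, ← he, e.apply_symm_apply]
      map_mul' := fun x y => AddMonoidHom.ext fun w => by
        show ψ (((x : H) * y) • (e.symm w : V)) =
          ψ ((x : H) • (e.symm (ψ ((y : H) • (e.symm w : V))) : V))
        have h1 : e.symm (ψ ((y : H) • (e.symm w : V))) =
            ⟨(y : H) • (e.symm w : V), smul_movV_mem y.2 (e.symm w).2⟩ :=
          e.symm_apply_eq.2 rfl
        rw [h1, mul_smul] }
  have hco : ∀ (x : ↥(Subgroup.normalizer (E : Set H))) (u : ↥(movV V E)),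
      co x (ψ u) = ψ ((x : H) • (u : V)) := fun x u => by
    show ψ ((x : H) • (e.symm (ψ u) : V)) = _
    rw [← he, e.symm_apply_apply]
  have hbij' : ∀ x, Function.Bijective (co x) := fun x => by
    refine Finite.injective_iff_bijective.1 (Function.LeftInverse.injective (g := co x⁻¹) fun w => ?_)
    show (co x⁻¹ * co x) w = w
    rw [← map_mul, inv_mul_cancel, map_one]
    rfl
  have hsemi : ∀ (x : ↥(Subgroup.normalizer (E : Set H))) (l : F), ∃ c : F, ∀ w,
      co x (l • w) = c • co x w := fun x l => by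
    refine Semi.semilinear_of_normalises (co x) (hbij' x) (fun s' => ?_) l
    let e' : ↥E := ρ.symm s'
    refine ⟨ρ ⟨(x : H)⁻¹ * e' * (x : H),
      (Subgroup.mem_normalizer_iff''.1 x.2 _).1 e'.2⟩, fun w => ?_⟩
    obtain ⟨u, rfl⟩ : ∃ u : ↥(movV V E), ψ u = w := e.surjective w
    rw [← hψ]
    show co x (ψ ((⟨_, smul_mem_movV ((Subgroup.mem_normalizer_iff''.1 x.2 _).1 e'.2) u.2⟩ :
      ↥(movV V E)) : V)) = _
    rw [hco]
    refine Eq.trans ?_ (congrArg _ (hco x u).symm)
    show ψ ((x : H) • ((x : H)⁻¹ * e' * (x : H)) • (u : V)) = _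
    rw [← mul_smul, show (x : H) * ((x : H)⁻¹ * e' * (x : H)) = e' * x by group, mul_smul, hψ,
      MulEquiv.apply_symm_apply]
  -- the count
  have main : ∀ (Y : Subgroup H), Y ≤ Subgroup.normalizer (E : Set H) → IsPGroup p ↥Y → Com Y Y →
      Nat.card ↥Y * Nat.card ↥(movV V E ⊓ fix Y) ≤
          Nat.card ↥(Y ⊓ fixer (movV V E)) * Nat.card ↥(movV V E) ∧
        (Nat.card ↥(Y ⊓ fixer (movV V E)) * Nat.card ↥(movV V E) ≤
            Nat.card ↥Y * Nat.card ↥(movV V E ⊓ fix Y) →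
          (∀ x ∈ Y, ∃ z ∈ E, ∀ u ∈ movV V E, x • u = z • u) ∧
          (Y ≤ E → Y ≠ ⊥ → Nat.card ↥Y = Fintype.card F ∧
            ∀ y ∈ Y, ∀ v : V, y • v - v ∈ (fix Y : AddSubgroup V))) := by
    intro Y hYn hYp hYc
    let a : ↥Y →* AddMonoid.End (Fin 2 → F) := co.comp (Subgroup.inclusion hYn)
    have ha : ∀ (y : ↥Y) (u : ↥(movV V E)), a y (ψ u) = ψ ((y : H) • (u : V)) := fun y u => hco _ u
    let U : ↥Y →* (AddMonoid.End (Fin 2 → F))ˣ := a.toHomUnits
    have hUa : ∀ y, ((U y : (AddMonoid.End (Fin 2 → F))ˣ) : AddMonoid.End (Fin 2 → F)) = a y :=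
      fun _ => rfl
    let act : ↥U.range →* AddMonoid.End (Fin 2 → F) := (Units.coeHom _).comp U.range.subtype
    haveI : Finite ↥U.range := Finite.of_surjective U.rangeRestrict U.rangeRestrict_surjective
    obtain ⟨hle, heq⟩ := Semi.card_mul_le (hYp.of_surjective U.rangeRestrict U.rangeRestrict_surjective)
      (by
        rintro ⟨_, y, rfl⟩ ⟨_, y', rfl⟩
        apply Subtype.ext
        show U y * U y' = U y' * U y
        rw [← map_mul, ← map_mul, show y * y' = y' * y from Subtype.ext (hYc y y.2 y' y'.2)])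
      act (Units.val_injective.comp Subtype.val_injective)
      (by
        rintro ⟨_, y, rfl⟩ l
        exact hsemi (Subgroup.inclusion hYn y) l)
    have hkercard : Nat.card ↥U.ker = Nat.card ↥(Y ⊓ fixer (movV V E)) := by
      have e1 : U.ker.map Y.subtype = Y ⊓ fixer (movV V E) := by
        ext z
        constructor
        · rintro ⟨y, hy, rfl⟩
          refine ⟨y.2, fun u hu => ?_⟩
          have h1 : a y (ψ u) = ψ u := by
            rw [← hUa, MonoidHom.mem_ker.1 hy]; rfl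
          rw [ha y ⟨u, hu⟩] at h1
          exact congrArg Subtype.val (hbij.1 (a₁ := ⟨_, smul_movV_mem (hYn y.2) hu⟩)
            (a₂ := ⟨u, hu⟩) h1)
        · rintro ⟨hz, hzW⟩
          refine ⟨⟨z, hz⟩, MonoidHom.mem_ker.2 (Units.ext (AddMonoidHom.ext fun w => ?_)), rfl⟩
          obtain ⟨u, rfl⟩ := e.surjective w
          rw [hUa, he]
          refine (ha ⟨z, hz⟩ u).trans ?_
          show ψ (z • (u : V)) = ψ u
          rw [hzW _ u.2]
      rw [← e1, Subgroup.card_map_of_injective Y.subtype_injective]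
    have hWc : Nat.card ↥(movV V E) = Fintype.card F ^ 2 := by
      rw [Nat.card_congr e.toEquiv, Nat.card_eq_fintype_card, Fintype.card_fun, Fintype.card_fin]
    have hCc : {w : Fin 2 → F | ∀ x, act x w = w}.ncard = Nat.card ↥(movV V E ⊓ fix Y) := by
      have hfwd : ∀ u : ↥(movV V E ⊓ fix Y), ∀ x, act x (ψ u) = ψ u := by
        rintro u ⟨_, y, rfl⟩
        show a y (ψ u) = ψ u
        rw [ha y ⟨u, u.2.1⟩, u.2.2 _ y.2]
      rw [← Nat.card_coe_set_eq]
      refine (Nat.card_congr (Equiv.ofBijective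
        (fun u : ↥(movV V E ⊓ fix Y) => (⟨ψ u, hfwd u⟩ : ↥{w : Fin 2 → F | ∀ x, act x w = w}))
        ⟨fun u v huv => Subtype.ext (congrArg (fun z : ↥(movV V E) => (z : V))
          (hbij.1 (a₁ := ⟨u, u.2.1⟩) (a₂ := ⟨v, v.2.1⟩) (congrArg Subtype.val huv))),
          fun w => ?_⟩)).symm
      obtain ⟨u, hu⟩ := e.surjective w.1
      refine ⟨⟨u, u.2, fun y hy => ?_⟩, Subtype.ext hu⟩
      have h1 := w.2 ⟨U ⟨y, hy⟩, ⟨y, hy⟩, rfl⟩
      rw [← hu, he] at h1
      have h2 : ψ (y • (u : V)) = ψ u := (ha ⟨y, hy⟩ u).symm.trans h1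
      exact congrArg Subtype.val (hbij.1 (a₁ := ⟨_, smul_movV_mem (hYn hy) u.2⟩) (a₂ := u) h2)
    rw [hCc] at hle heq
    have hYcard := card_range_mul U
    rw [hkercard] at hYcard
    refine ⟨?_, fun hge => ?_⟩
    · rw [hYcard, mul_assoc, hWc]
      exact Nat.mul_le_mul_left _ hle
    rw [hYcard, mul_assoc, hWc] at hge
    obtain ⟨hlin, hfull⟩ := heq (Nat.le_of_mul_le_mul_left hge Nat.card_pos)
    refine ⟨fun y hy => ?_, fun hYE hne => ?_⟩
    · obtain ⟨s, hs⟩ := hlin ⟨U ⟨y, hy⟩, ⟨y, hy⟩, rfl⟩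
      refine ⟨ρ.symm s, (ρ.symm s).2, fun u hu => ?_⟩
      have h2 : ψ (y • u) = ψ (((ρ.symm s : ↥E) : H) • u) := by
        rw [hψ, MulEquiv.apply_symm_apply, ← hs]
        exact (ha ⟨y, hy⟩ ⟨u, hu⟩).symm
      exact congrArg Subtype.val (hbij.1 (a₁ := ⟨_, smul_movV_mem (hYn hy) hu⟩)
        (a₂ := ⟨_, smul_mem_movV (ρ.symm s).2 hu⟩) h2)
    have hUinj : Function.Injective U := (injective_iff_map_eq_one U).2 fun y hy => Subtype.ext (by
      refine eq_one_of_fixer h.pm.faith htop (hYE y.2) fun u hu => ?_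
      have h1 : a y (ψ u) = ψ u := by rw [← hUa, hy]; rfl
      rw [ha y ⟨u, hu⟩] at h1
      exact congrArg Subtype.val (hbij.1 (a₁ := ⟨_, smul_movV_mem (hYn y.2) hu⟩)
        (a₂ := ⟨u, hu⟩) h1))
    have hnt : Nontrivial ↥U.range := by
      haveI := (Subgroup.nontrivial_iff_ne_bot Y).2 hne
      exact Function.Injective.nontrivial
        (f := U.rangeRestrict) fun y y' hyy => hUinj (congrArg Subtype.val hyy)
    obtain ⟨hcard, w₀, -, hline, -⟩ := hfull hnt
    refine ⟨?_, fun y hy v => ?_⟩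
    · rw [← hcard]
      exact Nat.card_congr (Equiv.ofBijective U.rangeRestrict
        ⟨fun y y' hyy => hUinj (congrArg Subtype.val hyy), U.rangeRestrict_surjective⟩)
    obtain ⟨u, hu, hvu⟩ := hdec v
    have e1 : y • v - v = y • u - u := by
      have := hvu y (hYE hy)
      rw [smul_sub, sub_eq_iff_eq_add] at this
      rw [this]
      abel
    rw [e1]
    intro y' hy'
    refine congrArg Subtype.val (hbij.1
      (a₁ := ⟨_, smul_movV_mem (hYn hy') (sub_mem_movV (hYE hy) u)⟩)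
      (a₂ := ⟨_, sub_mem_movV (hYE hy) u⟩) ?_)
    show ψ (y' • (y • u - u)) = ψ (y • u - u)
    rw [← ha ⟨y', hy'⟩ ⟨_, sub_mem_movV (hYE hy) u⟩, map_sub, ← ha ⟨y, hy⟩ ⟨u, hu⟩]
    exact hline ⟨U ⟨y, hy⟩, ⟨y, hy⟩, rfl⟩ ⟨U ⟨y', hy'⟩, ⟨y', hy'⟩, rfl⟩ (ψ u)
  obtain ⟨hle, heq⟩ := main X hXn hXp hXc
  refine ⟨hle, fun hge => ⟨(heq hge).1, fun hXE hne => ?_⟩⟩
  obtain ⟨hcard, hquad⟩ := (heq hge).2 hXE hne
  have hker1 : ∀ {Y : Subgroup H}, Y ≤ E → Nat.card ↥(Y ⊓ fixer (movV V E)) = 1 := fun {Y} hYE => by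
    rw [show Y ⊓ fixer (movV V E) = ⊥ from (Subgroup.eq_bot_iff_forall _).2 fun z hz =>
      eq_one_of_fixer h.pm.faith htop (hYE hz.1) hz.2, Subgroup.card_bot]
  have hmu : ∀ {Y : Subgroup H}, Y ≤ E → (Nat.card V ≤ mu V Y ↔
      Nat.card ↥(Y ⊓ fixer (movV V E)) * Nat.card ↥(movV V E) ≤
        Nat.card ↥Y * Nat.card ↥(movV V E ⊓ fix Y)) := fun {Y} hYE => by
    rw [mu, card_split hdis htop, card_fix_split hdis htop hYE, hker1 hYE, one_mul, ← mul_assoc,
      mul_comm (Nat.card ↥Y), mul_assoc, Nat.mul_le_mul_left_iff Nat.card_pos]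
  obtain ⟨B, hB, hBE⟩ := hmem
  have hBcard := (((main B (hBE.trans Subgroup.le_normalizer) (isPGroup_of_quad h.pm.faith h.pm.exp hB.quad)
    (com_self h.pm.faith hB.quad)).2 ((hmu hBE).1 (by rw [mu, hB.card, hB.eq]))).2 hBE hB.ne_bot).1
  refine ⟨X, h.of_off X hne hquad ((hmu hXE).2 hge) ?_, le_rfl⟩
  rw [hcard, ← hBcard, hB.card]

/-- One component. -/
theorem piece {E : Subgroup H} (hE : Shape V p E) (hdis : movV V E ⊓ fix E = ⊥)
    (htop : movV V E ⊔ fix E = ⊤) (hmem : ∃ B, Mem V q B ∧ B ≤ E) {X : Subgroup H}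
    (hXn : X ≤ Subgroup.normalizer (E : Set H)) (hXp : IsPGroup p ↥X) (hXc : Com X X) :
    PieceGoal V q E X := by
  obtain ⟨n, hn, hs⟩ := hE
  rcases hs with ⟨F, i1, i2, ρ, ψ, -, hsurj, hker, hψ⟩ | ⟨hp2, ρ, ψ, hsum, honto, hker, hψ⟩
  · letI := i1
    exact h.piece_sl2 hdis htop hmem ρ ψ hsurj hker hψ hXn hXp hXc
  · exact h.piece_perm hdis htop hn hp2 ρ ψ hsum honto hker hψ hXn hXp hXc

end Conf

end Cfsg.Agent.FFPM
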